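import Cfsg.Agent.Lib.Spor.Fi22GL.Mat

/-! The relations of `Fi₂₂` for the nine matrices. -/

set_option autoImplicit false
set_option maxRecDepth 100000
set_option Elab.async false

namespace CfsgLib.Spor.Fi22GL

open CfsgLib.KnownB.Fi22Mult

/-- the Coxeter relations -/
def coxOK : Bool :=
  (List.range 9).all fun i => sameW [i, i] [] && ((List.range 9).all fun j =>
    Nat.ble j i || bif edgeB i j then sameW [i, j, i] [j, i, j] else sameW [i, j] [j, i])

theorem coxOK_true : coxOK = true := by decide +kernel

theorem spider_mat : sameW (repW 10 spiderW) [] = true := by decide +kernel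

theorem sevenA_mat : sameW (repW 9 sevenA) [] = true := by decide +kernel

theorem sevenB_mat : sameW (repW 9 sevenB) [] = true := by decide +kernel

theorem gen0_ne : sameW [0] [] = false := by decide +kernel

end CfsgLib.Spor.Fi22GL
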