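import Cfsg.Agent.Lib.Spor.Fi22GL.Pack

/-! Generated data for the representation of `Fi₂₂` of degree 78 modulo 13. -/

set_option autoImplicit false
set_option maxRecDepth 100000

namespace CfsgLib.Spor.Fi22GL

/-- the shape of all trees of rows -/
def natT : RT ℕ := (.node (.node (.node (.node (.node (.node (.leaf 0) (.leaf 1)) (.node (.leaf 2) (.leaf 3))) (.node (.node (.leaf 4) (.leaf 5)) (.node (.leaf 6) (.node (.leaf 7) (.leaf 8))))) (.node (.node (.node (.leaf 9) (.leaf 10)) (.node (.leaf 11) (.node (.leaf 12) (.leaf 13)))) (.node (.node (.leaf 14) (.leaf 15)) (.node (.leaf 16) (.node (.leaf 17) (.leaf 18)))))) (.node (.node (.node (.node (.leaf 19) (.leaf 20)) (.node (.leaf 21) (.node (.leaf 22) (.leaf 23)))) (.node (.node (.leaf 24) (.leaf 25)) (.node (.leaf 26) (.node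 (.leaf 27) (.leaf 28))))) (.node (.node (.node (.leaf 29) (.leaf 30)) (.node (.leaf 31) (.node (.leaf 32) (.leaf 33)))) (.node (.node (.leaf 34) (.leaf 35)) (.node (.leaf 36) (.node (.leaf 37) (.leaf 38))))))) (.node (.node (.node (.node (.node (.leaf 39) (.leaf 40)) (.node (.leaf 41) (.leaf 42))) (.node (.node (.leaf 43) (.leaf 44)) (.node (.leaf 45) (.node (.leaf 46) (.leaf 47))))) (.node (.node (.node (.leaf 48) (.leaf 49)) (.node (.leaf 50) (.node (.leaf 51) (.leaf 52)))) (.node (.node (.leaf 53) (.leaf 54)) (.node (.leaf 55) (.node (.leaf 56) (.leaf 57)))))) (.node (.node (.node (.node (.leaf 58) (.leaf 59)) (.node (.leaf 60) (.node (.leaf 61) (.leaf 62)))) (.node (.node (.leaf 63) (.leaf 64)) (.node (.leaf 65) (.node (.leaf 66) (.leaf 67))))) (.node (.node (.node (.leaf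 68) (.leaf 69)) (.node (.leaf 70) (.node (.leaf 71) (.leaf 72)))) (.node (.node (.leaf 73) (.leaf 74)) (.node (.leaf 75) (.node (.leaf 76) (.leaf 77))))))))

/-- the mask for 78 lanes -/
def msk : ℕ := 22395626822337231107532931541390275263920565829567106787283247576921286191884915686736118556944942457741572344212536176722887714897676461095505274947867138944112176693827256518009709394653124548042561414755376659382651846075115548405717497912684428886003150326707979512995834527610013178448004438935363824558001307959950888926291806995595662330824211677918814643161340155236742077288590907861933636597125707341044624213511966004792718952021485530669157893031430095860294164185951543356461612916232240555291634898681124705521838758121594450331139507220319110888555536630075185440910491430749798298497850455117713871253484226948928385242426759696049735141951197174445300717737512775447819793083173040639892280135936521232716297635814740601748852735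

/-- the rows of generator 0 -/
def rows0 : RT CT :=
  (.node (.node (.node (.node (.node (.node (.leaf (.n (.n (.n (.n (.n (.n (.c 1) .z) .z) .z) .z) .z) .z))
  (.leaf (.n (.n (.n (.n (.n (.n .z (.c 1)) .z) .z) .z) .z) .z)))
  (.node (.leaf (.n (.n (.n (.n (.n .z (.n (.c 1) .z)) .z) .z) .z) .z))
  (.leaf (.n (.n (.n (.n (.n .z (.n .z (.c 1))) .z) .z) .z) .z))))
  (.node (.node (.leaf (.n (.n (.n (.n .z (.n (.n (.c 1) .z) .z)) .z) .z) .z))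
  (.leaf (.n (.n (.n (.n .z (.n (.n .z (.c 1)) .z)) .z) .z) .z)))
  (.node (.leaf (.n (.n (.n (.n .z (.n .z (.n (.c 1) .z))) .z) .z) .z))
  (.node (.leaf (.n (.n (.n (.n .z (.n .z (.n .z (.n (.c 1) .z)))) .z) .z) .z))
  (.leaf (.n (.n (.n (.n .z (.n .z (.n .z (.n .z (.c 1))))) .z) .z) .z))))))
  (.node (.node (.node (.leaf (.n (.n (.n .z (.n (.n (.n (.c 1) .z) .z) .z)) .z) .z))
  (.leaf (.n (.n (.n .z (.n (.n (.n .z (.c 1)) .z) .z)) .z) .z)))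
  (.node (.leaf (.n (.n (.n .z (.n (.n .z (.n (.c 1) .z)) .z)) .z) .z))
  (.node (.leaf (.n (.n (.n .z (.n (.n .z (.n .z (.n (.c 1) .z))) .z)) .z) .z))
  (.leaf (.n (.n (.n .z (.n (.n .z (.n .z (.n .z (.c 1)))) .z)) .z) .z)))))
  (.node (.node (.leaf (.n (.n (.n .z (.n .z (.n (.n (.c 1) .z) .z))) .z) .z))
  (.leaf (.n (.n (.n .z (.n .z (.n (.n .z (.c 1)) .z))) .z) .z)))
  (.node (.leaf (.n (.n (.n .z (.n .z (.n .z (.n (.c 1) .z)))) .z) .z))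
  (.node (.leaf (.n (.n (.n .z (.n .z (.n .z (.n .z (.n (.c 1) .z))))) .z) .z))
  (.leaf (.n (.n (.n .z (.n .z (.n .z (.n .z (.n .z (.c 1)))))) .z) .z)))))))
  (.node (.node (.node (.node (.leaf (.n (.n .z (.n (.n (.n (.n (.c 1) .z) .z) .z) .z)) .z))
  (.leaf (.n (.n .z (.n (.n (.n (.n .z (.c 1)) .z) .z) .z)) .z)))
  (.node (.leaf (.n (.n .z (.n (.n (.n .z (.n (.c 1) .z)) .z) .z)) .z))
  (.node (.leaf (.n (.n .z (.n (.n (.n .z (.n .z (.n (.c 12) .z))) .z) .z)) .z))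
  (.leaf (.n (.n .z (.n (.n (.n .z (.n .z (.n .z (.c 12)))) .z) .z)) .z)))))
  (.node (.node (.leaf (.n (.n .z (.n (.n .z (.n (.n (.c 12) .z) .z)) .z)) .z))
  (.leaf (.n (.n .z (.n (.n .z (.n (.n .z (.c 12)) .z)) .z)) .z)))
  (.node (.leaf (.n (.n .z (.n (.n .z (.n .z (.n (.c 12) .z))) .z)) .z))
  (.node (.leaf (.n (.n .z (.n (.n .z (.n .z (.n .z (.n (.c 12) .z)))) .z)) .z))
  (.leaf (.n (.n .z (.n (.n .z (.n .z (.n .z (.n .z (.c 12))))) .z)) .z))))))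
  (.node (.node (.node (.leaf (.n (.n .z (.n .z (.n (.n (.n (.c 12) .z) .z) .z))) .z))
  (.leaf (.n (.n .z (.n .z (.n (.n (.n .z (.c 12)) .z) .z))) .z)))
  (.node (.leaf (.n (.n .z (.n .z (.n (.n .z (.n (.c 12) .z)) .z))) .z))
  (.node (.leaf (.n (.n .z (.n .z (.n (.n .z (.n .z (.n (.c 12) .z))) .z))) .z))
  (.leaf (.n (.n .z (.n .z (.n (.n .z (.n .z (.n .z (.c 12)))) .z))) .z)))))
  (.node (.node (.leaf (.n (.n .z (.n .z (.n .z (.n (.n (.c 12) .z) .z)))) .z))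
  (.leaf (.n (.n .z (.n .z (.n .z (.n (.n .z (.c 12)) .z)))) .z)))
  (.node (.leaf (.n (.n .z (.n .z (.n .z (.n .z (.n (.c 12) .z))))) .z))
  (.node (.leaf (.n (.n .z (.n .z (.n .z (.n .z (.n .z (.n (.c 12) .z)))))) .z))
  (.leaf (.n (.n .z (.n .z (.n .z (.n .z (.n .z (.n .z (.c 12))))))) .z))))))))
  (.node (.node (.node (.node (.node (.leaf (.n .z (.n (.n (.n (.n (.n (.c 12) .z) .z) .z) .z) .z)))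
  (.leaf (.n .z (.n (.n (.n (.n (.n .z (.c 12)) .z) .z) .z) .z))))
  (.node (.leaf (.n .z (.n (.n (.n (.n .z (.n (.c 12) .z)) .z) .z) .z)))
  (.leaf (.n .z (.n (.n (.n (.n .z (.n .z (.c 12))) .z) .z) .z)))))
  (.node (.node (.leaf (.n .z (.n (.n (.n .z (.n (.n (.c 12) .z) .z)) .z) .z)))
  (.leaf (.n .z (.n (.n (.n .z (.n (.n .z (.c 12)) .z)) .z) .z))))
  (.node (.leaf (.n .z (.n (.n (.n .z (.n .z (.n (.c 12) .z))) .z) .z)))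
  (.node (.leaf (.n .z (.n (.n (.n .z (.n .z (.n .z (.n (.c 12) .z)))) .z) .z)))
  (.leaf (.n .z (.n (.n (.n .z (.n .z (.n .z (.n .z (.c 12))))) .z) .z)))))))
  (.node (.node (.node (.leaf (.n .z (.n (.n .z (.n (.n (.n (.c 12) .z) .z) .z)) .z)))
  (.leaf (.n .z (.n (.n .z (.n (.n (.n .z (.c 12)) .z) .z)) .z))))
  (.node (.leaf (.n .z (.n (.n .z (.n (.n .z (.n (.c 12) .z)) .z)) .z)))
  (.node (.leaf (.n .z (.n (.n .z (.n (.n .z (.n .z (.n (.c 12) .z))) .z)) .z)))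
  (.leaf (.n .z (.n (.n .z (.n (.n .z (.n .z (.n .z (.c 12)))) .z)) .z))))))
  (.node (.node (.leaf (.n .z (.n (.n .z (.n .z (.n (.n (.c 12) .z) .z))) .z)))
  (.leaf (.n .z (.n (.n .z (.n .z (.n (.n .z (.c 12)) .z))) .z))))
  (.node (.leaf (.n .z (.n (.n .z (.n .z (.n .z (.n (.c 12) .z)))) .z)))
  (.node (.leaf (.n .z (.n (.n .z (.n .z (.n .z (.n .z (.n (.c 12) .z))))) .z)))
  (.leaf (.n .z (.n (.n .z (.n .z (.n .z (.n .z (.n .z (.c 12)))))) .z))))))))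
  (.node (.node (.node (.node (.leaf (.n .z (.n .z (.n (.n (.n (.n (.c 12) .z) .z) .z) .z))))
  (.leaf (.n .z (.n .z (.n (.n (.n (.n .z (.c 12)) .z) .z) .z)))))
  (.node (.leaf (.n .z (.n .z (.n (.n (.n .z (.n (.c 12) .z)) .z) .z))))
  (.node (.leaf (.n .z (.n .z (.n (.n (.n .z (.n .z (.n (.c 12) .z))) .z) .z))))
  (.leaf (.n .z (.n .z (.n (.n (.n .z (.n .z (.n .z (.c 12)))) .z) .z)))))))
  (.node (.node (.leaf (.n .z (.n .z (.n (.n .z (.n (.n (.c 12) .z) .z)) .z))))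
  (.leaf (.n .z (.n .z (.n (.n .z (.n (.n .z (.c 12)) .z)) .z)))))
  (.node (.leaf (.n .z (.n .z (.n (.n .z (.n .z (.n (.c 12) .z))) .z))))
  (.node (.leaf (.n .z (.n .z (.n (.n .z (.n .z (.n .z (.n (.c 12) .z)))) .z))))
  (.leaf (.n .z (.n .z (.n (.n .z (.n .z (.n .z (.n .z (.c 12))))) .z))))))))
  (.node (.node (.node (.leaf (.n .z (.n .z (.n .z (.n (.n (.n (.c 12) .z) .z) .z)))))
  (.leaf (.n .z (.n .z (.n .z (.n (.n (.n .z (.c 12)) .z) .z))))))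
  (.node (.leaf (.n .z (.n .z (.n .z (.n (.n .z (.n (.c 12) .z)) .z)))))
  (.node (.leaf (.n .z (.n .z (.n .z (.n (.n .z (.n .z (.n (.c 12) .z))) .z)))))
  (.leaf (.n .z (.n .z (.n .z (.n (.n .z (.n .z (.n .z (.c 12)))) .z))))))))
  (.node (.node (.leaf (.n .z (.n .z (.n .z (.n .z (.n (.n (.c 12) .z) .z))))))
  (.leaf (.n .z (.n .z (.n .z (.n .z (.n (.n .z (.c 12)) .z)))))))
  (.node (.leaf (.n .z (.n .z (.n .z (.n .z (.n .z (.n (.c 12) .z)))))))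
  (.node (.leaf (.n .z (.n .z (.n .z (.n .z (.n .z (.n .z (.n (.c 12) .z))))))))
  (.leaf (.n .z (.n .z (.n .z (.n .z (.n .z (.n .z (.n .z (.c 12))))))))))))))))

/-- the rows of generator 1 -/
def rows1 : RT CT :=
  (.node (.node (.node (.node (.node (.node (.leaf (.n (.n (.n (.n (.n (.n (.c 2) (.c 8)) (.n (.c 6) (.c 4))) (.n (.n (.c 2) (.c 1)) (.n (.c 7) (.n (.c 1) (.c 4))))) (.n (.n (.n (.c 9) (.c 4)) (.n (.c 8) (.n (.c 10) (.c 3)))) (.n (.n (.c 11) .z) (.n (.c 9) (.n (.c 10) (.c 2)))))) (.n (.n (.n (.n (.c 12) (.c 3)) (.n (.c 9) (.n (.c 1) (.c 4)))) (.n (.n .z (.c 9)) (.n (.c 1) (.n (.c 4) (.c 4))))) (.n (.n (.n (.c 11) (.c 1)) (.n (.c 1) (.n (.c 1) (.c 3)))) (.n (.n (.c 10) (.c 3)) (.n (.c 2) (.n (.c 4) (.c 12))))))) (.n (.n (.n (.n (.n (.c 5) (.c 6)) (.n (.c 8) (.c 12)))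 (.n (.n (.c 5) (.c 10)) (.n (.c 4) (.n (.c 10) (.c 3))))) (.n (.n (.n (.c 3) (.c 10)) (.n (.c 1) (.n (.c 3) (.c 10)))) (.n (.n (.c 8) (.c 7)) (.n (.c 7) (.n (.c 5) (.c 9)))))) (.n (.n (.n (.n (.c 10) (.c 2)) (.n (.c 9) (.n (.c 11) (.c 6)))) (.n (.n (.c 1) (.c 6)) (.n (.c 2) (.n (.c 12) (.c 1))))) (.n (.n (.n (.c 5) (.c 11)) (.n (.c 8) (.n (.c 10) (.c 2)))) (.n (.n (.c 3) (.c 7)) (.n (.c 8) (.n (.c 5) (.c 5)))))))))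
  (.leaf (.n (.n (.n (.n (.n (.n .z (.c 6)) .z) .z) .z) (.n (.n (.n .z (.n .z (.n (.c 12) (.c 8)))) (.n (.n (.c 5) (.c 6)) (.n (.c 9) (.n (.c 10) (.c 1))))) (.n (.n (.n (.c 1) (.c 5)) (.n (.c 5) (.n (.c 11) (.c 1)))) (.n (.n (.c 5) (.c 7)) (.n (.c 10) (.n (.c 5) .z)))))) (.n (.n (.n (.n (.n (.c 6) .z) (.n (.c 7) (.c 10))) (.n (.n (.c 3) (.c 1)) (.n (.c 9) (.n (.c 1) (.c 8))))) (.n (.n (.n (.c 2) (.c 8)) (.n (.c 7) (.n (.c 10) (.c 8)))) (.n (.n (.c 5) (.c 11)) (.n (.c 10) (.n (.c 2) (.c 9)))))) (.n (.n (.n (.n (.c 10) (.c 9)) (.n (.c 1) (.n (.c 3) (.c 9)))) (.n (.n (.c 6) (.c 8)) (.n (.c 4) (.n (.c 1) (.c 8))))) (.n (.n (.n (.c 2) (.c 3)) (.n (.c 10) (.n (.c 3) (.c 3)))) (.n (.n (.c 7) .z) (.n (.c 1) (.n (.c 9) (.c 8))))))))))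
  (.node (.leaf (.n (.n (.n (.n (.n .z (.n (.c 6) .z)) .z) .z) (.n (.n (.n .z (.n .z (.n (.c 2) (.c 11)))) (.n (.n .z (.c 11)) (.n (.c 11) (.n (.c 3) (.c 2))))) (.n (.n (.n (.c 7) (.c 2)) (.n (.c 2) (.n (.c 12) (.c 8)))) (.n (.n .z (.c 11)) (.n (.c 5) (.n (.c 6) (.c 10))))))) (.n (.n (.n (.n (.n (.c 11) (.c 2)) (.n (.c 10) (.c 8))) (.n (.n (.c 2) (.c 3)) (.n (.c 3) (.n (.c 12) (.c 6))))) (.n (.n (.n (.c 5) (.c 6)) (.n (.c 1) (.n (.c 12) .z))) (.n (.n (.c 11) (.c 5)) (.n (.c 3) (.n (.c 10) (.c 3)))))) (.n (.n (.n (.n (.c 11) (.c 3)) (.n (.c 3) (.n (.c 1) (.c 11)))) (.n (.n (.c 2) (.c 11)) (.n (.c 4) (.n (.c 10) (.c 3))))) (.n (.n (.n (.c 3) (.c 5)) (.n (.c 5) (.n .z (.c 2)))) (.n (.n (.c 1) (.c 9)) (.n (.c 5) (.n .z (.c 11)))))))))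
  (.leaf (.n (.n (.n (.n (.n .z (.n .z (.c 6))) .z) .z) (.n (.n (.n .z (.n .z (.n (.c 8) (.c 4)))) (.n (.n (.c 7) (.c 11)) (.n (.c 4) (.n (.c 8) (.c 12))))) (.n (.n (.n (.c 5) (.c 3)) (.n (.c 7) (.n (.c 11) (.c 5)))) (.n (.n (.c 5) (.c 1)) (.n (.c 10) (.n (.c 6) (.c 8))))))) (.n (.n (.n (.n (.n (.c 11) (.c 1)) (.n (.c 1) (.c 6))) (.n (.n (.c 9) .z) (.n (.c 6) (.n (.c 7) (.c 2))))) (.n (.n (.n (.c 8) (.c 2)) (.n (.c 3) (.n (.c 11) (.c 7)))) (.n (.n (.c 9) (.c 2)) (.n (.c 11) (.n .z (.c 11)))))) (.n (.n (.n (.n .z (.c 4)) (.n (.c 8) (.n (.c 12) .z))) (.n (.n (.c 12) .z) (.n (.c 3) (.n (.c 1) .z)))) (.n (.n (.n (.c 4) (.c 11)) (.n (.c 6) (.n (.c 3) (.c 6)))) (.n (.n (.c 9) (.c 1)) (.n (.c 6) (.n (.c 3) (.c 7)))))))))))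
  (.node (.node (.leaf (.n (.n (.n (.n .z (.n (.n (.c 6) .z) .z)) .z) (.n (.n (.n .z (.n .z (.n (.c 12) (.c 2)))) (.n (.n (.c 4) (.c 4)) (.n (.c 9) (.n .z (.c 4))))) (.n (.n (.n (.c 11) (.c 3)) (.n (.c 6) (.n (.c 9) (.c 1)))) (.n (.n (.c 7) (.c 8)) (.n (.c 9) (.n (.c 6) (.c 6))))))) (.n (.n (.n (.n (.n (.c 11) (.c 2)) (.n (.c 4) .z)) (.n (.n (.c 2) (.c 10)) (.n (.c 3) (.n .z (.c 1))))) (.n (.n (.n (.c 5) (.c 9)) (.n (.c 6) (.n (.c 10) (.c 3)))) (.n (.n (.c 3) .z) (.n (.c 5) (.n .z (.c 3)))))) (.n (.n (.n (.n (.c 10) (.c 12)) (.n (.c 8) (.n (.c 9) (.c 4)))) (.n (.n (.c 11) (.c 7)) (.n (.c 2) (.n (.c 2) (.c 1))))) (.n (.n (.n (.c 2) (.c 9)) (.n (.c 7) (.n (.c 6) (.c 1)))) (.n (.n (.c 3) .z) (.n (.c 3) (.n (.c 10) (.c 2)))))))))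
  (.leaf (.n (.n (.n (.n .z (.n (.n .z (.c 6)) .z)) .z) (.n (.n (.n .z (.n .z (.n (.c 1) (.c 11)))) (.n (.n (.c 7) .z) (.n (.c 5) (.n (.c 4) (.c 9))))) (.n (.n (.n (.c 11) (.c 3)) (.n (.c 11) (.n (.c 5) (.c 12)))) (.n (.n (.c 9) (.c 9)) (.n (.c 2) (.n (.c 2) (.c 6))))))) (.n (.n (.n (.n (.n .z (.c 6)) (.n (.c 7) (.c 6))) (.n (.n (.c 5) (.c 6)) (.n (.c 5) (.n (.c 3) (.c 7))))) (.n (.n (.n (.c 10) (.c 5)) (.n (.c 2) (.n (.c 2) .z))) (.n (.n (.c 8) (.c 11)) (.n (.c 9) (.n (.c 2) (.c 7)))))) (.n (.n (.n (.n (.c 4) (.c 12)) (.n (.c 2) (.n (.c 7) (.c 3)))) (.n (.n (.c 4) (.c 1)) (.n (.c 3) (.n (.c 9) (.c 7))))) (.n (.n (.n (.c 9) (.c 7)) (.n (.c 10) (.n (.c 3) (.c 9)))) (.n (.n (.c 2) (.c 11)) (.n (.c 12) (.n (.c 1) (.c 12))))))))))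
  (.node (.leaf (.n (.n (.n (.n .z (.n .z (.n (.c 6) .z))) .z) (.n (.n (.n .z (.n .z (.n (.c 11) (.c 3)))) (.n (.n (.c 1) (.c 12)) (.n (.c 9) (.n (.c 2) (.c 7))))) (.n (.n (.n (.c 6) (.c 5)) (.n (.c 3) (.n (.c 9) (.c 9)))) (.n (.n (.c 1) (.c 8)) (.n (.c 5) (.n (.c 1) (.c 2))))))) (.n (.n (.n (.n (.n (.c 4) (.c 5)) (.n (.c 10) .z)) (.n (.n (.c 7) (.c 12)) (.n (.c 3) (.n (.c 1) (.c 3))))) (.n (.n (.n (.c 12) (.c 6)) (.n (.c 8) (.n (.c 3) (.c 3)))) (.n (.n (.c 7) (.c 7)) (.n .z (.n (.c 1) (.c 2)))))) (.n (.n (.n (.n .z (.c 3)) (.n (.c 12) (.n (.c 4) (.c 2)))) (.n (.n (.c 4) (.c 5)) (.n (.c 7) (.n (.c 12) (.c 6))))) (.n (.n (.n (.c 6) (.c 9)) (.n (.c 8) (.n (.c 3) (.c 12)))) (.n (.n (.c 7) (.c 8)) (.n (.c 3) (.n (.c 2) (.c 6)))))))))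
  (.node (.leaf (.n (.n (.n (.n .z (.n .z (.n .z (.n (.c 6) .z)))) .z) (.n (.n (.n .z (.n .z (.n (.c 10) (.c 6)))) (.n (.n (.c 1) (.c 12)) (.n (.c 12) (.n (.c 5) (.c 11))))) (.n (.n (.n (.c 10) (.c 9)) (.n (.c 7) (.n (.c 6) (.c 9)))) (.n (.n (.c 1) (.c 1)) (.n (.c 7) (.n (.c 4) (.c 2))))))) (.n (.n (.n (.n (.n (.c 9) (.c 6)) (.n (.c 2) (.c 9))) (.n (.n (.c 7) (.c 5)) (.n (.c 12) (.n (.c 4) (.c 2))))) (.n (.n (.n (.c 6) (.c 3)) (.n (.c 1) (.n (.c 3) (.c 2)))) (.n (.n (.c 11) (.c 5)) (.n (.c 2) (.n (.c 4) (.c 12)))))) (.n (.n (.n (.n (.c 11) (.c 9)) (.n (.c 4) (.n (.c 8) (.c 10)))) (.n (.n (.c 4) (.c 9)) (.n .z (.n (.c 9) (.c 4))))) (.n (.n (.n (.c 2) (.c 11)) (.n (.c 4) (.n (.c 2) (.c 3)))) (.n (.n (.c 7) (.c 12)) (.n (.c 5) (.n (.c 5) (.c 1)))))))))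
  (.leaf (.n (.n (.n (.n (.n (.n (.c 3) (.c 7)) (.n (.c 2) (.c 10))) (.n (.n (.c 5) (.c 9)) (.n (.c 11) (.n (.c 9) (.c 3))))) (.n (.n (.n (.c 3) (.c 10)) (.n (.c 7) (.n (.c 12) (.c 1)))) (.n (.n (.c 8) .z) (.n (.c 3) (.n (.c 12) (.c 5)))))) (.n (.n (.n (.n (.c 4) (.c 1)) (.n (.c 3) (.n (.c 11) (.c 10)))) (.n (.n (.c 7) (.c 4)) (.n (.c 12) (.n (.c 4) (.c 11))))) (.n (.n (.n (.c 6) (.c 6)) (.n (.c 5) (.n (.c 11) (.c 6)))) (.n (.n (.c 8) (.c 7)) (.n (.c 6) (.n (.c 8) (.c 1))))))) (.n (.n (.n (.n (.n (.c 7) .z) (.n (.c 6) (.c 11))) (.n (.n (.c 4) (.c 1)) (.n (.c 5) (.n (.c 9) (.c 5))))) (.n (.n (.n (.c 9) (.c 3)) (.n (.c 7) (.n (.c 10) (.c 12)))) (.n (.n (.c 11) (.c 5)) (.n .z (.n (.c 9) (.c 1)))))) (.n (.n (.n (.n (.c 1) (.c 5)) (.n (.c 6) (.n (.c 12) (.c 7)))) (.n (.n (.c 7) (.c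 1)) (.n (.c 3) (.n (.c 10) (.c 8))))) (.n (.n (.n (.c 11) (.c 8)) (.n (.c 5) (.n (.c 8) (.c 1)))) (.n (.n (.c 1) (.c 2)) (.n (.c 11) (.n (.c 2) (.c 6)))))))))))))
  (.node (.node (.node (.leaf (.n (.n (.n .z (.n (.n (.n (.c 6) .z) .z) .z)) (.n (.n (.n .z (.n .z (.n (.c 12) (.c 1)))) (.n (.n (.c 11) (.c 11)) (.n (.c 7) (.n (.c 8) (.c 8))))) (.n (.n (.n (.c 1) (.c 2)) (.n (.c 8) (.n (.c 7) (.c 2)))) (.n (.n (.c 5) (.c 1)) (.n (.c 8) (.n (.c 8) .z)))))) (.n (.n (.n (.n (.n (.c 9) (.c 2)) (.n .z (.c 6))) (.n (.n (.c 5) .z) (.n (.c 11) (.n (.c 7) (.c 2))))) (.n (.n (.n (.c 7) .z) (.n (.c 11) (.n (.c 8) .z))) (.n (.n (.c 6) (.c 8)) (.n (.c 4) (.n (.c 7) (.c 2)))))) (.n (.n (.n (.n (.c 11) (.c 11)) (.n (.c 11) (.n (.c 5) (.c 3)))) (.n (.n (.c 3) (.c 10)) (.n (.c 7) (.n (.c 11) (.c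 9))))) (.n (.n (.n (.c 6) (.c 9)) (.n (.c 10) (.n (.c 3) (.c 9)))) (.n (.n (.c 9) (.c 12)) (.n (.c 8) (.n (.c 9) (.c 9)))))))))
  (.leaf (.n (.n (.n .z (.n (.n (.n .z (.c 6)) .z) .z)) (.n (.n (.n .z (.n .z (.n (.c 8) (.c 1)))) (.n (.n (.c 12) (.c 3)) (.n (.c 5) (.n (.c 1) (.c 3))))) (.n (.n (.n (.c 6) (.c 10)) (.n (.c 3) (.n (.c 3) (.c 10)))) (.n (.n (.c 3) (.c 2)) (.n .z (.n (.c 7) (.c 1))))))) (.n (.n (.n (.n (.n (.c 11) .z) (.n (.c 12) (.c 9))) (.n (.n (.c 1) (.c 1)) (.n (.c 6) (.n (.c 6) (.c 8))))) (.n (.n (.n (.c 1) (.c 8)) (.n (.c 3) (.n (.c 6) (.c 11)))) (.n (.n (.c 7) (.c 2)) (.n (.c 10) (.n (.c 10) .z))))) (.n (.n (.n (.n (.c 5) (.c 3)) (.n (.c 8) (.n (.c 9) (.c 8)))) (.n (.n (.c 4) (.c 9)) (.n (.c 7) (.n (.c 3) (.c 8))))) (.n (.n (.n (.c 10) (.c 9)) (.n (.c 3) (.n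 (.c 11) (.c 5)))) (.n (.n (.c 9) (.c 11)) (.n (.c 4) (.n (.c 6) (.c 6))))))))))
  (.node (.leaf (.n (.n (.n .z (.n (.n .z (.n (.c 6) .z)) .z)) (.n (.n (.n .z (.n .z (.n (.c 12) (.c 3)))) (.n (.n (.c 11) (.c 1)) (.n (.c 10) (.n (.c 2) (.c 7))))) (.n (.n (.n (.c 9) (.c 4)) (.n (.c 10) (.n (.c 4) (.c 2)))) (.n (.n .z (.c 6)) (.n (.c 4) (.n (.c 4) (.c 1))))))) (.n (.n (.n (.n (.n (.c 3) (.c 10)) (.n (.c 10) (.c 2))) (.n (.n (.c 8) .z) (.n (.c 4) (.n (.c 12) (.c 1))))) (.n (.n (.n (.c 11) (.c 12)) (.n (.c 12) (.n (.c 5) (.c 2)))) (.n (.n (.c 7) (.c 10)) (.n (.c 10) (.n (.c 7) (.c 7)))))) (.n (.n (.n (.n (.c 4) (.c 6)) (.n (.c 11) (.n (.c 11) (.c 5)))) (.n (.n (.c 8) (.c 8)) (.n (.c 12) (.n (.c 11) .z)))) (.n (.n (.n (.c 10) (.c 9)) (.n (.c 12) (.n (.c 6) (.c 10)))) (.n (.n (.c 6)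 (.c 5)) (.n (.c 8) (.n (.c 8) (.c 6)))))))))
  (.node (.leaf (.n (.n (.n .z (.n (.n .z (.n .z (.n (.c 6) .z))) .z)) (.n (.n (.n .z (.n .z (.n (.c 7) .z))) (.n (.n (.c 5) (.c 4)) (.n (.c 9) (.n (.c 12) (.c 6))))) (.n (.n (.n (.c 2) (.c 12)) (.n (.c 8) (.n (.c 5) (.c 11)))) (.n (.n (.c 8) (.c 1)) (.n (.c 6) (.n (.c 10) (.c 7))))))) (.n (.n (.n (.n (.n (.c 1) (.c 3)) (.n .z (.c 4))) (.n (.n (.c 7) (.c 5)) (.n (.c 11) (.n (.c 4) (.c 11))))) (.n (.n (.n (.c 8) (.c 1)) (.n .z (.n (.c 9) (.c 7)))) (.n (.n (.c 10) (.c 11)) (.n (.c 2) (.n (.c 6) (.c 8)))))) (.n (.n (.n (.n (.c 9) (.c 5)) (.n (.c 12) (.n (.c 5) (.c 6)))) (.n (.n (.c 9) (.c 6)) (.n (.c 12) (.n (.c 2) (.c 2))))) (.n (.n (.n (.c 3) (.c 6)) (.n (.c 2) (.n (.c 8) (.c 12)))) (.n (.n (.c 11) (.c 12)) (.n (.c 4) (.n (.c 9) (.c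 1)))))))))
  (.leaf (.n (.n (.n .z (.n (.n .z (.n .z (.n .z (.c 6)))) .z)) (.n (.n (.n .z (.n .z (.n (.c 3) (.c 6)))) (.n (.n (.c 5) (.c 7)) (.n (.c 7) (.n (.c 10) .z)))) (.n (.n (.n (.c 10) (.c 4)) (.n (.c 5) (.n (.c 4) (.c 5)))) (.n (.n (.c 7) (.c 10)) (.n (.c 4) (.n (.c 8) (.c 7))))))) (.n (.n (.n (.n (.n (.c 4) (.c 9)) (.n (.c 12) (.c 3))) (.n (.n (.c 3) (.c 11)) (.n (.c 1) (.n (.c 11) (.c 5))))) (.n (.n (.n (.c 12) (.c 10)) (.n (.c 10) (.n (.c 9) (.c 7)))) (.n (.n (.c 3) (.c 2)) (.n (.c 3) (.n (.c 8) (.c 10)))))) (.n (.n (.n (.n (.c 3) (.c 3)) (.n (.c 11) (.n (.c 3) (.c 10)))) (.n (.n (.c 6) (.c 8)) (.n (.c 9) (.n (.c 3) (.c 10))))) (.n (.n (.n .z (.c 7)) (.n (.c 10) (.n (.c 1) (.c 10)))) (.n (.n (.c 4) (.c 1)) (.n (.c 12) (.n (.c 1) (.c 5))))))))))))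
  (.node (.node (.leaf (.n (.n (.n .z (.n .z (.n (.n (.c 6) .z) .z))) (.n (.n (.n .z (.n .z (.n (.c 8) (.c 12)))) (.n (.n (.c 1) (.c 10)) (.n (.c 4) (.n (.c 12) (.c 5))))) (.n (.n (.n (.c 2) (.c 4)) (.n (.c 10) (.n (.c 5) (.c 9)))) (.n (.n (.c 10) (.c 7)) (.n (.c 9) (.n (.c 6) (.c 5))))))) (.n (.n (.n (.n (.n (.c 10) (.c 5)) (.n (.c 1) .z)) (.n (.n (.c 1) (.c 5)) (.n (.c 1) (.n (.c 9) (.c 3))))) (.n (.n (.n (.c 10) (.c 7)) (.n (.c 9) (.n (.c 6) .z))) (.n (.n (.c 10) (.c 11)) (.n .z (.n (.c 11) (.c 3)))))) (.n (.n (.n (.n (.c 2) (.c 9)) (.n (.c 6) (.n (.c 3) (.c 3)))) (.n (.n (.c 3) (.c 5)) (.n (.c 8) (.n .z (.c 1))))) (.n (.n (.n (.c 7) (.c 10)) (.n (.c 9) (.n (.c 9) (.c 8)))) (.n (.n (.c 9) (.c 8)) (.n (.c 7) (.n (.c 11) (.c 12)))))))))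
  (.leaf (.n (.n (.n (.n (.n (.n (.c 10) (.c 6)) (.n (.c 11) (.c 3))) (.n (.n (.c 8) (.c 4)) (.n (.c 2) (.n (.c 4) (.c 3))))) (.n (.n (.n (.c 10) (.c 3)) (.n (.c 6) (.n (.c 1) (.c 12)))) (.n (.n (.c 5) (.c 6)) (.n (.c 10) (.n (.c 1) (.c 8)))))) (.n (.n (.n (.n (.c 9) (.c 12)) (.n (.c 10) (.n (.c 10) (.c 8)))) (.n (.n (.c 2) .z) (.n (.c 12) (.n (.c 11) (.c 3))))) (.n (.n (.n (.c 12) (.c 9)) (.n (.c 7) (.n (.c 2) (.c 7)))) (.n (.n (.c 6) (.c 6)) (.n (.c 8) (.n (.c 5) .z)))))) (.n (.n (.n (.n (.n (.c 1) (.c 7)) (.n (.c 9) (.c 12))) (.n (.n .z (.c 5)) (.n (.c 7) (.n (.c 12) (.c 5))))) (.n (.n (.n (.c 4) (.c 11)) (.n (.c 10) (.n (.c 11) (.c 6)))) (.n (.n (.c 12) (.c 7)) (.n (.c 2) (.n (.c 12) (.c 4)))))) (.n (.n (.n (.n (.c 2) (.c 6)) (.n (.c 4) (.n (.c 1) (.c 1)))) (.n (.n (.c 11)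 (.c 1)) (.n (.c 8) (.n (.c 1) (.c 5))))) (.n (.n (.n (.c 9) (.c 3)) (.n (.c 4) (.n (.c 11) (.c 2)))) (.n (.n (.c 9) (.c 6)) (.n (.c 2) (.n (.c 7) (.c 6))))))))))
  (.node (.leaf (.n (.n (.n (.n (.n (.n (.c 10) (.c 6)) (.n (.c 11) (.c 3))) (.n (.n (.c 8) (.c 4)) (.n (.c 2) (.n (.c 4) (.c 3))))) (.n (.n (.n (.c 10) (.c 3)) (.n (.c 6) (.n (.c 1) (.c 12)))) (.n (.n (.c 5) .z) (.n (.c 3) (.n (.c 1) (.c 8)))))) (.n (.n (.n (.n (.c 9) (.c 12)) (.n (.c 10) (.n (.c 6) (.c 1)))) (.n (.n (.c 10) (.c 11)) (.n (.c 6) (.n (.c 5) (.c 1))))) (.n (.n (.n (.c 12) (.c 2)) (.n (.c 8) (.n (.c 9) (.c 11)))) (.n (.n (.c 6) (.c 3)) (.n (.c 3) (.n (.c 12) (.c 8))))))) (.n (.n (.n (.n (.n (.c 8) .z) (.n (.c 12) (.c 10))) (.n (.n (.c 10) (.c 8)) (.n (.c 1) (.n (.c 5) (.c 4))))) (.n (.n .z (.n .z (.n (.c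 9) (.c 1)))) (.n (.n (.c 1) (.c 4)) (.n (.c 8) (.n (.c 9) (.c 7)))))) (.n (.n (.n (.n (.c 5) (.c 3)) (.n (.c 2) (.n (.c 8) (.c 5)))) (.n (.n (.c 7) (.c 11)) (.n .z (.n (.c 6) (.c 1))))) (.n (.n (.n (.c 10) (.c 1)) (.n (.c 4) (.n (.c 5) .z))) (.n (.n (.c 10) (.c 9)) (.n (.c 1) (.n (.c 10) (.c 10)))))))))
  (.node (.leaf (.n (.n (.n (.n (.n (.n (.c 10) (.c 6)) (.n (.c 11) (.c 3))) (.n (.n (.c 8) (.c 4)) (.n (.c 2) (.n (.c 4) (.c 3))))) (.n (.n (.n (.c 10) (.c 3)) (.n (.c 6) (.n (.c 1) (.c 12)))) (.n (.n (.c 5) .z) (.n (.c 10) (.n (.c 7) (.c 8)))))) (.n (.n (.n (.n (.c 9) (.c 12)) (.n (.c 10) (.n (.c 12) (.c 3)))) (.n (.n (.c 2) (.c 8)) (.n (.c 11) (.n (.c 1) (.c 11))))) (.n (.n (.n (.c 1) (.c 12)) (.n (.c 4) (.n (.c 10) (.c 4)))) (.n (.n (.c 11) (.c 8)) (.n (.c 8) .z))))) (.n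 (.n (.n (.n (.n (.c 10) (.c 1)) (.n (.c 7) (.c 11))) (.n (.n .z (.c 6)) (.n (.c 8) (.n (.c 1) (.c 6))))) (.n (.n (.n (.c 11) (.c 9)) (.n (.c 1) (.n .z (.c 4)))) (.n (.n (.c 1) (.c 4)) (.n (.c 1) (.n (.c 2) (.c 8)))))) (.n (.n (.n (.n (.c 9) (.c 2)) (.n (.c 6) (.n (.c 5) (.c 1)))) (.n (.n (.c 9) (.c 9)) (.n (.c 10) (.n .z (.c 7))))) (.n (.n (.n (.c 1) (.c 2)) (.n .z (.n (.c 11) (.c 7)))) (.n (.n (.c 8) (.c 7)) (.n .z (.n (.c 10) (.c 2)))))))))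
  (.leaf (.n (.n (.n (.n (.n (.n (.c 10) (.c 6)) (.n (.c 11) (.c 3))) (.n (.n (.c 8) (.c 4)) (.n (.c 2) (.n (.c 4) (.c 3))))) (.n (.n (.n (.c 10) (.c 3)) (.n (.c 6) (.n (.c 1) (.c 12)))) (.n (.n (.c 5) .z) (.n (.c 10) (.n (.c 1) (.c 1)))))) (.n (.n (.n (.n (.c 9) (.c 12)) (.n (.c 10) (.n (.c 12) (.c 9)))) (.n (.n (.c 2) (.c 2)) (.n (.c 3) (.n (.c 4) (.c 7))))) (.n (.n (.n (.c 11) (.c 2)) (.n (.c 12) (.n (.c 11) (.c 3)))) (.n (.n (.c 6) (.c 11)) (.n (.c 7) (.n (.c 7) (.c 7))))))) (.n (.n (.n (.n (.n (.c 6) (.c 2)) (.n (.c 7) (.c 10))) (.n (.n (.c 7) (.c 4)) (.n (.c 10) (.n (.c 3) (.c 10))))) (.n (.n (.n (.c 3) .z) (.n (.c 3) (.n (.c 12) (.c 3)))) (.n (.n (.c 3) (.c 5)) (.n (.c 7) (.n (.c 6) (.c 1)))))) (.n (.n (.n (.n (.c 8) (.c 3)) (.n (.c 1) (.n (.c 9) (.c 12)))) (.n (.n (.c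 7) (.c 3)) (.n (.c 8) (.n (.c 11) (.c 6))))) (.n (.n (.n (.c 1) (.c 7)) (.n (.c 5) (.n (.c 10) (.c 6)))) (.n (.n (.c 10) (.c 1)) (.n (.c 9) (.n (.c 12) (.c 6))))))))))))))
  (.node (.node (.node (.node (.leaf (.n (.n (.n (.n (.n (.n (.c 10) (.c 6)) (.n (.c 11) (.c 3))) (.n (.n (.c 8) (.c 4)) (.n (.c 2) (.n (.c 4) (.c 3))))) (.n (.n (.n (.c 10) (.c 3)) (.n (.c 6) (.n (.c 1) (.c 12)))) (.n (.n (.c 5) .z) (.n (.c 10) (.n (.c 1) (.c 8)))))) (.n (.n (.n (.n (.c 2) (.c 12)) (.n (.c 10) (.n (.c 12) (.c 4)))) (.n (.n (.c 12) (.c 9)) (.n (.c 8) (.n (.c 2) (.c 1))))) (.n (.n (.n (.c 12) (.c 5)) (.n (.c 11) (.n (.c 5) (.c 1)))) (.n (.n (.c 4) (.c 1)) (.n (.c 10) (.n (.c 4) (.c 2))))))) (.n (.n (.n (.n (.n (.c 6) (.c 8)) (.n (.c 7) (.c 11))) (.n (.n (.c 5) (.c 5)) (.n (.c 8) (.n (.c 5)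 .z)))) (.n (.n (.n (.c 9) (.c 12)) (.n (.c 3) (.n (.c 4) (.c 8)))) (.n (.n (.c 7) .z) (.n (.c 2) (.n .z (.c 3)))))) (.n (.n (.n (.n (.c 10) (.c 11)) (.n (.c 3) (.n (.c 2) (.c 9)))) (.n (.n (.c 9) (.c 1)) (.n (.c 6) (.n (.c 11) (.c 3))))) (.n (.n (.n (.c 5) (.c 6)) (.n (.c 3) (.n (.c 2) (.c 7)))) (.n (.n (.c 9) (.c 11)) (.n (.c 9) (.n (.c 9) (.c 11)))))))))
  (.leaf (.n (.n .z (.n (.n (.n (.n .z (.c 6)) (.n .z (.n (.c 3) (.c 12)))) (.n (.n (.c 5) (.c 4)) (.n (.c 3) (.n (.c 8) (.c 9))))) (.n (.n (.n .z (.c 6)) (.n (.c 5) (.n (.c 9) (.c 11)))) (.n (.n (.c 10) (.c 3)) (.n (.c 5) (.n (.c 8) (.c 8))))))) (.n (.n (.n (.n (.n (.c 3) (.c 1)) (.n .z (.c 6))) (.n (.n (.c 8) (.c 3)) (.n (.c 6) (.n (.c 7) (.c 8))))) (.n (.n (.n (.c 6) .z) (.n (.c 2) (.n (.c 5) .z))) (.n (.n (.c 7) (.c 5))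 (.n (.c 9) (.n (.c 6) (.c 11)))))) (.n (.n (.n (.n (.c 10) (.c 2)) (.n (.c 2) (.n (.c 8) (.c 10)))) (.n (.n (.c 10) (.c 3)) (.n (.c 8) (.n (.c 6) (.c 7))))) (.n (.n (.n (.c 7) (.c 4)) (.n (.c 3) (.n (.c 10) (.c 4)))) (.n (.n (.c 3) (.c 1)) (.n (.c 4) (.n (.c 7) (.c 12))))))))))
  (.node (.leaf (.n (.n .z (.n (.n (.n .z (.n (.c 6) (.n (.c 8) (.c 5)))) (.n (.n (.c 10) (.c 4)) (.n (.c 11) (.n (.c 10) (.c 7))))) (.n (.n (.n (.c 6) (.c 3)) (.n (.c 8) (.n (.c 11) (.c 3)))) (.n (.n (.c 5) (.c 9)) (.n (.c 11) (.n (.c 5) (.c 9))))))) (.n (.n (.n (.n (.n (.c 1) (.c 7)) (.n .z (.c 3))) (.n (.n (.c 1) (.c 10)) (.n (.c 10) (.n (.c 1) (.c 9))))) (.n (.n (.n (.c 4) (.c 4)) (.n (.c 1) (.n (.c 4) (.c 7)))) (.n (.n .z (.c 11)) (.n (.c 3) (.n (.c 7) .z))))) (.n (.n (.n (.n (.c 4) (.c 4)) (.n (.c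 9) (.n (.c 5) (.c 11)))) (.n (.n (.c 7) (.c 3)) (.n (.c 2) (.n .z (.c 8))))) (.n (.n (.n (.c 9) (.c 4)) (.n (.c 5) (.n (.c 6) (.c 9)))) (.n (.n (.c 7) (.c 7)) (.n (.c 6) (.n (.c 8) (.c 7)))))))))
  (.node (.leaf (.n (.n (.n (.n (.n (.n (.c 9) (.c 2)) (.n (.c 10) .z)) (.n (.n .z (.c 7)) (.n (.c 6) (.n (.c 6) (.c 10))))) (.n (.n (.n (.c 9) (.c 5)) (.n (.c 6) (.n (.c 7) (.c 8)))) (.n (.n (.c 3) (.c 6)) (.n (.c 8) (.n (.c 11) (.c 4)))))) (.n (.n (.n (.n (.c 8) .z) (.n (.c 6) (.n (.c 9) (.c 1)))) (.n (.n (.c 1) (.c 8)) (.n (.c 2) (.n (.c 10) (.c 5))))) (.n (.n (.n (.c 6) (.c 6)) (.n (.c 2) (.n (.c 8) (.c 8)))) (.n (.n (.c 1) (.c 2)) (.n (.c 9) (.n (.c 2) (.c 10))))))) (.n (.n (.n (.n (.n (.c 6) (.c 4)) (.n .z (.c 3))) (.n (.n (.c 11) (.c 12)) (.n (.c 5) (.n (.c 7) (.c 1))))) (.n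 (.n (.n (.c 3) (.c 7)) (.n (.c 10) (.n (.c 11) (.c 7)))) (.n (.n (.c 5) .z) (.n (.c 2) (.n (.c 6) (.c 7)))))) (.n (.n (.n (.n (.c 1) (.c 11)) (.n (.c 3) (.n (.c 1) (.c 7)))) (.n (.n (.c 9) (.c 7)) (.n (.c 10) (.n (.c 12) (.c 7))))) (.n (.n (.n (.c 3) (.c 4)) (.n (.c 3) (.n (.c 2) (.c 8)))) (.n (.n (.c 2) (.c 7)) (.n (.c 5) (.n (.c 4) (.c 3)))))))))
  (.leaf (.n (.n (.n (.n (.n (.n (.c 2) (.c 12)) (.n (.c 5) (.c 12))) (.n (.n (.c 6) (.c 2)) (.n (.c 12) (.n .z (.c 6))))) (.n (.n (.n (.c 3) (.c 11)) (.n (.c 8) (.n (.c 3) (.c 12)))) (.n (.n .z (.c 9)) (.n .z (.n (.c 3) (.c 5)))))) (.n (.n (.n (.n (.c 8) (.c 2)) (.n (.c 6) (.n (.c 12) (.c 4)))) (.n (.n (.c 7) (.c 7)) (.n (.c 4) (.n (.c 2) (.c 7))))) (.n (.n (.n (.c 12) (.c 1)) (.n (.c 4) (.n (.c 8) (.c 10)))) (.n (.n (.c 8) (.c 8))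 (.n .z (.n (.c 9) (.c 11))))))) (.n (.n (.n (.n (.n (.c 7) (.c 9)) (.n (.c 3) (.c 10))) (.n (.n (.c 10) (.c 10)) (.n (.c 10) (.n (.c 1) (.c 5))))) (.n (.n (.n (.c 3) (.c 12)) (.n (.c 2) (.n (.c 12) (.c 2)))) (.n (.n (.c 8) (.c 2)) (.n (.c 10) (.n (.c 6) (.c 4)))))) (.n (.n (.n (.n (.c 9) (.c 8)) (.n (.c 1) (.n (.c 11) (.c 5)))) (.n (.n (.c 12) .z) (.n (.c 8) (.n (.c 6) .z)))) (.n (.n (.n (.c 6) (.c 6)) (.n (.c 3) (.n (.c 7) (.c 3)))) (.n (.n .z (.c 3)) (.n (.c 3) (.n (.c 1) (.c 10))))))))))))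
  (.node (.node (.leaf (.n (.n (.n (.n (.n (.n (.c 4) (.c 2)) (.n (.c 3) .z)) (.n (.n .z (.c 6)) (.n (.c 7) (.n (.c 8) (.c 10))))) (.n (.n (.n (.c 6) (.c 8)) (.n (.c 9) (.n (.c 11) (.c 10)))) (.n (.n (.c 12) (.c 8)) (.n (.c 6) (.n (.c 3) (.c 1)))))) (.n (.n (.n (.n (.c 4) (.c 8)) (.n .z (.n (.c 4) (.c 8)))) (.n (.n (.c 8) (.c 2)) (.n (.c 4) (.n (.c 8) (.c 8))))) (.n (.n (.n (.c 1) (.c 4)) (.n .z (.n (.c 12) .z))) (.n (.n (.c 5) (.c 7)) (.n (.c 3) (.n (.c 5) (.c 9))))))) (.n (.n (.n (.n (.n .z (.c 4)) (.n (.c 4) (.c 3))) (.n (.n (.c 4) (.c 7)) (.n (.c 1) (.n (.c 5) (.c 11))))) (.n (.n (.n (.c 12) (.c 4)) (.n (.c 9) (.n (.c 10) (.c 3)))) (.n (.n (.c 4) (.c 4)) (.n (.c 1) (.n (.c 7) (.c 3)))))) (.n (.n (.n (.n (.c 5) (.c 1)) (.n (.c 9) (.n (.c 2) (.c 2)))) (.n (.n (.c 12) (.c 7))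 (.n (.c 1) (.n (.c 9) (.c 1))))) (.n (.n (.n (.c 7) (.c 6)) (.n (.c 8) (.n (.c 6) (.c 2)))) (.n (.n (.c 11) (.c 4)) (.n (.c 9) (.n (.c 6) (.c 2)))))))))
  (.leaf (.n (.n (.n (.n (.n (.n (.c 4) (.c 11)) (.n (.c 8) .z)) (.n (.n .z (.c 6)) (.n (.c 7) (.n (.c 10) (.c 3))))) (.n (.n (.n (.c 1) (.c 8)) (.n (.c 12) (.n (.c 11) (.c 5)))) (.n (.n (.c 10) (.c 7)) (.n (.c 12) (.n (.c 10) (.c 10)))))) (.n (.n (.n (.n (.c 2) (.c 1)) (.n (.c 12) (.n (.c 8) .z))) (.n (.n (.c 1) (.c 8)) (.n (.c 12) (.n (.c 2) (.c 7))))) (.n (.n (.n (.c 6) (.c 10)) (.n .z (.n (.c 4) (.c 7)))) (.n (.n (.c 9) (.c 5)) (.n (.c 2) (.n (.c 8) (.c 12))))))) (.n (.n (.n (.n (.n (.c 5) (.c 6)) (.n (.c 9) (.c 12))) (.n (.n (.c 9) .z) (.n (.c 4) (.n (.c 3) (.c 2))))) (.n (.n (.n (.c 8) (.c 1)) (.n .z (.n (.c 5) (.c 6))))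 (.n (.n (.c 1) (.c 11)) (.n (.c 2) (.n (.c 3) (.c 10)))))) (.n (.n (.n (.n (.c 1) (.c 6)) (.n (.c 1) (.n (.c 9) (.c 12)))) (.n (.n (.c 11) (.c 12)) (.n (.c 1) (.n (.c 11) (.c 6))))) (.n (.n (.n (.c 1) (.c 7)) (.n (.c 8) (.n (.c 11) (.c 12)))) (.n (.n (.c 8) (.c 5)) (.n (.c 11) (.n (.c 12) (.c 3))))))))))
  (.node (.leaf (.n (.n (.n (.n (.n (.n (.c 4) (.c 11)) (.n (.c 3) (.c 3))) (.n (.n .z (.c 6)) (.n (.c 7) (.n .z (.c 8))))) (.n (.n (.n .z (.c 2)) (.n (.c 5) (.n (.c 5) (.c 9)))) (.n (.n (.c 11) (.c 4)) (.n (.c 4) (.n (.c 1) (.c 11)))))) (.n (.n (.n (.n .z (.c 12)) (.n (.c 9) (.n (.c 3) (.c 2)))) (.n (.n (.c 8) (.c 5)) (.n .z (.n (.c 11) (.c 9))))) (.n (.n (.n (.c 5) (.c 11)) (.n (.c 11) (.n (.c 4) (.c 2)))) (.n (.n (.c 6) (.c 11)) (.n (.c 6) (.n (.c 5) (.c 3))))))) (.n (.n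 (.n (.n (.n (.c 5) (.c 4)) (.n .z (.c 10))) (.n (.n (.c 2) (.c 11)) (.n (.c 4) (.n (.c 2) (.c 3))))) (.n (.n (.n (.c 10) .z) (.n (.c 1) (.n (.c 5) (.c 8)))) (.n (.n (.c 7) (.c 6)) (.n (.c 5) (.n .z (.c 7)))))) (.n (.n (.n (.n (.c 5) (.c 1)) (.n (.c 6) (.n (.c 12) (.c 3)))) (.n (.n .z (.c 6)) (.n (.c 5) (.n (.c 10) (.c 10))))) (.n (.n (.n (.c 11) (.c 9)) (.n (.c 7) (.n (.c 6) (.c 8)))) (.n (.n (.c 8) (.c 1)) (.n (.c 3) (.n (.c 6) (.c 6)))))))))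
  (.node (.leaf (.n (.n (.n (.n (.n (.n (.c 4) (.c 11)) (.n (.c 3) .z)) (.n (.n .z (.c 6)) (.n (.c 7) (.n (.c 8) (.c 10))))) (.n (.n (.n .z (.c 5)) (.n (.c 6) (.n (.c 12) (.c 10)))) (.n (.n (.c 7) (.c 7)) (.n (.c 4) (.n .z (.c 10)))))) (.n (.n (.n (.n (.c 1) (.c 12)) (.n (.c 6) (.n (.c 12) (.c 5)))) (.n (.n (.c 1) (.c 1)) (.n (.c 5) (.n (.c 4) (.c 6))))) (.n (.n (.n (.c 8) (.c 1)) (.n (.c 9) (.n (.c 4) (.c 9)))) (.n (.n (.c 3) (.c 10)) (.n (.c 4) (.n (.c 9) (.c 7))))))) (.n (.n (.n (.n (.n (.c 1) (.c 1)) (.n (.c 3) (.c 4))) (.n (.n (.c 2) (.c 9)) (.n (.c 9) (.n (.c 12) (.c 8))))) (.n (.n (.n (.c 12) (.c 3)) (.n (.c 4) (.n .z (.c 3)))) (.n (.n (.c 9) (.c 11)) (.n (.c 2) (.n (.c 5) (.c 11)))))) (.n (.n (.n (.n (.c 1) (.c 4)) (.n (.c 12) (.n (.c 1) (.c 1)))) (.n (.n (.c 2) (.c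 3)) (.n (.c 4) (.n (.c 8) .z)))) (.n (.n (.n (.c 5) (.c 8)) (.n (.c 11) (.n (.c 8) (.c 1)))) (.n (.n (.c 12) .z) (.n (.c 1) (.n (.c 6) (.c 6)))))))))
  (.leaf (.n (.n (.n (.n (.n (.n (.c 4) (.c 11)) (.n (.c 3) .z)) (.n (.n .z (.c 12)) (.n (.c 7) (.n (.c 9) (.c 7))))) (.n (.n (.n (.c 1) (.c 9)) (.n (.c 10) (.n (.c 6) (.c 3)))) (.n (.n (.c 12) (.c 8)) (.n .z (.n (.c 9) (.c 11)))))) (.n (.n (.n (.n (.c 4) .z) (.n .z (.n (.c 11) (.c 6)))) (.n (.n (.c 5) (.c 5)) (.n (.c 9) (.n .z (.c 7))))) (.n (.n (.n (.c 5) (.c 8)) (.n (.c 10) (.n (.c 12) (.c 2)))) (.n (.n (.c 7) (.c 3)) (.n .z (.n (.c 2) .z)))))) (.n (.n (.n (.n (.n .z (.c 7)) (.n (.c 8) (.c 8))) (.n (.n (.c 12) (.c 11)) (.n (.c 9) (.n (.c 10) (.c 10))))) (.n (.n (.n (.c 6) (.c 12)) (.n (.c 4) (.n (.c 3) (.c 7)))) (.n (.n (.c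 11) (.c 10)) (.n .z (.n .z (.c 1)))))) (.n (.n (.n (.n (.c 8) (.c 10)) (.n (.c 12) (.n (.c 11) (.c 6)))) (.n (.n (.c 10) (.c 3)) (.n (.c 4) (.n (.c 1) (.c 9))))) (.n (.n (.n (.c 8) (.c 7)) (.n (.c 8) (.n (.c 9) (.c 10)))) (.n (.n (.c 6) (.c 10)) (.n (.c 7) (.n (.c 10) (.c 7)))))))))))))
  (.node (.node (.node (.leaf (.n (.n (.n (.n (.n (.n (.c 4) (.c 11)) (.n (.c 3) .z)) (.n (.n .z (.c 6)) (.n (.c 12) (.n (.c 1) (.c 3))))) (.n (.n (.n (.c 1) .z) (.n (.c 2) (.n (.c 6) .z))) (.n (.n (.c 4) (.c 11)) (.n (.c 10) (.n (.c 10) (.c 9)))))) (.n (.n (.n (.n (.c 1) (.c 5)) (.n (.c 9) (.n (.c 1) (.c 9)))) (.n (.n (.c 8) (.c 6)) (.n (.c 11) (.n (.c 10) (.c 1))))) (.n (.n (.n (.c 11) (.c 4)) (.n (.c 6) (.n (.c 10) (.c 7)))) (.n (.n (.c 10) (.c 9)) (.n (.c 9) (.n (.c 5) (.c 10))))))) (.n (.n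 (.n (.n (.n .z (.c 5)) (.n (.c 4) (.c 2))) (.n (.n (.c 3) (.c 4)) (.n (.c 4) (.n .z (.c 9))))) (.n (.n (.n (.c 5) (.c 10)) (.n (.c 11) (.n (.c 8) (.c 1)))) (.n (.n .z (.c 10)) (.n (.c 1) (.n (.c 12) (.c 6)))))) (.n (.n (.n (.n (.c 3) (.c 8)) (.n (.c 10) (.n (.c 1) (.c 6)))) (.n (.n (.c 5) (.c 2)) (.n (.c 7) (.n (.c 7) (.c 3))))) (.n (.n (.n (.c 11) (.c 5)) (.n (.c 3) (.n (.c 2) (.c 2)))) (.n (.n (.c 7) (.c 11)) (.n (.c 3) (.n (.c 8) (.c 11)))))))))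
  (.leaf (.n (.n (.n (.n (.n (.n (.c 11) (.c 3)) (.n (.c 8) (.c 1))) (.n (.n (.c 7) (.c 11)) (.n (.c 1) (.n (.c 8) (.c 1))))) (.n (.n (.n (.c 4) (.c 9)) (.n (.c 1) (.n (.c 2) (.c 9)))) (.n (.n (.c 11) (.c 5)) (.n (.c 8) (.n .z (.c 9)))))) (.n (.n (.n (.n (.c 12) (.c 12)) (.n (.c 10) (.n (.c 1) (.c 12)))) (.n (.n (.c 8) (.c 2)) (.n (.c 2) (.n (.c 8) (.c 4))))) (.n (.n (.n (.c 11) (.c 9)) (.n (.c 1) (.n (.c 1) (.c 9)))) (.n (.n (.c 7) (.c 6)) (.n (.c 5) (.n (.c 3) (.c 1))))))) (.n (.n (.n (.n (.n (.c 2) (.c 5)) (.n (.c 1) (.c 11))) (.n (.n (.c 11) (.c 2)) (.n (.c 1) (.n (.c 2) (.c 2))))) (.n (.n (.n (.c 10) (.c 3)) (.n (.c 6) (.n (.c 4) (.c 8)))) (.n (.n (.c 12) (.c 5)) (.n (.c 7) (.n (.c 10) (.c 9)))))) (.n (.n (.n (.n (.c 10) (.c 10)) (.n (.c 12) (.n (.c 2) (.c 12)))) (.n (.n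 (.c 5) (.c 4)) (.n (.c 1) (.n (.c 3) .z)))) (.n (.n (.n (.c 8) (.c 3)) (.n (.c 2) (.n (.c 5) (.c 3)))) (.n (.n (.c 6) .z) (.n (.c 10) (.n (.c 4) (.c 1))))))))))
  (.node (.leaf (.n (.n (.n (.n (.n (.n (.c 11) (.c 1)) (.n (.c 7) (.c 1))) (.n (.n (.c 7) (.c 11)) (.n (.c 1) (.n (.c 12) (.c 1))))) (.n (.n (.n (.c 1) (.c 3)) (.n (.c 1) (.n (.c 1) (.c 5)))) (.n (.n (.c 10) (.c 4)) (.n (.c 4) (.n (.c 11) (.c 5)))))) (.n (.n (.n (.n (.c 10) .z) (.n (.c 11) (.n (.c 11) (.c 8)))) (.n (.n (.c 11) (.c 9)) (.n (.c 11) (.n (.c 4) (.c 9))))) (.n (.n (.n (.c 10) (.c 9)) (.n (.c 2) (.n (.c 5) (.c 4)))) (.n (.n (.c 11) (.c 1)) (.n (.c 12) (.n .z (.c 6))))))) (.n (.n (.n (.n (.n (.c 8) (.c 3)) (.n (.c 8) .z)) (.n (.n .z (.c 9)) (.n (.c 11) (.n (.c 7) (.c 11))))) (.n (.n (.n (.c 9) (.c 5)) (.n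 (.c 3) (.n (.c 9) (.c 11)))) (.n (.n (.c 8) (.c 10)) (.n (.c 5) (.n (.c 5) (.c 11)))))) (.n (.n (.n (.n (.c 7) (.c 7)) (.n (.c 1) (.n (.c 7) (.c 11)))) (.n (.n (.c 11) (.c 3)) (.n (.c 5) (.n (.c 11) (.c 7))))) (.n (.n (.n (.c 9) (.c 6)) (.n (.c 9) (.n (.c 6) (.c 7)))) (.n (.n (.c 1) (.c 3)) (.n (.c 8) (.n (.c 1) (.c 12)))))))))
  (.node (.leaf (.n (.n (.n (.n (.n (.n (.c 11) (.c 1)) (.n (.c 8) (.c 1))) (.n (.n (.c 7) (.c 11)) (.n (.c 1) (.n (.c 7) (.c 1))))) (.n (.n (.n (.c 9) (.c 1)) (.n (.c 3) .z)) (.n (.n (.c 12) .z) (.n (.c 10) (.n (.c 2) .z))))) (.n (.n (.n (.n (.c 9) (.c 1)) (.n (.c 1) (.n (.c 5) (.c 1)))) (.n (.n (.c 3) (.c 10)) (.n (.c 11) (.n (.c 2) (.c 2))))) (.n (.n (.n (.c 9) (.c 9)) (.n (.c 3) (.n (.c 8) (.c 10)))) (.n (.n .z (.c 10)) (.n (.c 11) (.n (.c 6) (.c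 8))))))) (.n (.n (.n (.n (.n (.c 2) (.c 7)) (.n (.c 6) (.c 2))) (.n (.n (.c 12) (.c 7)) (.n .z (.n (.c 10) (.c 12))))) (.n (.n (.n (.c 7) (.c 4)) (.n (.c 6) (.n (.c 8) (.c 6)))) (.n (.n (.c 4) .z) (.n (.c 6) (.n (.c 7) (.c 1)))))) (.n (.n (.n (.n (.c 7) (.c 9)) (.n (.c 10) (.n (.c 4) (.c 7)))) (.n (.n (.c 2) (.c 12)) (.n (.c 2) (.n (.c 7) (.c 9))))) (.n (.n (.n (.c 9) (.c 1)) (.n (.c 12) (.n (.c 10) (.c 3)))) (.n (.n (.c 3) .z) (.n (.c 9) (.n (.c 5) (.c 2)))))))))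
  (.leaf (.n (.n (.n (.n (.n (.n (.c 11) (.c 1)) (.n (.c 8) (.c 1))) (.n (.n (.c 7) (.c 11)) (.n (.c 1) (.n (.c 1) (.c 11))))) (.n (.n (.n (.c 3) (.c 12)) (.n (.c 1) (.n (.c 7) .z))) (.n (.n .z (.c 8)) (.n (.c 3) (.n (.c 7) (.c 9)))))) (.n (.n (.n (.n (.c 4) (.c 9)) (.n (.c 3) (.n (.c 3) (.c 5)))) (.n (.n (.c 5) (.c 8)) (.n (.c 4) (.n .z (.c 12))))) (.n (.n (.n (.c 1) (.c 5)) (.n (.c 1) (.n (.c 12) .z))) (.n (.n (.c 6) (.c 8)) (.n (.c 2) (.n (.c 3) (.c 2))))))) (.n (.n (.n (.n (.n (.c 8) (.c 6)) (.n (.c 1) (.c 4))) (.n (.n (.c 2) (.c 12)) (.n (.c 3) (.n .z (.c 5))))) (.n (.n (.n (.c 1) (.c 8)) (.n (.c 8) (.n (.c 11) (.c 2)))) (.n (.n (.c 5) (.c 5)) (.n (.c 9) (.n (.c 8) (.c 10)))))) (.n (.n (.n (.n (.c 12) .z) (.n (.c 11) (.n (.c 3) (.c 3)))) (.n (.n (.c 1) (.c 3)) (.n (.c 1)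 (.n (.c 3) (.c 5))))) (.n (.n (.n (.c 5) (.c 10)) (.n (.c 1) (.n (.c 4) (.c 9)))) (.n (.n (.c 11) (.c 7)) (.n .z (.n (.c 12) (.c 4))))))))))))
  (.node (.node (.leaf (.n (.n (.n (.n (.n (.n (.c 11) (.c 1)) (.n (.c 8) (.c 1))) (.n (.n (.c 7) (.c 4)) (.n (.c 1) (.n (.c 5) (.c 7))))) (.n (.n (.n (.c 9) (.c 10)) (.n (.c 9) (.n (.c 11) (.c 9)))) (.n (.n (.c 7) (.c 7)) (.n (.c 3) (.n (.c 11) (.c 1)))))) (.n (.n (.n (.n (.c 5) (.c 12)) (.n .z (.n (.c 8) .z))) (.n (.n (.c 3) (.c 10)) (.n (.c 6) (.n (.c 5) (.c 2))))) (.n (.n (.n (.c 5) (.c 8)) (.n (.c 10) (.n (.c 1) (.c 2)))) (.n (.n (.c 11) (.c 10)) (.n (.c 9) (.n (.c 1) (.c 11))))))) (.n (.n (.n (.n (.n (.c 11) (.c 1)) (.n (.c 10) (.c 2))) (.n (.n (.c 9) (.c 11)) (.n (.c 7) (.n (.c 1) (.c 9))))) (.n (.n (.n (.c 3) (.c 5)) (.n (.c 8)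 (.n (.c 2) (.c 12)))) (.n (.n (.c 3) (.c 6)) (.n (.c 4) (.n (.c 7) (.c 1)))))) (.n (.n (.n (.n (.c 11) (.c 6)) (.n (.c 11) (.n (.c 8) (.c 9)))) (.n (.n (.c 5) (.c 5)) (.n (.c 4) (.n (.c 11) (.c 7))))) (.n (.n (.n (.c 2) (.c 12)) (.n (.c 4) (.n (.c 1) (.c 7)))) (.n (.n (.c 1) (.c 2)) (.n (.c 1) (.n .z (.c 7)))))))))
  (.leaf (.n (.n (.n (.n (.n (.n (.c 11) (.c 1)) (.n (.c 8) (.c 1))) (.n (.n (.c 7) (.c 11)) (.n (.c 10) (.n (.c 10) (.c 1))))) (.n (.n (.n (.c 1) (.c 2)) (.n .z (.n (.c 10) (.c 7)))) (.n (.n (.c 7) (.c 3)) (.n .z (.n (.c 5) (.c 3)))))) (.n (.n (.n (.n (.c 10) .z) (.n .z (.n (.c 8) (.c 6)))) (.n (.n (.c 7) (.c 3)) (.n (.c 7) (.n (.c 11) (.c 7))))) (.n (.n (.n .z (.c 8)) (.n (.c 8) (.n (.c 7) (.c 6)))) (.n (.n .z (.c 9)) (.n .z (.n (.c 2) (.c 1))))))) (.n (.n (.n (.n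 (.n (.c 1) (.c 3)) (.n (.c 11) (.c 12))) (.n (.n (.c 8) (.c 9)) (.n (.c 3) (.n (.c 1) (.c 3))))) (.n (.n (.n (.c 1) (.c 1)) (.n (.c 9) (.n (.c 11) (.c 3)))) (.n (.n (.c 4) (.c 3)) (.n (.c 6) (.n (.c 3) (.c 6)))))) (.n (.n (.n (.n .z (.c 5)) (.n (.c 4) (.n (.c 3) (.c 10)))) (.n (.n (.c 3) (.c 9)) (.n (.c 2) (.n (.c 7) .z)))) (.n (.n (.n (.c 9) (.c 7)) (.n (.c 8) (.n (.c 6) (.c 5)))) (.n (.n (.c 12) (.c 9)) (.n (.c 4) (.n (.c 2) (.c 7))))))))))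
  (.node (.leaf (.n (.n (.n (.n (.n (.n (.c 8) (.c 6)) (.n (.c 2) (.c 7))) (.n (.n (.c 7) (.c 2)) (.n (.c 4) (.n .z (.c 7))))) (.n (.n (.n (.c 11) (.c 8)) (.n .z (.n (.c 1) .z))) (.n (.n (.c 6) .z) (.n (.c 4) (.n (.c 6) (.c 6)))))) (.n (.n (.n (.n (.c 2) (.c 1)) (.n (.c 2) (.n (.c 6) (.c 6)))) (.n (.n (.c 3) (.c 8)) (.n (.c 12) (.n (.c 10) (.c 6))))) (.n (.n (.n (.c 8) (.c 2)) (.n (.c 1) (.n (.c 9) (.c 1)))) (.n (.n (.c 2) (.c 2)) (.n (.c 6) (.n (.c 3) .z)))))) (.n (.n (.n (.n (.n (.c 3) (.c 2)) (.n (.c 9) (.c 3))) (.n (.n (.c 12) (.c 1)) (.n (.c 12) (.n (.c 7) (.c 6))))) (.n (.n (.n (.c 8) (.c 7)) (.n (.c 8) (.n (.c 2) (.c 7)))) (.n (.n (.c 6) (.c 4)) (.n (.c 5) (.n (.c 3) (.c 6)))))) (.n (.n (.n (.n (.c 8) (.c 8)) (.n (.c 2) (.n (.c 1) (.c 6)))) (.n (.n (.c 1) (.c 3)) (.n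 (.c 3) (.n (.c 9) (.c 6))))) (.n (.n (.n (.c 6) (.c 10)) (.n (.c 3) (.n (.c 10) (.c 10)))) (.n (.n (.c 11) (.c 8)) (.n (.c 1) (.n (.c 1) (.c 3)))))))))
  (.node (.leaf (.n (.n (.n (.n (.n (.n (.c 9) (.c 11)) (.n (.c 1) .z)) (.n (.n .z (.c 7)) (.n (.c 6) (.n (.c 11) (.c 6))))) (.n (.n (.n .z (.c 11)) (.n .z (.n (.c 7) (.c 1)))) (.n (.n (.c 9) (.c 5)) (.n (.c 7) (.n (.c 9) (.c 11)))))) (.n (.n (.n (.n (.c 1) (.c 2)) (.n (.c 5) (.n (.c 12) (.c 10)))) (.n (.n (.c 6) (.c 9)) (.n (.c 10) (.n (.c 6) (.c 9))))) (.n (.n (.n (.c 1) (.c 10)) (.n (.c 10) (.n (.c 7) (.c 10)))) (.n (.n (.c 8) (.c 2)) (.n .z (.n (.c 10) (.c 2))))))) (.n (.n (.n (.n (.n (.c 4) (.c 6)) (.n (.c 2) (.c 8))) (.n (.n (.c 5) (.c 7)) (.n (.c 1) .z))) (.n (.n (.n (.c 4) (.c 10)) (.n (.c 2) (.n (.c 5) (.c 10)))) (.n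 (.n .z (.c 12)) (.n (.c 6) (.n (.c 12) (.c 4)))))) (.n (.n (.n (.n (.c 4) (.c 6)) (.n (.c 11) (.n (.c 9) (.c 2)))) (.n (.n (.c 10) (.c 10)) (.n (.c 4) (.n (.c 2) (.c 10))))) (.n (.n (.n .z (.c 10)) (.n (.c 8) (.n (.c 7) (.c 7)))) (.n (.n (.c 1) (.c 4)) (.n (.c 7) (.n (.c 8) (.c 7)))))))))
  (.leaf (.n (.n (.n (.n (.n (.n (.c 9) (.c 11)) (.n (.c 10) (.c 10))) (.n (.n .z (.c 7)) (.n (.c 6) (.n (.c 12) (.c 4))))) (.n (.n (.n (.c 6) (.c 10)) (.n (.c 1) (.n (.c 10) .z))) (.n (.n (.c 3) (.c 3)) (.n (.c 11) (.n (.c 11) (.c 12)))))) (.n (.n (.n (.n (.c 7) .z) (.n (.c 3) (.n (.c 1) (.c 2)))) (.n (.n (.c 10) (.c 3)) (.n (.c 11) (.n (.c 11) (.c 7))))) (.n (.n (.n .z (.c 2)) (.n .z (.n (.c 6) (.c 8)))) (.n (.n (.c 10) (.c 4)) (.n (.c 8) (.n (.c 12) (.c 5))))))) (.n (.n (.n (.n (.n (.c 4)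 (.c 11)) (.n (.c 3) (.c 7))) (.n (.n (.c 6) (.c 6)) (.n (.c 7) (.n (.c 10) (.c 7))))) (.n (.n (.n (.c 2) .z) (.n (.c 5) (.n (.c 9) (.c 8)))) (.n (.n (.c 11) (.c 10)) (.n (.c 11) (.n (.c 5) (.c 4)))))) (.n (.n (.n (.n (.c 2) (.c 2)) (.n (.c 5) (.n (.c 6) (.c 4)))) (.n (.n (.c 2) (.c 11)) (.n (.c 11) (.n (.c 1) (.c 12))))) (.n (.n (.n (.c 3) (.c 1)) (.n (.c 11) (.n (.c 10) (.c 4)))) (.n (.n (.c 9) (.c 5)) (.n (.c 3) (.n (.c 6) (.c 12)))))))))))))))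
  (.node (.node (.node (.node (.node (.leaf (.n (.n (.n (.n (.n (.n (.c 9) (.c 11)) (.n (.c 10) .z)) (.n (.n .z (.c 7)) (.n (.c 6) (.n (.c 11) (.c 6))))) (.n (.n (.n (.c 2) (.c 10)) (.n (.c 8) (.n (.c 8) (.c 9)))) (.n (.n (.c 11) (.c 11)) (.n (.c 2) (.n (.c 12) (.c 7)))))) (.n (.n (.n (.n (.c 1) (.c 5)) (.n (.c 10) (.n (.c 6) (.c 10)))) (.n (.n (.c 8) (.c 4)) (.n (.c 6) (.n (.c 12) (.c 11))))) (.n (.n (.n (.c 8) (.c 9)) (.n (.c 7) (.n (.c 5) (.c 5)))) (.n (.n (.c 5) (.c 11)) (.n (.c 2) (.n (.c 4) (.c 6))))))) (.n (.n (.n (.n (.n (.c 3) (.c 10)) (.n (.c 7) (.c 4))) (.n (.n (.c 12) (.c 3)) (.n (.c 7) (.n (.c 5) (.c 6))))) (.n (.n (.n (.c 8) (.c 8)) (.n (.c 11) (.n (.c 3) (.c 5)))) (.n (.n (.c 1) (.c 10)) (.n (.c 12) (.n (.c 9) (.c 8)))))) (.n (.n (.n (.n (.c 9) (.c 6)) (.n (.c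 1) (.n (.c 3) (.c 8)))) (.n (.n .z (.c 4)) (.n (.c 5) (.n (.c 10) (.c 2))))) (.n (.n (.n .z (.c 4)) (.n (.c 1) (.n (.c 11) (.c 5)))) (.n (.n (.c 7) (.c 7)) (.n (.c 9) (.n (.c 9) .z))))))))
  (.leaf (.n (.n (.n (.n (.n (.n (.c 9) (.c 11)) (.n (.c 10) .z)) (.n (.n .z (.c 10)) (.n (.c 6) (.n (.c 8) (.c 1))))) (.n (.n (.n (.c 1) (.c 12)) (.n (.c 4) (.n (.c 4) (.c 1)))) (.n (.n (.c 11) (.c 8)) (.n (.c 9) (.n (.c 5) (.c 5)))))) (.n (.n (.n (.n (.c 1) (.c 7)) (.n (.c 7) (.n (.c 7) (.c 1)))) (.n (.n .z (.c 3)) (.n (.c 2) (.n (.c 5) (.c 5))))) (.n (.n (.n (.c 3) (.c 3)) (.n (.c 3) (.n (.c 2) (.c 2)))) (.n (.n (.c 4) (.c 3)) (.n (.c 2) (.n (.c 4) (.c 1))))))) (.n (.n (.n (.n (.n (.c 5) (.c 6)) (.n (.c 1) (.c 9))) (.n (.n (.c 2) (.c 7)) (.n (.c 7) (.n (.c 12) (.c 4))))) (.n (.n (.n (.c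 9) (.c 10)) (.n .z (.n (.c 8) (.c 4)))) (.n (.n .z (.c 5)) (.n (.c 5) (.n (.c 10) (.c 11)))))) (.n (.n (.n (.n (.c 5) (.c 12)) (.n (.c 8) (.n (.c 2) (.c 1)))) (.n (.n .z (.c 12)) (.n (.c 4) (.n (.c 1) (.c 10))))) (.n (.n (.n (.c 2) (.c 8)) (.n .z (.n (.c 12) (.c 6)))) (.n (.n (.c 1) (.c 7)) (.n (.c 2) (.n (.c 8) (.c 12))))))))))
  (.node (.leaf (.n (.n (.n (.n (.n (.n (.c 9) (.c 11)) (.n (.c 10) .z)) (.n (.n .z (.c 7)) (.n (.c 1) (.n (.c 5) (.c 3))))) (.n (.n (.n (.c 1) .z) (.n (.c 2) (.n .z (.c 6)))) (.n (.n (.c 1) (.c 6)) (.n (.c 12) (.n (.c 12) (.c 10)))))) (.n (.n (.n (.n (.c 3) (.c 2)) (.n (.c 5) (.n (.c 5) .z))) (.n (.n (.c 11) (.c 1)) (.n (.c 6) (.n (.c 10) (.c 1))))) (.n (.n (.n (.c 7) (.c 2)) (.n (.c 3) (.n (.c 1) .z))) (.n (.n (.c 4) (.c 3)) (.n (.c 1) (.n (.c 10)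 (.c 2))))))) (.n (.n (.n (.n (.n (.c 2) (.c 6)) (.n (.c 4) (.c 1))) (.n (.n (.c 9) (.c 3)) (.n (.c 6) (.n (.c 12) (.c 4))))) (.n (.n (.n (.c 5) .z) (.n (.c 8) (.n (.c 10) (.c 6)))) (.n (.n (.c 11) (.c 11)) (.n (.c 2) (.n (.c 5) (.c 9)))))) (.n (.n (.n (.n (.c 9) (.c 1)) (.n (.c 9) (.n (.c 1) (.c 10)))) (.n (.n (.c 11) (.c 4)) (.n (.c 8) (.n (.c 6) (.c 11))))) (.n (.n (.n (.c 10) (.c 5)) (.n (.c 11) (.n (.c 2) (.c 7)))) (.n (.n (.c 4) (.c 9)) (.n (.c 2) (.n (.c 1) (.c 7)))))))))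
  (.leaf (.n (.n (.n (.n (.n (.n (.c 9) (.c 6)) (.n (.c 5) .z)) (.n (.n .z (.c 7)) (.n (.c 6) (.n (.c 9) (.c 5))))) (.n (.n (.n (.c 4) (.c 1)) (.n (.c 1) (.n (.c 8) (.c 3)))) (.n (.n (.c 1) (.c 12)) (.n (.c 6) (.n (.c 9) (.c 2)))))) (.n (.n (.n (.n (.c 3) (.c 10)) (.n .z (.n (.c 9) (.c 10)))) (.n (.n (.c 4) (.c 6)) (.n (.c 5) (.n (.c 8) (.c 8))))) (.n (.n (.n (.c 3) (.c 4)) (.n (.c 8) (.n (.c 10) (.c 10)))) (.n (.n (.c 9) (.c 1)) (.n (.c 2) (.n (.c 9) (.c 11))))))) (.n (.n (.n (.n (.n (.c 1) (.c 10)) (.n (.c 3) .z)) (.n (.n (.c 6) (.c 7)) (.n (.c 2) (.n (.c 3) (.c 8))))) (.n (.n (.n (.c 12) (.c 7)) (.n (.c 3) .z)) (.n (.n (.c 5) (.c 1)) (.n (.c 6) (.n .z (.c 8)))))) (.n (.n (.n (.n .z (.c 2)) (.n (.c 11) (.n (.c 8) (.c 10)))) (.n (.n (.c 4) (.c 2)) (.n (.c 1) (.n .z (.c 9)))))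 (.n (.n (.n (.c 9) (.c 11)) (.n (.c 3) (.n (.c 3) (.c 11)))) (.n (.n (.c 11) (.c 4)) (.n (.c 12) (.n (.c 2) (.c 6)))))))))))
  (.node (.node (.leaf (.n (.n (.n (.n (.n (.n (.c 9) (.c 2)) (.n (.c 5) (.c 5))) (.n (.n .z (.c 7)) (.n (.c 6) (.n (.c 12) (.c 7))))) (.n (.n (.n .z (.c 5)) (.n (.c 4) (.n (.c 9) (.c 5)))) (.n (.n (.c 10) (.c 1)) (.n (.c 5) (.n (.c 6) (.c 1)))))) (.n (.n (.n (.n (.c 8) (.c 6)) (.n (.c 12) (.n (.c 7) (.c 1)))) (.n (.n (.c 1) (.c 4)) (.n (.c 6) (.n (.c 12) (.c 6))))) (.n (.n (.n (.c 4) (.c 3)) (.n (.c 3) (.n (.c 6) (.c 3)))) (.n (.n (.c 6) .z) (.n (.c 6) (.n (.c 1) (.c 5))))))) (.n (.n (.n (.n (.n (.c 2) (.c 9)) (.n (.c 7) (.c 3))) (.n (.n (.c 9) (.c 8)) (.n (.c 2) (.n (.c 5) (.c 7))))) (.n (.n (.n (.c 11) (.c 9)) (.n (.c 1) (.n (.c 11) (.c 6)))) (.n (.n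 (.c 7) (.c 4)) (.n (.c 8) (.n (.c 10) (.c 9)))))) (.n (.n (.n (.n (.c 11) .z) (.n (.c 7) (.n .z (.c 11)))) (.n (.n (.c 4) (.c 7)) (.n (.c 1) (.n (.c 3) (.c 3))))) (.n (.n (.n (.c 11) (.c 5)) (.n (.c 9) (.n (.c 3) (.c 6)))) (.n (.n (.c 2) .z) (.n (.c 6) (.n (.c 2) (.c 12)))))))))
  (.leaf (.n (.n (.n (.n (.n (.n (.c 9) (.c 2)) (.n (.c 5) .z)) (.n (.n .z (.c 7)) (.n (.c 6) (.n (.c 10) (.c 11))))) (.n (.n (.n (.c 3) (.c 8)) (.n .z (.n (.c 9) (.c 4)))) (.n (.n (.c 2) (.c 6)) (.n (.c 2) (.n (.c 3) (.c 3)))))) (.n (.n (.n (.n (.c 11) .z) (.n (.c 2) (.n (.c 2) (.c 11)))) (.n (.n (.c 9) (.c 3)) (.n (.c 10) (.n (.c 5) (.c 7))))) (.n (.n (.n (.c 9) (.c 8)) (.n (.c 4) (.n (.c 7) (.c 11)))) (.n (.n (.c 1) (.c 7)) (.n (.c 2) (.n (.c 3) .z)))))) (.n (.n (.n (.n (.n (.c 6) (.c 11)) (.n (.c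 9) (.c 5))) (.n (.n (.c 3) .z) (.n .z (.n (.c 11) (.c 1))))) (.n (.n (.n (.c 7) (.c 12)) (.n (.c 5) (.n (.c 4) (.c 10)))) (.n (.n (.c 12) (.c 8)) (.n (.c 12) (.n (.c 7) (.c 3)))))) (.n (.n (.n (.n (.c 11) (.c 10)) (.n (.c 2) (.n (.c 8) (.c 7)))) (.n (.n (.c 3) (.c 5)) (.n (.c 10) (.n .z (.c 8))))) (.n (.n (.n (.c 9) (.c 11)) (.n (.c 8) (.n (.c 5) (.c 4)))) (.n (.n (.c 12) (.c 3)) (.n (.c 4) (.n (.c 1) (.c 10))))))))))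
  (.node (.leaf (.n (.n (.n (.n (.n (.n (.c 9) (.c 2)) (.n (.c 5) .z)) (.n (.n .z (.c 1)) (.n (.c 6) (.n (.c 7) (.c 1))))) (.n (.n (.n (.c 7) (.c 11)) (.n (.c 1) (.n (.c 1) (.c 8)))) (.n (.n (.c 9) (.c 5)) (.n .z (.n (.c 1) (.c 4)))))) (.n (.n (.n (.n (.c 5) (.c 11)) (.n (.c 7) (.n (.c 5) (.c 1)))) (.n (.n (.c 5) .z) (.n (.c 5) (.n (.c 9) (.c 3))))) (.n (.n (.n (.c 9) (.c 5)) (.n (.c 8) (.n (.c 11) (.c 7)))) (.n (.n (.c 7) (.c 5)) (.n (.c 4) (.n (.c 5) (.c 12))))))) (.n (.n (.n (.n (.n (.c 2) (.c 2)) (.n .z (.c 5))) (.n (.n .z (.c 11)) (.n (.c 7) (.n (.c 8) .z)))) (.n (.n (.n (.c 11) (.c 11)) (.n (.c 2) (.n (.c 4) (.c 6)))) (.n (.n (.c 3) (.c 7)) (.n (.c 5) (.n (.c 8) (.c 4)))))) (.n (.n (.n (.n (.c 7) (.c 8)) (.n (.c 6) (.n (.c 8) (.c 8)))) (.n (.n (.c 2) (.c 11)) (.n (.c 8)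 (.n (.c 1) (.c 12))))) (.n (.n (.n (.c 10) (.c 10)) (.n (.c 9) (.n (.c 4) (.c 2)))) (.n (.n (.c 4) (.c 5)) (.n (.c 11) (.n .z (.c 11)))))))))
  (.node (.leaf (.n (.n (.n (.n (.n (.n (.c 9) (.c 2)) (.n (.c 5) .z)) (.n (.n .z (.c 7)) (.n (.c 1) (.n (.c 3) (.c 8))))) (.n (.n (.n (.c 7) (.c 12)) (.n .z (.n (.c 7) (.c 12)))) (.n (.n .z (.c 2)) (.n (.c 9) (.n (.c 5) (.c 3)))))) (.n (.n (.n (.n (.c 3) (.c 3)) (.n (.c 4) (.n (.c 4) (.c 8)))) (.n (.n (.c 11) (.c 6)) (.n (.c 10) (.n (.c 4) (.c 4))))) (.n (.n (.n (.c 11) (.c 7)) (.n (.c 4) (.n .z (.c 5)))) (.n (.n (.c 12) (.c 9)) (.n (.c 5) (.n (.c 10) .z)))))) (.n (.n (.n (.n (.n (.c 9) (.c 2)) (.n (.c 11) (.c 3))) (.n (.n .z (.c 10)) (.n (.c 9) (.n (.c 10) (.c 11))))) (.n (.n (.n (.c 9) (.c 12)) (.n (.c 10) (.n (.c 10) (.c 12)))) (.n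 (.n (.c 10) (.c 4)) (.n (.c 10) (.n (.c 3) (.c 5)))))) (.n (.n (.n (.n (.c 2) (.c 3)) (.n (.c 1) (.n (.c 7) (.c 4)))) (.n (.n (.c 11) (.c 8)) (.n (.c 8) (.n (.c 3) .z)))) (.n (.n (.n .z (.c 9)) (.n (.c 11) (.n (.c 11) (.c 1)))) (.n (.n (.c 7) (.c 9)) (.n (.c 10) (.n (.c 9) (.c 7)))))))))
  (.leaf (.n (.n (.n (.n (.n (.n (.c 9) (.c 2)) (.n (.c 2) (.c 10))) (.n (.n .z (.c 7)) (.n (.c 6) (.n .z (.c 4))))) (.n (.n (.n (.c 1) (.c 2)) (.n (.c 4) (.n (.c 11) (.c 1)))) (.n (.n (.c 1) (.c 9)) (.n (.c 5) (.n (.c 2) (.c 10)))))) (.n (.n (.n (.n (.c 5) (.c 7)) (.n (.c 7) (.n (.c 12) (.c 5)))) (.n (.n (.c 2) (.c 4)) (.n (.c 12) (.n (.c 5) (.c 4))))) (.n (.n (.n .z (.c 5)) (.n (.c 2) (.n (.c 3) (.c 10)))) (.n (.n (.c 3) (.c 1)) (.n (.c 8) (.n (.c 1) (.c 4))))))) (.n (.n (.n (.n (.n (.c 4)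 (.c 1)) (.n (.c 2) .z)) (.n (.n (.c 1) (.c 5)) (.n (.c 4) (.n (.c 4) (.c 8))))) (.n (.n (.n (.c 4) (.c 9)) (.n (.c 7) (.n .z (.c 5)))) (.n (.n (.c 3) (.c 8)) (.n (.c 6) (.n (.c 2) (.c 4)))))) (.n (.n (.n (.n (.c 5) (.c 10)) (.n (.c 5) (.n (.c 9) (.c 7)))) (.n (.n (.c 3) (.c 4)) (.n (.c 10) (.n (.c 7) (.c 3))))) (.n (.n (.n .z (.c 5)) (.n (.c 7) (.n (.c 7) (.c 8)))) (.n (.n (.c 11) (.c 6)) (.n (.c 10) (.n (.c 9) (.c 9)))))))))))))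
  (.node (.node (.node (.leaf (.n (.n (.n (.n (.n (.n (.c 9) (.c 2)) (.n (.c 10) (.c 10))) (.n (.n (.c 10) (.c 7)) (.n (.c 6) (.n (.c 1) (.c 3))))) (.n (.n (.n (.c 11) .z) (.n .z (.n (.c 3) (.c 3)))) (.n (.n (.c 5) (.c 3)) (.n (.c 5) (.n (.c 1) (.c 5)))))) (.n (.n (.n (.n (.c 3) (.c 9)) (.n (.c 2) (.n (.c 4) (.c 11)))) (.n (.n (.c 4) (.c 8)) (.n (.c 11) (.n (.c 6) (.c 12))))) (.n (.n (.n (.c 2) (.c 9)) (.n (.c 12) (.n (.c 7) (.c 4)))) (.n (.n (.c 4) (.c 11)) (.n .z (.n .z (.c 3))))))) (.n (.n (.n (.n (.n (.c 1) (.c 12)) (.n (.c 7) (.c 6))) (.n (.n (.c 3) (.c 2)) (.n .z (.n (.c 2) (.c 4))))) (.n (.n (.n (.c 8) (.c 12)) (.n (.c 7) (.n (.c 9) (.c 1)))) (.n (.n (.c 5) (.c 4)) (.n .z (.n (.c 5) (.c 12)))))) (.n (.n (.n (.n (.c 5) (.c 2)) (.n (.c 6) (.n (.c 4) (.c 11)))) (.n (.n (.c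 3) (.c 5)) (.n (.c 6) (.n (.c 7) (.c 3))))) (.n (.n (.n (.c 6) (.c 2)) (.n (.c 2) (.n (.c 9) (.c 12)))) (.n (.n (.c 10) (.c 9)) (.n (.c 12) (.n (.c 8) .z))))))))
  (.leaf (.n (.n (.n (.n (.n (.n (.c 9) (.c 2)) (.n (.c 10) (.c 10))) (.n (.n .z (.c 1)) (.n (.c 6) (.n (.c 2) (.c 12))))) (.n (.n (.n (.c 10) (.c 7)) (.n (.c 5) (.n (.c 1) (.c 8)))) (.n (.n (.c 7) .z) (.n (.c 7) (.n .z (.c 1)))))) (.n (.n (.n (.n (.c 5) (.c 7)) (.n (.c 8) (.n (.c 6) (.c 9)))) (.n (.n (.c 11) (.c 7)) (.n (.c 2) (.n (.c 5) (.c 5))))) (.n (.n (.n (.c 4) .z) (.n (.c 2) .z)) (.n (.n (.c 5) (.c 1)) (.n (.c 12) (.n (.c 5) (.c 5))))))) (.n (.n (.n (.n (.n (.c 6) (.c 2)) (.n .z (.c 12))) (.n (.n (.c 11) (.c 7)) (.n (.c 8) (.n (.c 5) (.c 9))))) (.n (.n (.n (.c 9) (.c 4)) (.n (.c 2) (.n (.c 7) .z))) (.n (.n (.c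 5) (.c 12)) (.n (.c 7) (.n (.c 3) (.c 4)))))) (.n (.n (.n (.n (.c 4) (.c 1)) (.n (.c 1) (.n (.c 5) (.c 4)))) (.n (.n (.c 3) (.c 6)) (.n (.c 3) (.n (.c 3) (.c 12))))) (.n (.n (.n (.c 3) (.c 1)) (.n (.c 5) (.n (.c 11) (.c 8)))) (.n (.n .z (.c 5)) (.n (.c 7) (.n (.c 5) (.c 9))))))))))
  (.node (.leaf (.n (.n (.n (.n (.n (.n (.c 9) (.c 2)) (.n (.c 10) (.c 10))) (.n (.n .z (.c 7)) (.n (.c 1) (.n (.c 11) (.c 10))))) (.n (.n (.n (.c 6) (.c 3)) (.n (.c 3) (.n (.c 3) (.c 12)))) (.n (.n (.c 4) (.c 3)) (.n .z (.n (.c 4) (.c 8)))))) (.n (.n (.n (.n (.c 9) (.c 4)) (.n (.c 9) (.n (.c 5) (.c 8)))) (.n (.n (.c 7) (.c 3)) (.n (.c 11) (.n (.c 1) (.c 12))))) (.n (.n (.n .z (.c 7)) (.n (.c 12) (.n (.c 10) (.c 2)))) (.n (.n (.c 3) (.c 12)) (.n (.c 3) (.n (.c 10) (.c 12))))))) (.n (.n (.n (.n (.n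 (.c 7) (.c 7)) (.n (.c 7) (.c 7))) (.n (.n (.c 3) (.c 10)) (.n (.c 5) (.n (.c 4) (.c 11))))) (.n (.n (.n (.c 5) (.c 11)) (.n (.c 3) (.n (.c 8) (.c 3)))) (.n (.n (.c 10) (.c 7)) (.n (.c 5) (.n .z (.c 6)))))) (.n (.n (.n (.n (.c 5) .z) (.n (.c 10) (.n (.c 1) (.c 10)))) (.n (.n (.c 2) (.c 1)) (.n (.c 9) (.n .z (.c 7))))) (.n (.n (.n (.c 5) (.c 8)) (.n (.c 7) (.n (.c 11) (.c 7)))) (.n (.n (.c 12) (.c 2)) (.n (.c 7) (.n (.c 10) (.c 6)))))))))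
  (.node (.leaf (.n (.n (.n (.n (.n (.n (.c 9) (.c 2)) (.n (.c 10) (.c 10))) (.n (.n .z (.c 7)) (.n (.c 6) (.n (.c 3) (.c 6))))) (.n (.n (.n (.c 4) (.c 4)) (.n (.c 8) (.n .z (.c 12)))) (.n (.n (.c 2) (.c 3)) (.n (.c 10) (.n (.c 8) (.c 10)))))) (.n (.n (.n (.n (.c 2) .z) (.n (.c 4) (.n (.c 3) (.c 6)))) (.n (.n (.c 8) (.c 5)) (.n (.c 7) (.n (.c 10) (.c 7))))) (.n (.n (.n (.c 7) (.c 7)) (.n (.c 11) (.n (.c 1) (.c 1)))) (.n (.n (.c 7) (.c 8)) (.n (.c 3) (.n (.c 6) .z)))))) (.n (.n (.n (.n (.n (.c 2) (.c 10)) (.n (.c 9) (.c 4))) (.n (.n (.c 3) (.c 11)) (.n (.c 8) (.n (.c 10) (.c 1))))) (.n (.n (.n (.c 8) (.c 4)) (.n (.c 10) (.n (.c 5) (.c 8)))) (.n (.n .z (.c 5)) (.n (.c 1) (.n (.c 10) (.c 10)))))) (.n (.n (.n (.n (.c 8) (.c 5)) (.n .z (.n (.c 3) (.c 11)))) (.n (.n .z (.c 7)) (.n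 (.c 1) (.n (.c 9) (.c 7))))) (.n (.n (.n (.c 4) (.c 9)) (.n (.c 5) (.n (.c 4) (.c 5)))) (.n (.n (.c 12) (.c 10)) (.n (.c 10) (.n (.c 10) (.c 8)))))))))
  (.leaf (.n (.n (.n (.n (.n (.n (.c 9) (.c 2)) (.n (.c 10) .z)) (.n (.n .z (.c 1)) (.n (.c 6) (.n (.c 6) (.c 8))))) (.n (.n (.n (.c 6) (.c 1)) (.n (.c 4) (.n (.c 1) (.c 8)))) (.n (.n (.c 8) (.c 4)) (.n (.c 1) (.n (.c 2) (.c 8)))))) (.n (.n (.n (.n (.c 7) (.c 1)) (.n (.c 8) (.n (.c 4) (.c 9)))) (.n (.n (.c 11) (.c 12)) (.n (.c 4) (.n (.c 5) (.c 10))))) (.n (.n (.n .z (.c 4)) (.n (.c 10) (.n (.c 2) (.c 7)))) (.n (.n (.c 1) (.c 4)) (.n (.c 8) (.n .z (.c 10))))))) (.n (.n (.n (.n (.n .z (.c 8)) (.n (.c 11) (.c 4))) (.n (.n (.c 3) (.c 6)) (.n (.c 6) (.n (.c 8) (.c 1))))) (.n (.n (.n (.c 6) (.c 5)) (.n (.c 8) (.n .z (.c 3)))) (.n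 (.n (.c 7) (.c 11)) (.n (.c 8) (.n (.c 11) (.c 8)))))) (.n (.n (.n (.n (.c 8) (.c 8)) (.n (.c 3) (.n (.c 7) (.c 5)))) (.n (.n (.c 10) (.c 6)) (.n (.c 6) (.n (.c 8) (.c 12))))) (.n (.n (.n (.c 12) (.c 7)) (.n (.c 6) (.n (.c 9) (.c 6)))) (.n .z (.n (.c 12) (.n (.c 5) (.c 7))))))))))))
  (.node (.node (.leaf (.n (.n (.n (.n (.n (.n (.c 9) (.c 2)) (.n (.c 10) .z)) (.n (.n .z (.c 7)) (.n (.c 1) (.n (.c 6) (.c 2))))) (.n (.n (.n (.c 11) (.c 6)) (.n (.c 10) (.n (.c 11) (.c 9)))) (.n (.n (.c 10) (.c 9)) (.n (.c 9) (.n (.c 9) (.c 5)))))) (.n (.n (.n (.n (.c 10) .z) (.n (.c 12) (.n (.c 3) (.c 10)))) (.n (.n (.c 9) (.c 3)) (.n (.c 8) (.n .z (.c 10))))) (.n (.n (.n (.c 2) (.c 7)) (.n (.c 1) (.n (.c 12) (.c 2)))) (.n (.n (.c 4) (.c 6)) (.n (.c 5) (.n (.c 6) (.c 10))))))) (.n (.n (.n (.n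 (.n (.c 5) .z) (.n (.c 12) (.c 6))) (.n (.n (.c 1) (.c 11)) (.n (.c 11) (.n (.c 12) (.c 10))))) (.n (.n (.n (.c 12) (.c 3)) (.n (.c 1) (.n (.c 4) (.c 11)))) (.n (.n .z (.c 11)) (.n (.c 1) (.n (.c 1) (.c 12)))))) (.n (.n (.n (.n (.c 7) (.c 4)) (.n (.c 3) (.n (.c 6) (.c 10)))) (.n (.n (.c 11) (.c 1)) (.n (.c 3) (.n (.c 2) (.c 6))))) (.n (.n (.n (.c 5) (.c 4)) (.n (.c 1) (.n (.c 3) (.c 7)))) (.n (.n (.c 6) (.c 7)) (.n (.c 2) (.n (.c 2) (.c 5)))))))))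
  (.leaf (.n (.n (.n (.n (.n (.n (.c 9) (.c 5)) (.n (.c 10) .z)) (.n (.n .z (.c 1)) (.n (.c 6) (.n (.c 3) (.c 11))))) (.n (.n (.n (.c 5) (.c 7)) (.n (.c 10) (.n (.c 11) (.c 6)))) (.n (.n (.c 2) .z) (.n (.c 9) (.n (.c 9) (.c 8)))))) (.n (.n (.n (.n (.c 12) (.c 6)) (.n (.c 10) (.n (.c 7) (.c 3)))) (.n (.n (.c 1) (.c 2)) (.n (.c 12) (.n (.c 8) (.c 12))))) (.n (.n (.n .z (.c 8)) (.n (.c 1) (.n (.c 7) (.c 2)))) (.n (.n (.c 5) .z) (.n (.c 3) (.n (.c 12) (.c 6))))))) (.n (.n (.n (.n (.n (.c 9) (.c 11)) (.n (.c 10) (.c 1))) (.n (.n (.c 4) (.c 2)) (.n .z (.n (.c 10) .z)))) (.n (.n (.n (.c 4) (.c 12)) (.n (.c 6) (.n (.c 10) (.c 5)))) (.n (.n (.c 10) .z) (.n (.c 5) (.n (.c 12) (.c 11)))))) (.n (.n (.n (.n (.c 7) (.c 5)) (.n (.c 1) (.n (.c 4) (.c 9)))) (.n (.n (.c 1) (.c 5)) (.n (.c 9)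 (.n (.c 10) (.c 5))))) (.n (.n (.n (.c 7) (.c 1)) (.n (.c 2) (.n (.c 1) (.c 12)))) (.n (.n (.c 1) (.c 5)) (.n (.c 11) (.n (.c 8) (.c 10))))))))))
  (.node (.leaf (.n (.n (.n (.n (.n (.n (.c 9) (.c 2)) (.n (.c 10) .z)) (.n (.n .z (.c 1)) (.n (.c 8) (.n (.c 9) (.c 8))))) (.n (.n (.n (.c 10) (.c 3)) (.n (.c 11) (.n (.c 1) .z))) (.n (.n (.c 2) (.c 4)) (.n (.c 3) (.n (.c 11) (.c 11)))))) (.n (.n (.n (.n (.c 6) (.c 12)) (.n .z (.n (.c 5) (.c 3)))) (.n (.n (.c 12) (.c 12)) (.n (.c 9) .z))) (.n (.n (.n (.c 5) (.c 11)) (.n (.c 8) (.n (.c 4) (.c 7)))) (.n (.n .z (.c 1)) (.n .z (.n (.c 11) (.c 4))))))) (.n (.n (.n (.n (.n (.c 5) (.c 5)) (.n (.c 2) (.c 1))) (.n (.n (.c 11) (.c 3)) (.n (.c 4) (.n (.c 2) (.c 5))))) (.n (.n (.n (.c 11) (.c 12)) (.n .z (.n (.c 1) (.c 6)))) (.n (.n (.c 1) .z)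 (.n (.c 5) (.n (.c 10) (.c 4)))))) (.n (.n (.n (.n (.c 12) (.c 9)) (.n .z (.n (.c 4) (.c 9)))) (.n (.n (.c 2) (.c 9)) (.n (.c 3) (.n (.c 9) (.c 9))))) (.n (.n (.n (.c 9) (.c 10)) (.n (.c 2) (.n (.c 4) (.c 10)))) (.n (.n (.c 10) (.c 11)) (.n (.c 2) (.n .z (.c 1)))))))))
  (.node (.leaf (.n (.n (.n (.n (.n (.n (.c 9) (.c 2)) (.n (.c 10) .z)) (.n (.n .z (.c 9)) (.n (.c 1) (.n (.c 2) (.c 5))))) (.n (.n (.n (.c 8) (.c 6)) (.n (.c 3) (.n (.c 1) (.c 7)))) (.n (.n (.c 3) (.c 9)) (.n (.c 6) (.n (.c 9) (.c 9)))))) (.n (.n (.n (.n (.c 12) (.c 2)) (.n (.c 1) (.n (.c 5) (.c 2)))) (.n (.n (.c 2) (.c 11)) (.n (.c 11) (.n .z (.c 1))))) (.n (.n (.n (.c 6) (.c 1)) (.n (.c 6) (.n (.c 4) (.c 3)))) (.n (.n (.c 5) (.c 2)) (.n (.c 3) (.n .z (.c 12))))))) (.n (.n (.n (.n (.n (.c 3) (.c 11)) (.n .z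 (.c 7))) (.n (.n (.c 6) (.c 12)) (.n (.c 9) (.n (.c 9) (.c 11))))) (.n (.n (.n (.c 4) (.c 2)) (.n (.c 3) (.n (.c 10) (.c 1)))) (.n (.n (.c 2) (.c 10)) (.n (.c 12) (.n (.c 7) (.c 10)))))) (.n (.n (.n (.n (.c 2) (.c 8)) (.n (.c 12) (.n (.c 9) (.c 10)))) (.n (.n .z (.c 12)) (.n (.c 5) (.n (.c 4) (.c 3))))) (.n (.n (.n (.c 10) (.c 7)) (.n (.c 3) (.n (.c 11) (.c 9)))) (.n (.n (.c 2) (.c 6)) (.n (.c 1) (.n (.c 9) (.c 12)))))))))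
  (.leaf (.n (.n (.n (.n (.n (.n (.c 5) (.c 7)) (.n (.c 11) (.c 6))) (.n (.n (.c 6) (.c 11)) (.n (.c 9) (.n (.c 11) (.c 12))))) (.n (.n (.n (.c 5) (.c 2)) (.n (.c 5) (.n (.c 3) (.c 12)))) (.n (.n (.c 4) (.c 9)) (.n (.c 12) (.n (.c 1) (.c 9)))))) (.n (.n (.n (.n (.c 9) (.c 11)) (.n (.c 9) (.n (.c 6) (.c 9)))) (.n (.n (.c 5) (.c 4)) (.n (.c 7) (.n (.c 5) (.c 2))))) (.n (.n (.n (.c 4) (.c 6)) (.n (.c 9) (.n (.c 6) (.c 6)))) (.n (.n (.c 7) (.c 2)) (.n (.c 7) (.n (.c 3) (.c 10))))))) (.n (.n (.n (.n (.n (.c 4) (.c 5)) (.n (.c 8) (.c 3))) (.n (.n (.c 9) (.c 2)) (.n (.c 12) (.n (.c 11) (.c 6))))) (.n (.n (.n (.c 12) (.c 9)) (.n (.c 1) (.n (.c 2) .z))) (.n (.n (.c 2) (.c 11)) (.n (.c 6) (.n (.c 12) (.c 1)))))) (.n (.n (.n (.n (.c 4) (.c 11)) (.n (.c 2) (.n (.c 3) .z))) (.n (.n (.c 12)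 (.c 1)) (.n (.c 9) (.n (.c 12) (.c 9))))) (.n (.n (.n (.c 8) (.c 5)) (.n (.c 2) (.n .z (.c 7)))) (.n (.n (.c 12) .z) (.n (.c 9) (.n (.c 7) (.c 11))))))))))))))
  (.node (.node (.node (.node (.leaf (.n (.n (.n (.n (.n (.n (.c 2) (.c 10)) (.n (.c 4) (.c 12))) (.n (.n (.c 6) (.c 2)) (.n (.c 12) (.n (.c 2) (.c 8))))) (.n (.n (.n (.c 6) (.c 10)) (.n (.c 5) (.n (.c 12) (.c 8)))) (.n (.n (.c 12) (.c 8)) (.n (.c 12) (.n (.c 4) (.c 3)))))) (.n (.n (.n (.n .z (.c 4)) (.n (.c 4) (.n (.c 2) (.c 1)))) (.n (.n (.c 11) (.c 8)) (.n (.c 4) (.n .z (.c 7))))) (.n (.n (.n (.c 8) (.c 3)) (.n (.c 5) (.n (.c 12) (.c 3)))) (.n (.n (.c 7) (.c 2)) (.n (.c 9) (.n (.c 12) (.c 1))))))) (.n (.n (.n (.n (.n (.c 12) (.c 2)) (.n (.c 1) (.c 5))) (.n (.n (.c 5) (.c 6)) (.n (.c 5) (.n (.c 5) (.c 3))))) (.n (.n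 (.n (.c 4) (.c 6)) (.n (.c 2) (.n (.c 1) (.c 5)))) (.n (.n (.c 11) (.c 9)) (.n (.c 4) (.n (.c 5) (.c 2)))))) (.n (.n (.n (.n (.c 9) (.c 1)) (.n (.c 12) (.n (.c 6) (.c 11)))) (.n (.n (.c 11) (.c 6)) (.n (.c 6) (.n (.c 10) (.c 6))))) (.n (.n (.n (.c 3) (.c 11)) (.n (.c 12) (.n (.c 8) .z))) (.n (.n (.c 6) (.c 7)) (.n (.c 8) (.n .z (.c 9)))))))))
  (.leaf (.n (.n (.n (.n (.n (.n (.c 2) (.c 10)) (.n (.c 5) (.c 12))) (.n (.n (.c 6) (.c 2)) (.n (.c 12) (.n (.c 7) (.c 11))))) (.n (.n (.n (.c 1) (.c 4)) (.n (.c 5) (.n (.c 2) (.c 6)))) (.n (.n (.c 6) (.c 7)) (.n (.c 11) (.n (.c 8) (.c 1)))))) (.n (.n (.n (.n (.c 3) (.c 5)) (.n (.c 10) (.n (.c 2) (.c 5)))) (.n (.n (.c 6) (.c 9)) (.n (.c 6) (.n (.c 10) (.c 12))))) (.n (.n (.n (.c 6) (.c 2)) (.n (.c 1) (.n (.c 9) (.c 4)))) (.n (.n (.c 10)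 (.c 7)) (.n (.c 4) (.n (.c 7) (.c 3))))))) (.n (.n (.n (.n (.n (.c 10) (.c 10)) (.n (.c 5) (.c 9))) (.n (.n (.c 4) (.c 1)) (.n (.c 9) (.n (.c 1) (.c 8))))) (.n (.n (.n (.c 4) (.c 9)) (.n (.c 6) (.n (.c 7) .z))) (.n (.n (.c 6) (.c 1)) (.n .z (.n (.c 3) (.c 8)))))) (.n (.n (.n (.n (.c 7) (.c 7)) (.n (.c 6) (.n (.c 6) (.c 7)))) (.n (.n (.c 10) (.c 9)) (.n (.c 4) (.n (.c 2) (.c 9))))) (.n (.n (.n (.c 6) (.c 6)) (.n (.c 11) (.n (.c 9) (.c 12)))) (.n (.n (.c 10) (.c 12)) (.n (.c 3) (.n (.c 6) (.c 8))))))))))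
  (.node (.leaf (.n (.n (.n (.n (.n (.n (.c 2) (.c 10)) (.n (.c 5) (.c 12))) (.n (.n (.c 6) (.c 2)) (.n (.c 12) (.n (.c 4) (.c 4))))) (.n (.n (.n (.c 12) (.c 9)) (.n (.c 6) (.n (.c 8) (.c 11)))) (.n (.n (.c 7) (.c 2)) (.n (.c 8) (.n (.c 2) (.c 7)))))) (.n (.n (.n (.n (.c 4) (.c 7)) (.n (.c 12) (.n (.c 10) .z))) (.n (.n (.c 12) (.c 10)) (.n (.c 9) (.n (.c 3) (.c 11))))) (.n (.n (.n (.c 1) (.c 6)) (.n (.c 8) (.n (.c 6) (.c 7)))) (.n .z (.n (.c 10) (.n (.c 8) (.c 1))))))) (.n (.n (.n (.n (.n (.c 10) (.c 8)) (.n (.c 10) (.c 10))) (.n (.n (.c 7) (.c 9)) (.n (.c 11) (.n (.c 12) (.c 9))))) (.n (.n (.n (.c 4) (.c 1)) (.n (.c 11) (.n (.c 4) (.c 2)))) (.n (.n (.c 8) .z) (.n (.c 7) (.n .z (.c 1)))))) (.n (.n (.n (.n (.c 6) (.c 9)) (.n (.c 3) (.n (.c 11) .z))) (.n (.n (.c 3) (.c 8)) (.n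 (.c 5) (.n (.c 2) (.c 2))))) (.n (.n (.n (.c 1) .z) (.n (.c 3) (.n (.c 9) (.c 9)))) (.n (.n (.c 12) (.c 9)) (.n (.c 9) (.n (.c 9) (.c 1)))))))))
  (.node (.leaf (.n (.n (.n (.n (.n (.n (.c 2) (.c 10)) (.n (.c 5) (.c 12))) (.n (.n (.c 6) (.c 7)) (.n (.c 12) (.n (.c 5) .z)))) (.n (.n (.n (.c 11) (.c 2)) (.n (.c 5) (.n (.c 1) (.c 8)))) (.n (.n (.c 9) (.c 11)) (.n (.c 11) (.n (.c 12) (.c 6)))))) (.n (.n (.n (.n (.c 5) (.c 4)) (.n (.c 11) (.n .z (.c 7)))) (.n (.n (.c 8) (.c 8)) (.n (.c 4) (.n (.c 9) (.c 8))))) (.n (.n (.n (.c 2) (.c 4)) (.n (.c 1) (.n (.c 5) (.c 10)))) (.n (.n (.c 9) (.c 9)) (.n (.c 7) (.n (.c 5) (.c 10))))))) (.n (.n (.n (.n (.n (.c 3) (.c 1)) (.n (.c 11) (.c 6))) (.n (.n (.c 10) (.c 7)) (.n (.c 7) (.n (.c 9) (.c 5))))) (.n (.n (.n (.c 6) (.c 11)) (.n (.c 12) (.n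 (.c 12) (.c 10)))) (.n (.n (.c 1) (.c 10)) (.n (.c 12) (.n .z (.c 4)))))) (.n (.n (.n (.n (.c 6) (.c 11)) (.n (.c 4) (.n (.c 3) .z))) (.n (.n .z (.c 3)) (.n (.c 12) (.n (.c 7) .z)))) (.n (.n (.n (.c 11) (.c 2)) (.n (.c 10) (.n (.c 7) (.c 7)))) (.n (.n (.c 10) (.c 8)) (.n (.c 12) (.n (.c 12) (.c 6)))))))))
  (.leaf (.n (.n (.n (.n (.n (.n (.c 2) (.c 10)) (.n (.c 5) (.c 12))) (.n (.n (.c 6) (.c 2)) (.n (.c 3) (.n (.c 4) (.c 2))))) (.n (.n (.n (.c 3) (.c 11)) (.n (.c 11) (.n (.c 5) (.c 8)))) (.n (.n (.c 12) (.c 8)) (.n (.c 3) (.n (.c 11) (.c 12)))))) (.n (.n (.n (.n .z (.c 11)) (.n (.c 10) (.n (.c 3) (.c 7)))) (.n (.n (.c 7) (.c 11)) (.n (.c 4) (.n (.c 6) (.c 6))))) (.n (.n (.n (.c 10) (.c 5)) (.n (.c 1) (.n (.c 12) (.c 9)))) (.n (.n (.c 11) (.c 2)) (.n (.c 5) (.n (.c 12) (.c 8)))))))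 (.n (.n (.n (.n (.n (.c 10) (.c 11)) (.n (.c 7) (.c 6))) (.n (.n (.c 7) (.c 1)) (.n (.c 3) (.n .z (.c 1))))) (.n (.n (.n (.c 8) (.c 11)) (.n (.c 11) (.n (.c 11) (.c 4)))) (.n (.n (.c 6) (.c 12)) (.n (.c 4) (.n (.c 9) (.c 9)))))) (.n (.n (.n (.n (.c 12) (.c 1)) (.n (.c 5) (.n (.c 4) .z))) (.n (.n (.c 3) (.c 5)) (.n (.c 12) (.n .z (.c 10))))) (.n (.n (.n (.c 1) (.c 9)) (.n (.c 3) (.n .z (.c 1)))) (.n (.n (.c 5) (.c 7)) (.n (.c 7) (.n (.c 11) (.c 1))))))))))))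
  (.node (.node (.leaf (.n (.n (.n (.n (.n (.n (.c 2) (.c 11)) (.n (.c 6) (.c 12))) (.n (.n (.c 6) (.c 2)) (.n (.c 12) (.n (.c 12) (.c 8))))) (.n (.n (.n .z (.c 9)) (.n (.c 7) (.n (.c 7) (.c 10)))) (.n (.n (.c 9) (.c 11)) (.n (.c 7) (.n (.c 10) (.c 11)))))) (.n (.n (.n (.n (.c 1) (.c 6)) (.n .z (.n (.c 12) (.c 1)))) (.n (.n (.c 7) (.c 1)) (.n (.c 12) (.n (.c 3) (.c 8))))) (.n (.n (.n (.c 10) (.c 5)) (.n (.c 5) (.n (.c 6) (.c 9)))) (.n (.n (.c 6) (.c 10)) (.n (.c 7) (.n (.c 2) (.c 7))))))) (.n (.n (.n (.n (.n .z (.c 3)) (.n (.c 11) (.c 10))) (.n (.n (.c 7) (.c 6)) (.n (.c 10) (.n (.c 6) (.c 4))))) (.n (.n (.n (.c 7) (.c 6)) (.n (.c 10) (.n (.c 11) (.c 9)))) (.n (.n (.c 9) (.c 11)) (.n (.c 8) (.n (.c 3) (.c 9)))))) (.n (.n (.n (.n (.c 5) (.c 3)) (.n (.c 2) (.n (.c 4) (.c 8))))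 (.n (.n (.c 11) (.c 7)) (.n (.c 3) (.n (.c 12) (.c 5))))) (.n (.n (.n .z (.c 7)) (.n (.c 10) (.n (.c 12) (.c 5)))) (.n (.n (.c 7) (.c 2)) (.n .z (.n (.c 10) (.c 1)))))))))
  (.leaf (.n (.n (.n (.n (.n (.n (.c 2) (.c 12)) (.n (.c 6) .z)) (.n (.n (.c 6) (.c 2)) (.n (.c 12) (.n (.c 7) (.c 2))))) (.n (.n (.n (.c 1) .z) (.n (.c 2) (.n (.c 12) (.c 9)))) (.n (.n (.c 2) (.c 9)) (.n (.c 12) (.n (.c 2) (.c 9)))))) (.n (.n (.n (.n (.c 2) .z) (.n (.c 4) (.n (.c 1) (.c 2)))) (.n (.n (.c 2) (.c 12)) (.n (.c 4) (.n (.c 8) (.c 3))))) (.n (.n (.n (.c 9) (.c 4)) (.n (.c 8) (.n (.c 8) (.c 5)))) (.n (.n (.c 8) (.c 5)) (.n (.c 9) (.n (.c 9) (.c 7))))))) (.n (.n (.n (.n (.n (.c 12) (.c 7)) (.n (.c 7) (.c 1))) (.n (.n (.c 12) (.c 5)) (.n (.c 4) (.n (.c 6) (.c 11))))) (.n (.n (.n (.c 7) (.c 2)) (.n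 (.c 2) (.n .z (.c 7)))) (.n (.n (.c 1) (.c 1)) (.n (.c 6) (.n (.c 3) (.c 3)))))) (.n (.n (.n (.n .z (.c 9)) (.n (.c 12) (.n (.c 4) (.c 10)))) (.n (.n (.c 12) (.c 2)) (.n (.c 6) (.n (.c 4) (.c 1))))) (.n (.n (.n (.c 8) (.c 7)) (.n (.c 1) (.n (.c 6) (.c 3)))) (.n (.n (.c 1) (.c 9)) (.n (.c 1) (.n (.c 2) (.c 1))))))))))
  (.node (.leaf (.n (.n (.n (.n (.n (.n (.c 2) (.c 12)) (.n (.c 6) (.c 12))) (.n (.n (.c 6) (.c 9)) (.n (.c 12) (.n (.c 3) (.c 9))))) (.n (.n (.n (.c 1) (.c 10)) (.n (.c 1) (.n (.c 3) (.c 6)))) (.n (.n (.c 11) (.c 6)) (.n (.c 1) (.n (.c 10) (.c 9)))))) (.n (.n (.n (.n (.c 2) (.c 4)) (.n (.c 1) (.n (.c 3) (.c 10)))) (.n (.n (.c 7) (.c 7)) (.n (.c 3) (.n (.c 7) (.c 1))))) (.n (.n (.n (.c 12) (.c 5)) (.n (.c 7) (.n (.c 3) (.c 12)))) (.n (.n (.c 2) (.c 5)) (.n (.c 3)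 (.n .z (.c 3))))))) (.n (.n (.n (.n (.n .z (.c 8)) (.n (.c 1) (.c 12))) (.n (.n (.c 1) (.c 1)) (.n (.c 1) (.n (.c 2) (.c 1))))) (.n (.n (.n (.c 9) (.c 12)) (.n (.c 10) (.n (.c 6) (.c 1)))) (.n (.n .z (.c 6)) (.n (.c 11) (.n (.c 4) (.c 1)))))) (.n (.n (.n (.n (.c 8) (.c 9)) (.n (.c 4) (.n (.c 10) (.c 7)))) (.n (.n (.c 5) (.c 11)) (.n (.c 3) (.n (.c 12) (.c 4))))) (.n (.n .z (.n (.c 8) (.n (.c 12) (.c 3)))) (.n (.n (.c 4) (.c 4)) (.n (.c 6) (.n (.c 12) (.c 12)))))))))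
  (.node (.leaf (.n (.n (.n (.n (.n (.n (.c 2) (.c 12)) (.n (.c 6) (.c 12))) (.n (.n (.c 6) (.c 2)) (.n (.c 3) (.n (.c 12) (.c 2))))) (.n (.n (.n (.c 4) (.c 6)) (.n (.c 12) (.n (.c 8) (.c 9)))) (.n (.n (.c 7) (.c 10)) (.n (.c 12) (.n (.c 10) (.c 1)))))) (.n (.n (.n (.n (.c 1) (.c 9)) (.n (.c 5) (.n (.c 8) (.c 11)))) (.n (.n (.c 2) (.c 8)) (.n (.c 7) (.n (.c 4) (.c 4))))) (.n (.n (.n (.c 1) (.c 7)) (.n (.c 1) (.n (.c 6) (.c 4)))) (.n (.n (.c 2) (.c 11)) (.n (.c 3) (.n (.c 8) (.c 8))))))) (.n (.n (.n (.n (.n (.c 1) (.c 6)) (.n (.c 8) (.c 12))) (.n (.n (.c 1) (.c 6)) (.n (.c 6) (.n (.c 3) (.c 8))))) (.n (.n (.n (.c 2) .z) (.n (.c 2) (.n (.c 4) (.c 10)))) (.n .z (.n (.c 1) (.n (.c 3) (.c 1)))))) (.n (.n (.n (.n (.c 10) (.c 2)) (.n (.c 3) (.n (.c 8) (.c 7)))) (.n (.n (.c 6) (.c 8))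 (.n (.c 5) (.n (.c 2) (.c 5))))) (.n (.n (.n (.c 11) (.c 9)) (.n (.c 8) (.n (.c 7) (.c 4)))) (.n (.n .z (.c 12)) (.n (.c 10) (.n (.c 11) .z))))))))
  (.leaf (.n (.n (.n (.n (.n (.n (.c 2) (.c 12)) (.n (.c 6) (.c 12))) (.n (.n (.c 6) (.c 2)) (.n (.c 12) (.n (.c 5) (.c 1))))) (.n (.n (.n (.c 5) (.c 9)) (.n (.c 11) (.n (.c 3) (.c 1)))) (.n (.n (.c 10) .z) (.n (.c 9) (.n (.c 6) (.c 12)))))) (.n (.n (.n (.n (.c 6) (.c 5)) (.n (.c 2) (.n (.c 2) (.c 4)))) (.n (.n (.c 5) (.c 7)) (.n (.c 9) (.n (.c 5) (.c 9))))) (.n (.n (.n (.c 10) (.c 11)) (.n (.c 5) (.n (.c 8) (.c 9)))) (.n (.n (.c 3) (.c 12)) (.n (.c 9) (.n .z (.c 4))))))) (.n (.n (.n (.n (.n (.c 11) (.c 12)) (.n (.c 8) .z)) (.n (.n (.c 9) .z) (.n (.c 2) (.n (.c 3) (.c 1))))) (.n (.n (.n .z (.c 7)) (.n (.c 11) (.n (.c 1) (.c 7))))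 (.n (.n (.c 1) (.c 7)) (.n (.c 6) (.n (.c 7) (.c 11)))))) (.n (.n (.n (.n (.c 10) (.c 3)) (.n (.c 2) (.n .z (.c 11)))) (.n (.n (.c 6) (.c 6)) (.n (.c 4) (.n (.c 11) (.c 10))))) (.n (.n (.n (.c 3) (.c 6)) (.n (.c 8) (.n (.c 3) (.c 5)))) (.n (.n (.c 10) (.c 10)) (.n (.c 6) (.n (.c 6) (.c 1)))))))))))))
  (.node (.node (.node (.leaf (.n (.n (.n (.n (.n (.n (.c 2) (.c 12)) (.n (.c 5) (.c 12))) (.n (.n (.c 6) (.c 2)) (.n (.c 12) (.n (.c 6) .z)))) (.n (.n (.n (.c 11) (.c 2)) (.n (.c 3) (.n (.c 7) (.c 6)))) (.n (.n (.c 5) (.c 5)) (.n (.c 4) (.n (.c 10) (.c 8)))))) (.n (.n (.n (.n (.c 5) (.c 11)) (.n (.c 2) (.n (.c 11) (.c 9)))) (.n (.n (.c 12) (.c 6)) (.n (.c 9) (.n (.c 8) (.c 12))))) (.n (.n (.n (.c 1) (.c 11)) (.n (.c 7) (.n (.c 2) (.c 10)))) (.n (.n (.c 11) (.c 9)) (.n (.c 12) (.n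 (.c 2) (.c 1))))))) (.n (.n (.n (.n (.n (.c 2) (.c 6)) (.n (.c 4) (.c 8))) (.n (.n .z (.c 9)) (.n .z (.n (.c 9) (.c 9))))) (.n (.n (.n (.c 3) (.c 4)) (.n (.c 7) (.n (.c 12) (.c 8)))) (.n (.n (.c 2) (.c 11)) (.n (.c 2) (.n (.c 1) (.c 4)))))) (.n (.n (.n (.n (.c 10) (.c 3)) (.n (.c 8) (.n (.c 12) (.c 9)))) (.n (.n (.c 4) (.c 4)) (.n (.c 5) (.n (.c 4) (.c 4))))) (.n (.n (.n (.c 2) (.c 4)) (.n (.c 2) (.n (.c 10) (.c 9)))) (.n (.n (.c 1) (.c 8)) (.n (.c 11) (.n (.c 4) (.c 2)))))))))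
  (.leaf (.n (.n (.n (.n (.n (.n (.c 2) (.c 12)) (.n (.c 5) (.c 12))) (.n (.n (.c 6) (.c 9)) (.n (.c 12) (.n (.c 7) (.c 5))))) (.n (.n (.n (.c 5) (.c 6)) (.n (.c 10) (.n (.c 12) (.c 10)))) (.n (.n (.c 2) (.c 10)) (.n (.c 2) (.n (.c 1) (.c 12)))))) (.n (.n (.n (.n (.c 12) (.c 11)) (.n (.c 6) (.n (.c 9) (.c 11)))) (.n (.n (.c 7) (.c 11)) (.n (.c 4) (.n (.c 4) (.c 7))))) (.n (.n (.n (.c 11) (.c 9)) (.n (.c 9) (.n (.c 6) (.c 10)))) (.n (.n (.c 7) (.c 5)) (.n (.c 8) (.n .z (.c 3))))))) (.n (.n (.n (.n (.n (.c 6) (.c 6)) (.n (.c 3) (.c 10))) (.n (.n (.c 2) (.c 9)) (.n (.c 6) (.n (.c 6) (.c 9))))) (.n (.n (.n (.c 8) (.c 5)) (.n (.c 11) (.n (.c 6) (.c 4)))) (.n (.n (.c 1) .z) (.n (.c 10) (.n (.c 2) (.c 10)))))) (.n (.n (.n (.n (.c 4) (.c 2)) (.n (.c 5) (.n (.c 2) (.c 6)))) (.n (.n (.c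 4) (.c 5)) (.n (.c 9) (.n (.c 7) (.c 2))))) (.n (.n (.n (.c 2) (.c 4)) (.n (.c 9) (.n (.c 3) (.c 6)))) (.n (.n (.c 6) .z) (.n (.c 1) (.n (.c 8) (.c 8))))))))))
  (.node (.leaf (.n (.n (.n (.n (.n (.n (.c 2) (.c 12)) (.n (.c 5) (.c 12))) (.n (.n (.c 6) (.c 2)) (.n (.c 3) (.n (.c 12) (.c 8))))) (.n (.n (.n (.c 1) (.c 2)) (.n (.c 9) (.n (.c 7) (.c 5)))) (.n (.n .z (.c 9)) (.n (.c 10) (.n (.c 9) (.c 4)))))) (.n (.n (.n (.n (.c 8) (.c 4)) (.n (.c 4) (.n (.c 8) (.c 10)))) (.n (.n (.c 12) (.c 11)) (.n (.c 8) (.n (.c 4) (.c 12))))) (.n (.n (.n .z (.c 8)) (.n (.c 4) (.n (.c 6) (.c 8)))) (.n (.n (.c 3) (.c 9)) (.n (.c 6) (.n (.c 6) (.c 7))))))) (.n (.n (.n (.n (.n (.c 10) (.c 9)) (.n (.c 10) (.c 12))) (.n (.n (.c 1) (.c 8)) (.n (.c 1) (.n (.c 11) (.c 2))))) (.n (.n (.n (.c 12) (.c 10))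 (.n (.c 5) (.n (.c 7) (.c 11)))) (.n (.n (.c 3) (.c 5)) (.n (.c 12) (.n (.c 11) .z))))) (.n (.n (.n (.n (.c 7) (.c 3)) (.n (.c 10) (.n (.c 10) (.c 5)))) (.n (.n (.c 9) (.c 7)) (.n (.c 5) (.n (.c 1) (.c 12))))) (.n (.n (.n (.c 6) (.c 5)) (.n (.c 11) (.n (.c 9) (.c 12)))) (.n (.n (.c 9) (.c 5)) (.n .z (.n (.c 3) (.c 1)))))))))
  (.node (.leaf (.n (.n (.n (.n (.n (.n (.c 2) (.c 12)) (.n (.c 5) (.c 12))) (.n (.n (.c 6) (.c 9)) (.n (.c 12) (.n (.c 7) (.c 3))))) (.n (.n (.n (.c 5) (.c 6)) (.n (.c 10) (.n (.c 5) (.c 11)))) (.n (.n (.c 2) (.c 4)) (.n (.c 8) (.n (.c 2) (.c 9)))))) (.n (.n (.n (.n (.c 12) (.c 3)) (.n (.c 3) (.n (.c 6) (.c 6)))) (.n (.n (.c 10) (.c 1)) .z)) (.n (.n (.n (.c 9) (.c 3)) (.n (.c 6) (.n (.c 1) (.c 11)))) (.n (.n (.c 11) (.c 3)) (.n (.c 1) (.n (.c 1) (.c 8)))))))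 (.n (.n (.n (.n (.n (.c 12) (.c 12)) (.n (.c 11) .z)) (.n (.n (.c 7) (.c 3)) (.n (.c 4) (.n (.c 4) (.c 6))))) (.n (.n (.n (.c 6) (.c 4)) (.n (.c 11) (.n (.c 9) (.c 7)))) (.n (.n (.c 5) (.c 3)) (.n (.c 1) (.n (.c 4) (.c 5)))))) (.n (.n (.n (.n (.c 1) (.c 7)) (.n (.c 4) (.n (.c 6) (.c 4)))) (.n (.n (.c 4) .z) (.n (.c 12) (.n (.c 12) (.c 5))))) (.n (.n (.n (.c 5) .z) (.n (.c 3) (.n (.c 9) (.c 2)))) (.n (.n (.c 7) (.c 7)) (.n (.c 6) (.n (.c 12) (.c 9)))))))))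
  (.leaf (.n (.n (.n (.n (.n (.n (.c 2) (.c 4)) (.n (.c 5) (.c 12))) (.n (.n (.c 6) (.c 9)) (.n (.c 12) (.n (.c 7) (.c 12))))) (.n (.n (.n (.c 1) (.c 1)) (.n (.c 8) (.n (.c 4) (.c 7)))) (.n (.n (.c 2) (.c 7)) (.n (.c 11) (.n (.c 10) (.c 4)))))) (.n (.n (.n (.n (.c 12) (.c 1)) (.n (.c 4) (.n .z (.c 6)))) (.n (.n (.c 7) (.c 9)) (.n (.c 12) (.n (.c 7) .z)))) (.n (.n (.n (.c 1) (.c 11)) (.n (.c 12) (.n (.c 7) (.c 8)))) (.n .z (.n (.c 3) (.n (.c 10) (.c 10))))))) (.n (.n (.n (.n (.n (.c 10) (.c 4)) (.n (.c 10) (.c 11))) (.n (.n (.c 1) .z) (.n (.c 10) (.n (.c 4) (.c 11))))) (.n (.n (.n (.c 3) (.c 3)) (.n (.c 1) (.n (.c 4) (.c 10)))) (.n (.n (.c 8) (.c 6)) (.n (.c 7) (.n (.c 1) (.c 9)))))) (.n (.n (.n (.n (.c 10) (.c 2)) (.n (.c 8) (.n (.c 1) (.c 9)))) (.n (.n (.c 2) .z) (.n (.c 1)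 (.n (.c 11) (.c 4))))) (.n (.n (.n (.c 9) (.c 3)) (.n (.c 12) (.n (.c 3) (.c 5)))) (.n (.n (.c 12) .z) (.n (.c 2) (.n .z (.c 7))))))))))))
  (.node (.node (.leaf (.n (.n (.n (.n (.n (.n (.c 4) (.c 7)) (.n (.c 12) .z)) (.n (.n .z (.c 6)) (.n (.c 7) (.n (.c 8) (.c 5))))) (.n (.n (.n (.c 6) (.c 6)) (.n (.c 11) (.n (.c 8) (.c 12)))) (.n (.n (.c 4) (.c 1)) (.n .z (.n (.c 10) (.c 11)))))) (.n (.n (.n (.n (.c 8) (.c 5)) (.n (.c 3) (.n (.c 9) (.c 10)))) (.n (.n (.c 5) (.c 5)) (.n (.c 6) (.n (.c 5) (.c 2))))) (.n (.n (.n (.c 9) (.c 5)) (.n (.c 6) (.n (.c 11) (.c 4)))) (.n (.n (.c 7) (.c 9)) (.n (.c 10) (.n (.c 4) (.c 8))))))) (.n (.n (.n (.n (.n (.c 10) (.c 9)) (.n (.c 8) (.c 12))) (.n (.n (.c 4) (.c 6)) (.n .z (.n (.c 8) (.c 4))))) (.n (.n (.n .z (.c 10)) (.n (.c 2) (.n (.c 8) .z)))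 (.n (.n (.c 11) (.c 11)) (.n (.c 9) (.n (.c 11) (.c 7)))))) (.n (.n (.n (.n (.c 2) .z) (.n (.c 4) (.n (.c 10) (.c 6)))) (.n (.n (.c 6) (.c 1)) (.n (.c 9) (.n (.c 5) (.c 6))))) (.n (.n (.n (.c 6) (.c 1)) (.n (.c 9) (.n (.c 10) (.c 12)))) (.n (.n (.c 5) (.c 2)) (.n (.c 8) (.n (.c 7) (.c 5)))))))))
  (.leaf (.n (.n (.n (.n (.n (.n (.c 4) (.c 2)) (.n (.c 12) (.c 12))) (.n (.n .z (.c 6)) (.n (.c 7) (.n (.c 10) (.c 5))))) (.n (.n (.n (.c 4) (.c 2)) (.n (.c 12) (.n (.c 10) (.c 1)))) (.n (.n (.c 8) (.c 7)) (.n (.c 12) (.n (.c 11) (.c 12)))))) (.n (.n (.n (.n (.c 1) (.c 2)) (.n (.c 1) (.n (.c 10) (.c 4)))) (.n (.n .z (.c 4)) (.n (.c 3) (.n (.c 8) (.c 8))))) (.n (.n (.n (.c 11) (.c 2)) (.n (.c 2) (.n (.c 10) (.c 4)))) (.n (.n (.c 5) (.c 4)) (.n (.c 3) (.n (.c 2) (.c 2))))))) (.n (.n (.n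 (.n (.n (.c 11) (.c 10)) (.n (.c 3) (.c 5))) (.n (.n (.c 9) (.c 9)) (.n (.c 4) (.n (.c 2) (.c 11))))) (.n (.n (.n (.c 6) (.c 3)) (.n (.c 3) (.n (.c 10) (.c 12)))) (.n (.n (.c 11) (.c 10)) (.n (.c 3) (.n (.c 5) (.c 2)))))) (.n (.n (.n (.n .z (.c 10)) (.n (.c 3) (.n (.c 6) (.c 10)))) (.n (.n (.c 8) (.c 5)) (.n (.c 4) (.n (.c 4) (.c 9))))) (.n (.n (.n (.c 5) (.c 2)) (.n (.c 2) (.n (.c 2) (.c 9)))) (.n (.n (.c 12) (.c 10)) (.n (.c 9) (.n (.c 3) (.c 11))))))))))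
  (.node (.leaf (.n (.n (.n (.n (.n (.n (.c 4) (.c 2)) (.n (.c 12) .z)) (.n (.n .z (.c 6)) (.n (.c 7) (.n (.c 5) .z)))) (.n (.n (.n (.c 5) (.c 7)) (.n (.c 6) (.n .z (.c 1)))) (.n (.n (.c 1) (.c 2)) (.n (.c 8) (.n (.c 12) (.c 2)))))) (.n (.n (.n (.n (.c 1) (.c 11)) (.n (.c 11) (.n (.c 11) .z))) (.n (.n (.c 10) (.c 12)) (.n (.c 2) (.n (.c 8) (.c 3))))) (.n (.n (.n (.c 5) (.c 2)) (.n (.c 4) (.n (.c 12) (.c 10)))) (.n (.n (.c 12) (.c 3)) (.n (.c 9) (.n (.c 9) .z)))))) (.n (.n (.n (.n (.n (.c 4) (.c 3)) (.n (.c 2) (.c 8))) (.n (.n (.c 8) (.c 4)) (.n (.c 4) (.n (.c 6) (.c 4))))) (.n (.n (.n (.c 3) .z) (.n (.c 12) (.n .z (.c 8)))) (.n (.n (.c 5) (.c 1)) (.n (.c 5) (.n .z (.c 9)))))) (.n (.n (.n (.n (.c 1) (.c 11)) (.n (.c 3) (.n (.c 7) (.c 11)))) (.n (.n (.c 7) (.c 2)) (.n .z (.n (.c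 7) (.c 3))))) (.n (.n (.n (.c 4) (.c 7)) (.n (.c 10) (.n (.c 2) (.c 2)))) (.n (.n .z (.c 5)) (.n (.c 3) (.n (.c 10) (.c 3)))))))))
  (.node (.leaf (.n (.n (.n (.n (.n (.n (.c 4) (.c 2)) (.n (.c 12) .z)) (.n (.n .z (.c 3)) (.n (.c 7) (.n (.c 11) (.c 1))))) (.n (.n (.n (.c 8) (.c 2)) (.n (.c 7) (.n (.c 1) (.c 9)))) (.n (.n (.c 1) (.c 5)) (.n (.c 11) (.n (.c 9) (.c 6)))))) (.n (.n (.n (.n (.c 8) (.c 6)) (.n (.c 11) (.n (.c 2) (.c 12)))) (.n (.n (.c 12) .z) (.n (.c 1) (.n (.c 10) (.c 7))))) (.n (.n (.n (.c 8) (.c 2)) (.n (.c 3) (.n (.c 10) (.c 10)))) (.n (.n (.c 7) (.c 5)) (.n (.c 12) (.n (.c 4) (.c 4))))))) (.n (.n (.n (.n (.n (.c 4) (.c 11)) (.n (.c 1) (.c 10))) (.n (.n (.c 1) (.c 8)) (.n .z (.n .z (.c 11))))) (.n (.n (.n (.c 5) (.c 12)) (.n (.c 8) (.n (.c 10) (.c 9)))) (.n (.n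 (.c 10) (.c 9)) (.n (.c 6) (.n (.c 5) .z))))) (.n (.n (.n (.n (.c 7) (.c 12)) (.n (.c 3) (.n (.c 6) (.c 9)))) (.n (.n (.c 3) (.c 11)) (.n .z (.n (.c 12) (.c 8))))) (.n (.n (.n (.c 9) (.c 6)) (.n (.c 1) (.n (.c 1) (.c 10)))) (.n (.n (.c 1) .z) (.n (.c 11) (.n (.c 6) (.c 1)))))))))
  (.leaf (.n (.n (.n (.n (.n (.n (.c 4) (.c 2)) (.n (.c 2) (.c 3))) (.n (.n .z (.c 6)) (.n (.c 7) (.n (.c 1) (.c 3))))) (.n (.n (.n (.c 8) (.c 12)) (.n .z (.n (.c 7) (.c 8)))) (.n (.n (.c 4) (.c 10)) (.n .z (.n (.c 8) (.c 2)))))) (.n (.n (.n (.n (.c 8) (.c 12)) (.n (.c 1) (.n (.c 1) (.c 7)))) (.n (.n (.c 3) (.c 2)) (.n (.c 12) (.n (.c 1) (.c 9))))) (.n (.n (.n (.c 3) (.c 8)) (.n (.c 6) (.n (.c 11) (.c 12)))) (.n (.n (.c 1) (.c 5)) (.n (.c 11) (.n (.c 3) (.c 6))))))) (.n (.n (.n (.n (.n (.c 8) (.c 11))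 (.n (.c 9) (.c 11))) (.n (.n (.c 12) (.c 6)) (.n (.c 5) (.n (.c 12) (.c 10))))) (.n (.n (.n (.c 4) (.c 2)) (.n (.c 4) (.n (.c 8) (.c 5)))) (.n (.n (.c 10) (.c 9)) (.n (.c 3) (.n (.c 7) (.c 10)))))) (.n (.n (.n (.n (.c 11) (.c 12)) (.n (.c 9) (.n (.c 3) (.c 4)))) (.n (.n (.c 3) (.c 10)) (.n (.c 10) (.n (.c 12) (.c 2))))) (.n (.n (.n (.c 11) (.c 5)) (.n (.c 8) (.n (.c 3) (.c 1)))) (.n (.n (.c 11) (.c 11)) (.n (.c 7) (.n (.c 11) (.c 8))))))))))))))))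

/-- the rows of generator 2 -/
def rows2 : RT CT :=
  (.node (.node (.node (.node (.node (.node (.leaf (.n (.n (.n (.n (.n (.n (.c 1) .z) .z) .z) .z) .z) .z))
  (.leaf (.n (.n (.n (.n (.n (.n (.c 12) (.c 12)) .z) .z) .z) .z) .z)))
  (.node (.leaf (.n (.n (.n (.n (.n .z (.n (.c 12) .z)) .z) .z) .z) .z))
  (.leaf (.n (.n (.n (.n (.n .z (.n .z (.c 12))) .z) .z) .z) .z))))
  (.node (.node (.leaf (.n (.n (.n (.n .z (.n (.n (.c 12) .z) .z)) .z) .z) .z))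
  (.leaf (.n (.n (.n (.n .z (.n (.n .z (.c 12)) .z)) .z) .z) .z)))
  (.node (.leaf (.n (.n (.n (.n .z (.n .z (.n (.c 12) .z))) .z) .z) .z))
  (.node (.leaf (.n (.n (.n (.n .z (.n .z (.n .z (.n .z (.c 1))))) .z) .z) .z))
  (.leaf (.n (.n (.n (.n .z (.n .z (.n .z (.n (.c 1) .z)))) .z) .z) .z))))))
  (.node (.node (.node (.leaf (.n (.n (.n (.n .z (.n .z (.n .z (.n (.c 7) (.c 7))))) (.n (.n (.n (.c 12) (.c 12)) (.n (.c 11) (.n .z (.c 6)))) (.n (.n (.c 12) .z) (.n (.c 12) (.n (.c 11) (.c 6)))))) (.n (.n (.n (.n (.c 12) .z) .z) .z) .z)) .z))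
  (.leaf (.n (.n (.n .z (.n .z (.n .z (.n (.c 1) .z)))) .z) .z)))
  (.node (.leaf (.n (.n (.n .z (.n .z (.n .z (.n .z (.n (.c 1) .z))))) .z) .z))
  (.node (.leaf (.n (.n (.n .z (.n (.n (.n .z (.c 1)) (.n .z (.n (.c 12) .z))) (.n .z (.n (.c 1) .z)))) .z) .z))
  (.leaf (.n (.n (.n .z (.n .z (.n .z (.n .z (.n .z (.c 1)))))) .z) .z)))))
  (.node (.node (.leaf (.n (.n .z (.n (.n (.n (.n (.c 1) .z) .z) .z) .z)) .z))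
  (.leaf (.n (.n (.n (.n .z (.n .z (.n .z (.n (.c 5) (.c 5))))) (.n (.n (.n .z (.c 1)) (.n (.c 2) (.n .z (.c 7)))) (.n (.n (.c 1) (.c 12)) (.n (.c 1) (.n (.c 2) (.c 7)))))) (.n (.n (.n (.n (.c 1) .z) .z) .z) .z)) .z)))
  (.node (.leaf (.n (.n (.n .z (.n (.n (.n .z (.c 1)) .z) .z)) .z) .z))
  (.node (.leaf (.n (.n (.n .z (.n (.n .z (.n (.c 1) .z)) .z)) .z) .z))
  (.leaf (.n (.n (.n .z (.n (.n .z (.n .z (.n .z (.c 1)))) .z)) .z) .z)))))))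
  (.node (.node (.node (.node (.leaf (.n (.n (.n .z (.n .z (.n (.n (.c 1) .z) .z))) .z) .z))
  (.leaf (.n (.n (.n (.n .z (.n .z (.n .z (.n (.c 4) (.c 4))))) (.n (.n (.n .z (.c 8)) (.n (.c 1) (.n .z (.c 1)))) (.n (.n (.c 12) .z) (.n (.c 8) (.n (.c 1) (.c 1)))))) (.n (.n (.n (.n (.c 12) (.c 12)) .z) .z) .z)) .z)))
  (.node (.leaf (.n (.n (.n (.n .z (.n .z (.n .z (.n (.c 7) (.c 7))))) (.n (.n (.n .z (.c 11)) (.n (.c 6) (.n .z (.c 6)))) (.n (.n (.c 2) .z) (.n (.c 11) (.n (.c 6) (.c 6)))))) (.n (.n (.n (.n (.c 2) .z) (.n (.c 12) .z)) .z) .z)) .z))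
  (.node (.leaf (.n (.n .z (.n (.n (.n .z (.n .z (.n .z (.c 1)))) .z) .z)) .z))
  (.leaf (.n (.n .z (.n (.n (.n .z (.n .z (.n (.c 1) .z))) .z) .z)) .z)))))
  (.node (.node (.leaf (.n (.n .z (.n .z (.n .z (.n .z (.n (.c 1) .z))))) .z))
  (.leaf (.n (.n .z (.n .z (.n (.n .z (.n (.c 1) .z)) .z))) .z)))
  (.node (.leaf (.n (.n .z (.n .z (.n (.n .z (.n .z (.n (.c 1) .z))) .z))) .z))
  (.node (.leaf (.n (.n .z (.n .z (.n (.n .z (.n .z (.n .z (.c 1)))) .z))) .z))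
  (.leaf (.n (.n .z (.n .z (.n .z (.n (.n (.c 1) .z) .z)))) .z))))))
  (.node (.node (.node (.leaf (.n (.n .z (.n .z (.n .z (.n (.n .z (.c 1)) .z)))) .z))
  (.leaf (.n .z (.n (.n .z (.n .z (.n .z (.n .z (.n .z (.c 1)))))) .z))))
  (.node (.leaf (.n (.n .z (.n (.n .z (.n (.n .z (.c 1)) .z)) .z)) .z))
  (.node (.leaf (.n (.n .z (.n (.n .z (.n .z (.n (.c 1) .z))) .z)) .z))
  (.leaf (.n (.n .z (.n (.n .z (.n .z (.n .z (.n (.c 1) .z)))) .z)) .z)))))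
  (.node (.node (.leaf (.n (.n .z (.n (.n .z (.n .z (.n .z (.n .z (.c 1))))) .z)) .z))
  (.leaf (.n (.n .z (.n .z (.n (.n (.n (.c 1) .z) .z) .z))) .z)))
  (.node (.leaf (.n (.n .z (.n (.n .z (.n (.n (.c 1) .z) .z)) .z)) .z))
  (.node (.leaf (.n (.n .z (.n (.n (.n .z (.n .z (.n (.c 5) (.c 5)))) (.n (.n (.c 12) (.c 5)) (.n (.c 10) (.n .z (.c 2))))) (.n (.n (.n (.c 3) .z) (.n (.c 5) (.n (.c 10) .z))) (.n (.n (.c 2) (.c 3)) (.n (.c 12) (.n (.c 12) .z)))))) (.n (.n (.n .z (.n .z (.n (.c 2) (.n (.c 3) (.c 10))))) .z) (.n (.n .z (.n .z (.n (.c 2) (.n (.c 3) (.c 10))))) .z))))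
  (.leaf (.n (.n .z (.n (.n (.n .z (.n .z (.n (.c 3) (.c 3)))) (.n (.n (.c 12) (.c 2)) (.n (.c 3) (.n .z (.c 12))))) (.n (.n (.n (.c 3) .z) (.n (.c 2) (.n (.c 3) .z))) (.n (.n (.c 12) (.c 3)) (.n (.c 12) (.n .z (.c 12))))))) (.n (.n (.n .z (.n (.n (.c 2) .z) .z)) (.n (.n (.n .z (.c 12)) (.n (.c 3) .z)) .z)) (.n (.n .z (.n (.n .z (.c 2)) .z)) (.n (.n (.n .z (.c 12)) (.n (.c 3) .z)) .z)))))))))))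
  (.node (.node (.node (.node (.node (.leaf (.n (.n .z (.n (.n .z (.n (.n (.c 9) (.c 6)) (.n (.c 8) (.n (.c 5) (.c 3))))) (.n (.n (.n (.c 7) (.c 11)) (.n (.c 6) (.n (.c 8) (.c 5)))) (.n (.n (.c 3) (.c 7)) (.n (.c 9) .z))))) (.n (.n (.n (.n (.n (.c 12) .z) .z) (.n (.n (.c 7) .z) (.n (.c 11) (.n (.c 6) (.c 4))))) (.n (.n (.n (.c 5) (.c 5)) (.n (.c 12) (.n .z (.c 10)))) (.n .z (.n .z (.n .z (.c 11)))))) (.n (.n .z (.n (.n .z (.c 7)) (.n (.c 11) (.n (.c 6) (.c 4))))) (.n (.n (.n (.c 5) (.c 5)) (.n (.c 12) (.n (.c 10) .z))) .z)))))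
  (.leaf (.n (.n .z (.n (.n (.n .z (.n .z (.n (.c 7) (.c 7)))) (.n (.n (.c 12) (.c 1)) (.n (.c 4) (.n (.c 12) (.c 7))))) (.n (.n .z (.n (.c 1) (.n (.c 4) (.c 12)))) (.n (.n (.c 7) .z) (.n (.c 12) .z))))) (.n (.n (.n (.n (.n .z (.c 12)) .z) (.n .z (.n (.c 1) .z))) (.n (.n (.n .z (.c 4)) (.n .z (.n .z (.c 12)))) .z)) (.n (.n .z (.n .z (.n (.c 1) .z))) (.n (.n (.n .z (.c 4)) (.n .z (.n (.c 12) .z))) .z))))))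
  (.node (.leaf (.n (.n .z (.n (.n (.n .z (.n .z (.n (.c 6) (.c 6)))) (.n (.n (.c 3) (.c 7)) (.n (.c 9) (.n (.c 1) (.c 2))))) (.n (.n (.n (.c 2) (.c 7)) (.n (.c 7) (.n (.c 9) (.c 1)))) (.n (.n (.c 2) (.c 2)) (.n (.c 3) .z))))) (.n (.n (.n (.n .z (.n (.c 12) .z)) (.n (.n (.c 8) .z) (.n (.c 7) (.n (.c 7) (.c 12))))) (.n (.n (.n (.c 9) (.c 2)) (.n (.c 1) (.n .z (.c 10)))) (.n .z (.n .z (.n .z (.c 7)))))) (.n (.n .z (.n (.n .z (.c 8)) (.n (.c 7) (.n (.c 7) (.c 12))))) (.n (.n (.n (.c 9) (.c 2)) (.n (.c 1) (.n (.c 10) .z))) .z)))))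
  (.leaf (.n (.n .z (.n (.n (.n .z (.n .z (.n (.c 2) (.c 2)))) (.n (.n .z (.c 8)) (.n (.c 10) (.n (.c 2) (.c 8))))) (.n (.n (.n .z (.c 5)) (.n (.c 8) (.n (.c 10) (.c 2)))) (.n (.n (.c 8) .z) .z)))) (.n (.n (.n (.n .z (.n .z (.c 12))) (.n (.n (.c 7) .z) (.n .z (.n (.c 6) (.c 12))))) (.n (.n (.n (.c 11) (.c 12)) (.n (.c 3) (.n .z (.c 12)))) (.n .z (.n .z (.n .z (.c 5)))))) (.n (.n .z (.n (.n .z (.c 7)) (.n .z (.n (.c 6) (.c 12))))) (.n (.n (.n (.c 11) (.c 12)) (.n (.c 3) (.n (.c 12) .z))) .z)))))))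
  (.node (.node (.leaf (.n .z (.n .z (.n (.n .z (.n (.n .z (.c 1)) .z)) .z))))
  (.leaf (.n (.n .z (.n (.n (.n .z (.n .z (.n (.c 12) (.c 12)))) (.n (.n .z (.c 12)) (.n .z (.n (.c 12) .z)))) (.n (.n .z (.n (.c 12) (.n .z (.c 12)))) .z))) (.n (.n (.n .z (.n (.n .z (.c 12)) .z)) .z) .z))))
  (.node (.leaf (.n .z (.n .z (.n (.n .z (.n .z (.n (.c 1) .z))) .z))))
  (.node (.leaf (.n .z (.n .z (.n (.n .z (.n .z (.n .z (.n (.c 1) .z)))) .z))))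
  (.leaf (.n .z (.n .z (.n (.n .z (.n .z (.n .z (.n .z (.c 1))))) .z))))))))
  (.node (.node (.node (.leaf (.n .z (.n .z (.n .z (.n (.n (.n (.c 1) .z) .z) .z)))))
  (.leaf (.n .z (.n .z (.n .z (.n (.n (.n .z (.c 1)) .z) .z))))))
  (.node (.leaf (.n .z (.n .z (.n .z (.n (.n .z (.n (.c 1) .z)) .z)))))
  (.node (.leaf (.n (.n .z (.n (.n .z (.n (.n .z (.c 7)) (.n .z (.n (.c 12) (.c 6))))) (.n (.n (.n (.c 9) .z) (.n (.c 7) (.n .z (.c 12)))) (.n (.n (.c 6) (.c 9)) .z)))) (.n (.n (.n .z (.n (.n (.c 7) .z) .z)) (.n (.n (.n .z (.c 6)) (.n (.c 9) (.n (.c 12) .z))) .z)) (.n (.n .z (.n (.n .z (.c 7)) .z)) (.n (.n (.n .z (.c 6)) (.n (.c 9) .z)) .z)))))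
  (.leaf (.n .z (.n .z (.n .z (.n (.n .z (.n .z (.n (.c 1) .z))) .z))))))))
  (.node (.node (.leaf (.n (.n .z (.n (.n (.n .z (.n .z (.n (.c 2) (.c 2)))) (.n (.n (.c 1) (.c 11)) (.n (.c 11) (.n (.c 9) (.c 7))))) (.n (.n (.n (.c 1) (.c 5)) (.n (.c 11) (.n (.c 11) (.c 9)))) (.n (.n (.c 7) (.c 1)) (.n (.c 1) .z))))) (.n (.n (.n .z (.n (.n (.c 2) .z) (.n (.c 5) (.n (.c 11) (.c 3))))) (.n (.n (.n (.c 12) (.c 7)) (.n (.c 9) (.n .z (.c 9)))) (.n (.n (.c 12) .z) (.n .z (.n .z (.c 5)))))) (.n (.n .z (.n (.n .z (.c 2)) (.n (.c 5) (.n (.c 11) (.c 3))))) (.n (.n (.n (.c 12) (.c 7)) (.n (.c 9) (.n (.c 9) .z))) .z)))))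
  (.leaf (.n (.n .z (.n (.n (.n .z (.n .z (.n (.c 9) (.c 9)))) (.n (.n (.c 6) .z) (.n (.c 4) (.n (.c 1) (.c 7))))) (.n (.n (.n (.c 11) (.c 9)) (.n .z (.n (.c 4) (.c 1)))) (.n (.n (.c 7) (.c 11)) (.n (.c 6) .z))))) (.n (.n (.n .z (.n .z (.n (.c 10) (.n (.c 7) (.c 6))))) (.n (.n (.n (.c 9) (.c 8)) (.n (.c 1) (.n .z (.c 4)))) (.n (.n .z (.c 12)) (.n .z (.n .z (.c 9)))))) (.n (.n .z (.n .z (.n (.c 10) (.n (.c 7) (.c 6))))) (.n (.n (.n (.c 9) (.c 8)) (.n (.c 1) (.n (.c 4) .z))) .z))))))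
  (.node (.leaf (.n (.n .z (.n (.n (.n .z (.n .z (.n (.c 12) (.c 12)))) (.n (.n (.c 11) (.c 10)) (.n (.c 3) (.n (.c 6) (.c 11))))) (.n (.n (.n (.c 1) (.c 3)) (.n (.c 10) (.n (.c 3) (.c 6)))) (.n (.n (.c 11) (.c 1)) (.n (.c 11) .z))))) (.n (.n (.n .z (.n (.n (.c 9) .z) (.n (.c 3) (.n (.c 10) (.c 7))))) (.n (.n (.n (.c 2) (.c 12)) (.n (.c 7) (.n .z (.c 8)))) (.n .z (.n (.c 12) (.n .z (.c 3)))))) (.n (.n .z (.n (.n .z (.c 9)) (.n (.c 3) (.n (.c 10) (.c 7))))) (.n (.n (.n (.c 2) (.c 12)) (.n (.c 7) (.n (.c 8) .z))) .z)))))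
  (.node (.leaf (.n (.n .z (.n (.n (.n .z (.n .z (.n (.c 6) (.c 6)))) (.n (.n .z (.c 7)) (.n (.c 9) (.n (.c 3) (.c 6))))) (.n (.n (.n (.c 12) .z) (.n (.c 7) (.n (.c 9) (.c 3)))) (.n (.n (.c 6) (.c 12)) .z)))) (.n (.n (.n .z (.n .z (.n (.c 7) .z))) (.n (.n (.n .z (.c 9)) (.n .z (.n .z (.c 3)))) (.n .z (.n .z (.n (.c 12) .z))))) (.n (.n .z (.n .z (.n (.c 7) .z))) (.n (.n (.n .z (.c 9)) (.n .z (.n (.c 3) .z))) .z)))))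
  (.leaf (.n (.n .z (.n .z (.n (.n (.n .z (.c 1)) .z) .z))) .z)))))))
  (.node (.node (.node (.node (.leaf (.n (.n .z (.n (.n .z (.n .z (.n (.c 9) (.n .z (.c 2))))) (.n (.n (.n (.c 3) (.c 12)) (.n .z (.n (.c 9) .z))) (.n (.n (.c 2) (.c 3)) .z)))) (.n (.n (.n .z (.n .z (.n (.c 2) (.n (.c 3) (.c 9))))) (.n .z (.n .z (.n .z (.n .z (.c 12)))))) (.n (.n (.n (.n (.c 12) .z) .z) (.n .z (.n (.c 2) (.n (.c 3) (.c 9))))) .z))))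
  (.leaf (.n (.n .z (.n (.n (.n .z (.n .z (.n (.c 9) (.c 9)))) (.n (.n .z (.c 11)) (.n (.c 9) (.n .z (.c 1))))) (.n (.n (.n (.c 10) (.c 12)) (.n (.c 11) (.n (.c 9) .z))) (.n (.n (.c 1) (.c 10)) .z)))) (.n (.n (.n .z (.n (.n (.c 11) .z) .z)) (.n (.n (.n .z (.c 1)) (.n (.c 10) .z)) (.n .z (.n .z (.n .z (.c 12)))))) (.n (.n (.n (.n .z (.c 12)) .z) (.n (.n .z (.c 11)) .z)) (.n (.n (.n .z (.c 1)) (.n (.c 10) .z)) .z))))))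
  (.node (.leaf (.n (.n .z (.n (.n (.n .z (.n .z (.n (.c 12) (.c 12)))) (.n (.n (.c 3) (.c 7)) (.n (.c 5) (.n (.c 7) (.c 10))))) (.n (.n (.n (.c 6) (.c 1)) (.n (.c 7) (.n (.c 5) (.c 7)))) (.n (.n (.c 10) (.c 6)) (.n (.c 3) .z))))) (.n (.n (.n .z (.n (.n (.c 6) .z) (.n (.c 2) (.n (.c 7) (.c 9))))) (.n (.n (.n (.c 8) (.c 8)) (.n (.c 1) (.n .z (.c 3)))) (.n .z (.n .z (.n .z (.c 1)))))) (.n (.n (.n .z (.n (.c 12) .z)) (.n (.n .z (.c 6)) (.n (.c 2) (.n (.c 7) (.c 9))))) (.n (.n (.n (.c 8) (.c 8)) (.n (.c 1) (.n (.c 3) .z))) .z)))))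
  (.node (.leaf (.n (.n .z (.n (.n (.n .z (.n .z (.n (.c 7) (.c 7)))) (.n (.n .z (.c 9)) (.n (.c 5) (.n (.c 4) (.c 7))))) (.n (.n (.n .z (.c 12)) (.n (.c 9) (.n (.c 5) (.c 4)))) (.n (.n (.c 7) .z) .z)))) (.n (.n (.n .z (.n .z (.n (.c 9) .z))) (.n (.n (.n .z (.c 5)) (.n .z (.n .z (.c 4)))) (.n .z (.n .z (.n .z (.c 12)))))) (.n (.n (.n .z (.n .z (.n (.c 12) .z))) (.n .z (.n (.c 9) .z))) (.n (.n (.n .z (.c 5)) (.n .z (.n (.c 4) .z))) .z)))))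
  (.leaf (.n (.n .z (.n (.n (.n .z (.n .z (.n (.c 6) (.c 6)))) (.n (.n (.c 9) (.c 6)) (.n (.c 4) (.n (.c 12) (.c 11))))) (.n (.n (.n (.c 10) (.c 5)) (.n (.c 6) (.n (.c 4) (.c 12)))) (.n (.n (.c 11) (.c 10)) (.n (.c 9) .z))))) (.n (.n (.n .z (.n (.n (.c 5) .z) (.n (.c 6) (.n (.c 6) (.c 1))))) (.n (.n (.n (.c 4) (.c 11)) (.n (.c 12) (.n .z (.c 3)))) (.n .z (.n .z (.n .z (.c 5)))))) (.n (.n (.n .z (.n .z (.n .z (.c 12)))) (.n (.n .z (.c 5)) (.n (.c 6) (.n (.c 6) (.c 1))))) (.n (.n (.n (.c 4) (.c 11)) (.n (.c 12) (.n (.c 3) .z))) .z))))))))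
  (.node (.node (.leaf (.n (.n .z (.n (.n (.n .z (.n .z (.n (.c 10) (.c 10)))) (.n (.n (.c 12) (.c 4)) (.n (.c 3) (.n (.c 11) (.c 5))))) (.n (.n (.n .z (.c 7)) (.n (.c 4) (.n (.c 3) (.c 11)))) (.n (.n (.c 5) .z) (.n (.c 12) .z))))) (.n (.n (.n .z (.n (.n (.c 6) .z) (.n .z (.n (.c 7) (.c 1))))) (.n (.n (.n (.c 2) (.c 1)) (.n (.c 10) (.n .z (.c 1)))) (.n .z (.n .z (.n .z (.c 7)))))) (.n (.n .z (.n (.n (.c 12) (.c 6)) (.n .z (.n (.c 7) (.c 1))))) (.n (.n (.n (.c 2) (.c 1)) (.n (.c 10) (.n (.c 1) .z))) .z)))))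
  (.leaf (.n .z (.n (.n (.n .z (.n (.n (.c 1) .z) .z)) .z) .z))))
  (.node (.leaf (.n .z (.n (.n (.n .z (.n .z (.n (.c 1) .z))) .z) .z)))
  (.node (.leaf (.n .z (.n (.n (.n .z (.n .z (.n .z (.n (.c 1) .z)))) .z) .z)))
  (.leaf (.n .z (.n (.n (.n .z (.n .z (.n .z (.n .z (.c 1))))) .z) .z)))))))
  (.node (.node (.node (.leaf (.n .z (.n (.n .z (.n (.n (.n (.c 1) .z) .z) .z)) .z)))
  (.leaf (.n .z (.n (.n .z (.n (.n (.n .z (.c 1)) .z) .z)) .z))))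
  (.node (.leaf (.n .z (.n (.n .z (.n (.n .z (.n (.c 1) .z)) .z)) .z)))
  (.node (.leaf (.n .z (.n (.n .z (.n (.n .z (.n .z (.n .z (.c 1)))) .z)) .z)))
  (.leaf (.n (.n .z (.n (.n (.n .z (.n .z (.n (.c 11) (.c 11)))) (.n (.n (.c 1) .z) (.n (.c 9) (.n (.c 12) (.c 5))))) (.n (.n (.n (.c 2) (.c 11)) (.n .z (.n (.c 9) (.c 12)))) (.n (.n (.c 5) (.c 2)) (.n (.c 1) .z))))) (.n (.n (.n .z (.n .z (.n (.c 3) (.n (.c 6) (.c 7))))) (.n (.n (.n (.c 4) (.c 5)) (.n (.c 12) (.n .z (.c 9)))) (.n .z (.n .z (.n .z (.c 11)))))) (.n (.n .z (.n .z (.n (.c 3) (.n (.c 6) (.c 7))))) (.n (.n (.n (.c 4) (.c 5)) (.n (.c 12) (.n (.c 9) (.c 12)))) .z))))))))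
  (.node (.node (.leaf (.n (.n .z (.n (.n (.n .z (.n .z (.n (.c 10) (.c 10)))) (.n (.n .z (.c 4)) (.n (.c 11) (.n (.c 11) (.c 2))))) (.n (.n (.n (.c 2) (.c 8)) (.n (.c 4) (.n (.c 11) (.c 11)))) (.n (.n (.c 2) (.c 2)) .z)))) (.n (.n (.n .z (.n (.n (.c 6) .z) (.n (.c 10) (.n (.c 9) (.c 9))))) (.n (.n (.n (.c 2) (.c 1)) (.n (.c 10) (.n .z (.c 1)))) (.n .z (.n .z (.n .z (.c 8)))))) (.n (.n .z (.n (.n .z (.c 6)) (.n (.c 10) (.n (.c 9) (.c 9))))) (.n (.n (.n (.c 2) (.c 1)) (.n (.c 10) (.n (.c 1) .z))) (.n (.n (.c 12) .z) .z))))))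
  (.leaf (.n (.n .z (.n (.n (.n .z (.n .z (.n (.c 10) (.c 10)))) (.n (.n (.c 1) (.c 9)) (.n (.c 5) (.n .z (.c 7))))) (.n (.n (.n (.c 4) .z) (.n (.c 9) (.n (.c 5) .z))) (.n (.n (.c 7) (.c 4)) (.n (.c 1) .z))))) (.n (.n (.n .z (.n (.n (.c 1) .z) (.n (.c 11) (.n (.c 10) (.c 3))))) (.n (.n (.n .z (.c 9)) (.n (.c 7) .z)) .z)) (.n (.n .z (.n (.n .z (.c 1)) (.n (.c 11) (.n (.c 10) (.c 3))))) (.n (.n (.n .z (.c 9)) (.n (.c 7) .z)) (.n (.n .z (.c 12)) .z)))))))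
  (.node (.leaf (.n (.n .z (.n (.n (.n .z (.n .z (.n (.c 8) (.c 8)))) (.n (.n (.c 4) (.c 2)) (.n (.c 8) (.n (.c 8) (.c 8))))) (.n (.n (.n (.c 3) (.c 2)) (.n (.c 2) (.n (.c 8) (.c 8)))) (.n (.n (.c 8) (.c 3)) (.n (.c 4) .z))))) (.n (.n (.n .z (.n (.n (.c 6) .z) (.n .z (.n (.c 4) (.c 12))))) (.n (.n (.n (.c 8) (.c 8)) (.n (.c 1) (.n .z (.c 3)))) (.n .z (.n .z (.n .z (.c 2)))))) (.n (.n .z (.n (.n .z (.c 6)) (.n .z (.n (.c 4) (.c 12))))) (.n (.n (.n (.c 8) (.c 8)) (.n (.c 1) (.n (.c 3) .z))) (.n .z (.n (.c 12) .z)))))))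
  (.node (.leaf (.n (.n .z (.n (.n (.n .z (.n .z (.n (.c 7) (.c 7)))) (.n (.n (.c 1) .z) (.n (.c 12) (.n (.c 1) (.c 10))))) (.n (.n (.n (.c 10) .z) (.n .z (.n (.c 12) (.c 1)))) (.n (.n (.c 10) (.c 10)) (.n (.c 1) .z))))) (.n (.n (.n .z (.n .z (.n (.c 3) (.n (.c 10) (.c 3))))) (.n (.n (.n .z (.c 9)) (.n .z (.n .z (.c 1)))) .z)) (.n (.n .z (.n .z (.n (.c 3) (.n (.c 10) (.c 3))))) (.n (.n (.n .z (.c 9)) (.n .z (.n (.c 1) .z))) (.n .z (.n .z (.n (.c 12) .z))))))))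
  (.leaf (.n (.n .z (.n (.n (.n .z (.n .z (.n (.c 6) (.c 6)))) (.n (.n (.c 1) (.c 7)) (.n (.c 12) (.n .z (.c 2))))) (.n (.n (.n (.c 4) .z) (.n (.c 7) (.n (.c 12) .z))) (.n (.n (.c 2) (.c 4)) (.n (.c 1) .z))))) (.n (.n (.n .z (.n (.n (.c 11) .z) (.n (.c 1) (.n (.c 7) (.c 2))))) (.n (.n (.n .z (.c 1)) (.n (.c 10) .z)) .z)) (.n (.n .z (.n (.n .z (.c 11)) (.n (.c 1) (.n (.c 7) (.c 2))))) (.n (.n (.n .z (.c 1)) (.n (.c 10) .z)) (.n .z (.n .z (.n .z (.c 12))))))))))))))))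

/-- the rows of generator 3 -/
def rows3 : RT CT :=
  (.node (.node (.node (.node (.node (.node (.leaf (.n (.n (.n (.n (.n (.n (.c 12) (.c 12)) .z) .z) .z) .z) .z))
  (.leaf (.n (.n (.n (.n (.n (.n .z (.c 1)) .z) .z) .z) .z) .z)))
  (.node (.leaf (.n (.n (.n (.n (.n (.n .z (.c 12)) (.n (.c 12) .z)) .z) .z) .z) .z))
  (.leaf (.n (.n (.n (.n (.n .z (.n .z (.c 12))) .z) .z) .z) .z))))
  (.node (.node (.leaf (.n (.n (.n (.n .z (.n (.n (.c 12) .z) .z)) .z) .z) .z))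
  (.leaf (.n (.n (.n (.n (.n (.n .z (.c 12)) .z) (.n (.n .z (.c 12)) .z)) .z) .z) .z)))
  (.node (.leaf (.n (.n (.n (.n .z (.n .z (.n (.c 12) .z))) .z) .z) .z))
  (.node (.leaf (.n (.n (.n .z (.n (.n (.n (.c 1) .z) .z) .z)) .z) .z))
  (.leaf (.n (.n (.n .z (.n .z (.n (.n .z (.c 1)) .z))) .z) .z))))))
  (.node (.node (.node (.leaf (.n (.n (.n (.n .z (.n .z (.n .z (.n (.c 1) .z)))) .z) .z) .z))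
  (.leaf (.n (.n (.n (.n .z (.n .z (.n .z (.n (.c 10) (.c 3))))) (.n (.n (.n (.c 6) (.c 5)) (.n (.c 12) (.n (.c 9) (.c 6)))) (.n (.n (.c 5) .z) (.n .z (.n (.c 5) .z))))) (.n (.n (.n (.n (.c 11) (.c 11)) (.n (.c 11) .z)) .z) .z)) .z)))
  (.node (.leaf (.n (.n .z (.n (.n (.n .z (.n (.c 1) .z)) .z) .z)) .z))
  (.node (.leaf (.n (.n (.n (.n .z (.n .z (.n .z (.n (.c 2) (.c 9))))) (.n (.n (.n (.c 11) (.c 5)) (.n (.c 1) (.n (.c 1) (.c 6)))) (.n (.n (.c 5) (.c 4)) (.n (.c 8) (.n (.c 10) (.c 1)))))) (.n (.n (.n (.n (.c 12) (.c 6)) (.n (.c 4) .z)) .z) .z)) .z))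
  (.leaf (.n (.n (.n (.n .z (.n .z (.n .z (.n (.c 7) (.c 10))))) (.n (.n (.n (.c 8) (.c 7)) (.n (.c 3) (.n (.c 2) (.c 4)))) (.n (.n (.c 2) (.c 5)) (.n (.c 10) (.n (.c 5) (.c 11)))))) (.n (.n (.n (.n (.c 5) (.c 4)) (.n (.c 5) .z)) .z) .z)) .z)))))
  (.node (.node (.leaf (.n (.n (.n (.n .z (.n .z (.n .z (.n (.c 1) (.c 1))))) (.n (.n (.n (.c 5) (.c 2)) (.n (.c 10) (.n (.c 8) (.c 7)))) (.n (.n (.c 7) (.c 7)) (.n (.c 1) (.n (.c 7) (.c 5)))))) (.n (.n (.n (.n (.c 7) (.c 3)) (.n (.c 5) .z)) .z) .z)) .z))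
  (.leaf (.n (.n (.n (.n .z (.n .z (.n .z (.n .z (.c 1))))) .z) .z) .z)))
  (.node (.leaf (.n (.n (.n (.n .z (.n .z (.n .z (.n (.c 4) (.c 8))))) (.n (.n (.n (.c 7) (.c 3)) (.n (.c 8) (.n (.c 10) (.c 2)))) (.n (.n (.c 6) (.c 9)) (.n (.c 4) (.n (.c 1) (.c 12)))))) (.n (.n (.n (.n (.c 7) .z) (.n (.c 8) .z)) .z) .z)) .z))
  (.node (.leaf (.n (.n (.n (.n .z (.n .z (.n .z (.n (.c 5) (.c 9))))) (.n (.n (.n (.c 1) (.c 7)) (.n (.c 1) (.n (.c 3) (.c 6)))) (.n (.n (.c 5) (.c 8)) (.n (.c 5) (.n (.c 12) (.c 12)))))) (.n (.n (.n (.n (.c 10) (.c 3)) (.n (.c 9) .z)) .z) .z)) .z))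
  (.leaf (.n (.n (.n (.n .z (.n .z (.n .z (.n (.c 10) (.c 7))))) (.n (.n (.n (.c 8) (.c 9)) (.n (.c 12) (.n (.c 1) (.c 3)))) (.n (.n (.c 9) (.c 11)) (.n (.c 4) (.n (.c 5) (.c 6)))))) (.n (.n (.n (.n (.c 6) (.c 3)) (.n (.c 7) .z)) .z) .z)) .z)))))))
  (.node (.node (.node (.node (.leaf (.n (.n (.n (.n .z (.n .z (.n .z (.n (.c 6) (.c 2))))) (.n (.n (.n (.c 5) (.c 6)) (.n (.c 4) (.n (.c 11) (.c 8)))) (.n (.n (.c 11) (.c 7)) (.n (.c 3) (.n (.c 8) (.c 2)))))) (.n (.n (.n (.n (.c 7) (.c 9)) (.n (.c 2) .z)) .z) .z)) .z))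
  (.leaf (.n (.n (.n (.n .z (.n .z (.n .z (.n (.c 2) (.c 10))))) (.n (.n (.n (.c 6) (.c 7)) (.n (.c 1) (.n (.c 4) (.c 7)))) (.n (.n (.c 8) .z) (.n .z (.n (.c 8) .z))))) (.n (.n (.n (.n (.c 2) (.c 1)) (.n (.c 2) .z)) .z) .z)) .z)))
  (.node (.leaf (.n (.n (.n .z (.n (.n .z (.n (.c 1) .z)) .z)) .z) .z))
  (.node (.leaf (.n (.n .z (.n (.n .z (.n (.n (.c 1) .z) .z)) .z)) .z))
  (.leaf (.n (.n .z (.n .z (.n (.n (.n .z (.c 1)) .z) .z))) .z)))))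
  (.node (.node (.leaf (.n (.n .z (.n (.n (.n .z (.n .z (.n (.c 1) .z))) .z) .z)) .z))
  (.leaf (.n .z (.n (.n (.n (.n .z (.n .z (.c 1))) .z) .z) .z))))
  (.node (.leaf (.n (.n .z (.n .z (.n .z (.n .z (.n .z (.n .z (.c 1))))))) .z))
  (.node (.leaf (.n .z (.n (.n (.n (.n (.n (.c 1) .z) .z) .z) .z) .z)))
  (.leaf (.n .z (.n (.n .z (.n .z (.n (.n .z (.c 1)) .z))) .z)))))))
  (.node (.node (.node (.leaf (.n .z (.n (.n (.n (.n .z (.n (.c 1) .z)) .z) .z) .z)))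
  (.leaf (.n (.n .z (.n (.n (.n .z (.n .z (.n .z (.c 1)))) .z) .z)) .z)))
  (.node (.leaf (.n .z (.n .z (.n (.n .z (.n (.n (.c 1) .z) .z)) .z))))
  (.node (.leaf (.n .z (.n .z (.n (.n (.n (.n .z (.c 1)) .z) .z) .z))))
  (.leaf (.n .z (.n .z (.n (.n (.n .z (.n (.c 1) .z)) .z) .z)))))))
  (.node (.node (.leaf (.n .z (.n .z (.n .z (.n (.n .z (.n .z (.n .z (.c 1)))) .z)))))
  (.leaf (.n .z (.n .z (.n (.n (.n .z (.n .z (.n .z (.c 1)))) .z) .z)))))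
  (.node (.leaf (.n .z (.n (.n .z (.n .z (.n .z (.n .z (.n .z (.c 1)))))) .z)))
  (.node (.leaf (.n .z (.n .z (.n .z (.n .z (.n (.n (.c 1) .z) .z))))))
  (.leaf (.n (.n .z (.n (.n .z (.n .z (.n (.c 1) .z))) .z)) .z))))))))
  (.node (.node (.node (.node (.node (.leaf (.n (.n .z (.n (.n .z (.n .z (.n .z (.n (.c 1) .z)))) .z)) .z))
  (.leaf (.n (.n .z (.n (.n (.n .z (.n .z (.n (.c 4) (.c 4)))) (.n (.n (.c 11) (.c 9)) (.n (.c 6) (.n (.c 11) (.c 4))))) (.n (.n (.n (.c 5) (.c 10)) (.n .z (.n (.c 5) (.c 6)))) (.n (.n (.c 11) (.c 10)) (.n (.c 1) (.n (.c 7) (.c 7))))))) (.n (.n (.n (.n (.n (.c 7) (.c 1)) (.n (.c 9) (.c 9))) (.n (.n (.c 11) (.c 5)) (.n (.c 7) (.n .z (.c 5))))) (.n (.n (.n (.c 1) (.c 8)) (.n .z (.n (.c 11) (.c 11)))) (.n (.n (.c 10) (.c 1)) (.n .z (.n (.c 7) (.c 10))))))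 (.n (.n (.n (.n (.c 4) (.c 9)) (.n (.c 7) (.n (.c 8) (.c 4)))) (.n (.n (.c 5) (.c 12)) (.n (.c 7) (.n (.c 12) (.c 4))))) (.n (.n (.n (.c 3) .z) (.n (.c 2) (.n (.c 6) (.c 5)))) (.n (.n (.c 9) (.c 6)) (.n (.c 7) (.n (.c 8) .z)))))))))
  (.node (.leaf (.n (.n .z (.n .z (.n (.n (.n (.c 1) .z) .z) .z))) .z))
  (.leaf (.n (.n .z (.n (.n .z (.n (.n .z (.c 1)) .z)) .z)) .z))))
  (.node (.node (.leaf (.n (.n .z (.n (.n (.n .z (.n .z (.n (.c 2) (.c 5)))) (.n (.n (.c 3) (.c 6)) (.n (.c 11) (.n (.c 9) (.c 8))))) (.n (.n (.n (.c 2) (.c 4)) (.n (.c 1) (.n (.c 10) (.c 9)))) (.n (.n (.c 4) (.c 12)) (.n (.c 8) (.n (.c 7) .z)))))) (.n (.n (.n (.n (.n (.c 1) (.c 4)) (.n (.c 10) (.c 6))) (.n (.n (.c 8) (.c 10)) (.n (.c 1) (.n .z (.c 10))))) (.n (.n (.n (.c 2) (.c 3)) (.n .z (.n (.c 9) (.c 9))))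 (.n (.n (.c 7) (.c 2)) (.n .z (.n (.c 1) .z))))) (.n (.n (.n (.n (.c 8) (.c 5)) (.n (.c 11) (.n (.c 3) .z))) (.n (.n (.c 11) (.c 11)) (.n (.c 1) (.n (.c 11) (.c 8))))) (.n (.n (.n (.c 6) .z) (.n (.c 4) (.n (.c 12) (.c 5)))) (.n (.n (.c 11) (.c 12)) (.n (.c 1) (.n (.c 3) .z))))))))
  (.leaf (.n (.n .z (.n (.n (.n .z (.n .z (.n (.c 8) (.c 12)))) (.n (.n (.c 12) (.c 8)) (.n (.c 12) (.n (.c 1) (.c 9))))) (.n (.n (.n (.c 2) (.c 4)) (.n (.c 2) (.n (.c 11) (.c 7)))) (.n (.n (.c 3) (.c 1)) (.n (.c 4) (.n (.c 12) (.c 9))))))) (.n (.n (.n (.n (.n (.c 10) (.c 9)) (.n (.c 12) (.c 7))) (.n (.n .z (.c 5)) (.n .z (.n (.c 3) (.c 1))))) (.n (.n (.n (.c 4) (.c 8)) (.n (.c 8) (.n (.c 8) (.c 2)))) (.n (.n (.c 8) (.c 6)) (.n (.c 4) (.n (.c 5) (.c 9)))))) (.n (.n (.n (.n (.c 9) (.c 10)) (.n (.c 5)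 (.n (.c 6) (.c 6)))) (.n (.n (.c 8) .z) (.n (.c 11) (.n (.c 5) (.c 3))))) (.n (.n (.n .z (.c 9)) (.n .z (.n (.c 10) (.c 9)))) (.n (.n (.c 1) (.c 1)) (.n (.c 2) (.n (.c 11) (.c 11))))))))))
  (.node (.leaf (.n (.n .z (.n (.n (.n .z (.n .z (.n (.c 3) (.c 2)))) (.n (.n (.c 10) (.c 9)) (.n (.c 6) (.n (.c 4) (.c 7))))) (.n (.n (.n (.c 11) (.c 7)) (.n (.c 6) (.n (.c 3) (.c 6)))) (.n (.n (.c 11) (.c 4)) (.n (.c 6) (.n (.c 4) (.c 1))))))) (.n (.n (.n (.n (.n (.c 7) (.c 10)) (.n (.c 3) (.c 12))) (.n (.n (.c 2) (.c 3)) (.n (.c 5) (.n (.c 4) (.c 5))))) (.n (.n (.n .z (.c 7)) (.n (.c 2) (.n (.c 4) (.c 9)))) (.n (.n (.c 5) (.c 6)) (.n (.c 1) (.n (.c 4) (.c 8)))))) (.n (.n (.n (.n (.c 8) (.c 2)) (.n (.c 11) (.n .z (.c 8)))) (.n (.n (.c 9) (.c 1)) (.n (.c 12) (.n (.c 12) .z)))) (.n (.n (.n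 (.c 10) (.c 12)) (.n (.c 11) (.n (.c 3) (.c 12)))) (.n (.n (.c 9) (.c 4)) (.n .z (.n (.c 11) (.c 6)))))))))
  (.node (.leaf (.n (.n .z (.n (.n (.n .z (.n .z (.n (.c 12) (.c 4)))) (.n (.n (.c 1) (.c 9)) (.n (.c 3) (.n (.c 12) (.c 2))))) (.n (.n (.n (.c 4) (.c 6)) (.n (.c 5) (.n (.c 8) (.c 10)))) (.n (.n (.c 10) (.c 1)) (.n (.c 6) (.n (.c 11) (.c 5))))))) (.n (.n (.n (.n (.n (.c 7) (.c 2)) (.n (.c 3) (.c 10))) (.n (.n (.c 2) (.c 2)) (.n (.c 6) (.n (.c 9) (.c 7))))) (.n (.n (.n (.c 8) (.c 10)) (.n (.c 5) (.n (.c 7) .z))) (.n (.n (.c 8) (.c 8)) (.n (.c 9) (.n (.c 1) (.c 5)))))) (.n (.n (.n (.n .z (.c 5)) (.n (.c 11) (.n (.c 12) (.c 2)))) (.n (.n (.c 7) (.c 1)) (.n (.c 8) (.n (.c 9) (.c 6))))) (.n (.n (.n (.c 10) (.c 4)) (.n (.c 11) (.n (.c 10) (.c 10)))) (.n (.n (.c 7) (.c 6)) (.n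 (.c 4) (.n (.c 7) (.c 2)))))))))
  (.leaf (.n (.n .z (.n (.n (.n .z (.n .z (.n (.c 2) (.c 1)))) (.n (.n (.c 5) (.c 6)) (.n (.c 4) (.n (.c 12) (.c 2))))) (.n (.n (.n (.c 1) (.c 5)) (.n (.c 6) (.n .z (.c 11)))) (.n (.n (.c 1) .z) (.n (.c 6) (.n (.c 7) .z)))))) (.n (.n (.n (.n (.n (.c 4) (.c 8)) (.n (.c 5) (.c 11))) (.n (.n (.c 12) (.c 5)) (.n (.c 10) (.n (.c 11) (.c 3))))) (.n (.n (.n .z (.c 3)) (.n (.c 12) (.n (.c 11) (.c 2)))) (.n (.n (.c 4) (.c 9)) (.n (.c 6) (.n (.c 11) (.c 5)))))) (.n (.n (.n (.n (.c 9) (.c 7)) (.n (.c 2) (.n .z (.c 11)))) (.n (.n (.c 11) (.c 6)) (.n (.c 7) (.n (.c 7) .z)))) (.n (.n (.n (.c 8) (.c 7)) (.n (.c 1) (.n (.c 5) (.c 7)))) (.n (.n (.c 11) (.c 11)) (.n .z (.n (.c 1) (.c 10)))))))))))))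
  (.node (.node (.node (.leaf (.n (.n .z (.n (.n (.n .z (.n .z (.n (.c 2) (.c 12)))) (.n (.n (.c 7) (.c 10)) (.n (.c 5) (.n (.c 6) (.c 12))))) (.n (.n (.n (.c 6) (.c 11)) (.n (.c 1) (.n (.c 7) (.c 7)))) (.n (.n (.c 8) (.c 2)) (.n (.c 10) (.n (.c 9) .z)))))) (.n (.n (.n (.n (.n (.c 3) (.c 1)) (.n (.c 3) (.c 11))) (.n (.n (.c 3) (.c 6)) (.n (.c 9) (.n (.c 10) (.c 11))))) (.n (.n (.n .z (.c 6)) (.n (.c 5) (.n (.c 8) (.c 1)))) (.n (.n (.c 3) .z) (.n (.c 9) (.n (.c 4) (.c 11)))))) (.n (.n (.n (.n (.c 11) (.c 2)) (.n (.c 1) (.n (.c 8) (.c 6)))) (.n (.n (.c 7) (.c 8)) (.n (.c 11) (.n (.c 3) (.c 4))))) (.n (.n (.n (.c 2) (.c 4)) (.n (.c 10) (.n (.c 7) (.c 11)))) (.n (.n (.c 4) (.c 3)) (.n (.c 7) (.n (.c 3) (.c 2)))))))))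
  (.leaf (.n (.n .z (.n (.n (.n .z (.n .z (.n (.c 6) (.c 2)))) (.n (.n (.c 11) (.c 9)) (.n (.c 10) (.n (.c 2) (.c 11))))) (.n (.n (.n .z (.c 9)) (.n (.c 12) (.n (.c 2) (.c 7)))) (.n (.n (.c 4) (.c 5)) (.n (.c 5) (.n (.c 10) (.c 1))))))) (.n (.n (.n (.n (.n (.c 8) (.c 2)) (.n (.c 2) (.c 12))) (.n (.n (.c 10) (.c 9)) (.n (.c 4) (.n (.c 4) (.c 11))))) (.n (.n (.n (.c 9) .z) (.n (.c 2) (.n (.c 12) (.c 4)))) (.n (.n (.c 4) (.c 9)) (.n (.c 1) (.n (.c 2) (.c 10)))))) (.n (.n (.n (.n (.c 5) (.c 11)) (.n (.c 8) (.n (.c 7) (.c 7)))) (.n (.n (.c 8) (.c 5)) (.n (.c 10) (.n (.c 3) (.c 10))))) (.n (.n (.n (.c 11) (.c 12)) (.n (.c 3) (.n (.c 5) (.c 3)))) (.n (.n (.c 7) (.c 6)) (.n (.c 11) (.n (.c 5) (.c 6))))))))))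
  (.node (.leaf (.n (.n .z (.n (.n (.n .z (.n .z (.n (.c 7) (.c 5)))) (.n (.n (.c 5) (.c 12)) (.n (.c 2) (.n (.c 8) (.c 10))))) (.n (.n (.n (.c 8) (.c 7)) (.n (.c 11) (.n (.c 8) (.c 8)))) (.n (.n (.c 5) (.c 2)) (.n (.c 10) (.n (.c 12) (.c 11))))))) (.n (.n (.n (.n (.n (.c 11) (.c 5)) (.n (.c 5) (.c 12))) (.n (.n (.c 8) (.c 6)) (.n (.c 11) (.n .z (.c 6))))) (.n (.n (.n (.c 9) (.c 7)) (.n (.c 12) (.n (.c 8) (.c 8)))) (.n (.n (.c 12) (.c 9)) (.n .z (.n (.c 11) .z))))) (.n (.n (.n (.n (.c 10) (.c 5)) (.n (.c 4) (.n (.c 7) .z))) (.n (.n (.c 4) (.c 4)) (.n (.c 11) (.n (.c 4) (.c 10))))) (.n (.n (.n (.c 1) .z) (.n (.c 5) (.n (.c 2) (.c 3)))) (.n (.n (.c 4) (.c 2)) (.n (.c 11) (.n (.c 7) .z))))))))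
  (.node (.leaf (.n (.n .z (.n (.n (.n .z (.n .z (.n (.c 1) (.c 6)))) (.n (.n (.c 2) (.c 7)) (.n (.c 9) (.n (.c 6) (.c 7))))) (.n (.n (.n (.c 10) (.c 11)) (.n (.c 11) (.n (.c 5) (.c 3)))) (.n (.n (.c 9) (.c 4)) (.n (.c 10) (.n (.c 1) (.c 8))))))) (.n (.n (.n (.n (.n (.c 8) (.c 8)) (.n (.c 12) (.c 2))) (.n (.n (.c 11) (.c 9)) (.n (.c 7) (.n (.c 2) (.c 10))))) (.n (.n (.n (.c 8) (.c 9)) (.n (.c 1) (.n (.c 11) (.c 8)))) (.n (.n (.c 11) (.c 2)) (.n (.c 7) (.n (.c 6) (.c 5)))))) (.n (.n (.n (.n (.c 10) (.c 4)) (.n (.c 7) (.n (.c 12) (.c 10)))) (.n (.n (.c 7) (.c 12)) (.n (.c 10) (.n (.c 11) (.c 6))))) (.n (.n (.n (.c 3) (.c 6)) (.n (.c 2) (.n (.c 4) (.c 7)))) (.n (.n .z (.c 11)) (.n (.c 4) (.n (.c 11) (.c 3)))))))))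
  (.leaf (.n (.n .z (.n (.n (.n .z (.n .z (.n (.c 9) (.c 12)))) (.n (.n (.c 10) (.c 10)) (.n (.c 12) (.n (.c 1) (.c 7))))) (.n (.n (.n (.c 10) (.c 1)) (.n (.c 2) (.n (.c 3) (.c 3)))) (.n (.n (.c 3) (.c 6)) (.n (.c 9) (.n (.c 9) (.c 6))))))) (.n (.n (.n (.n (.n (.c 11) (.c 6)) (.n (.c 2) (.c 1))) (.n (.n (.c 10) (.c 3)) (.n (.c 4) (.n (.c 1) (.c 10))))) (.n (.n (.n (.c 5) (.c 6)) (.n (.c 7) (.n (.c 4) (.c 1)))) (.n (.n (.c 9) (.c 8)) (.n (.c 10) (.n (.c 10) (.c 9)))))) (.n (.n (.n (.n (.c 9) .z) (.n (.c 6) (.n (.c 1) (.c 3)))) (.n (.n (.c 5) (.c 5)) (.n (.c 12) (.n (.c 11) (.c 7))))) (.n (.n (.n (.c 11) (.c 3)) (.n (.c 3) (.n (.c 8) (.c 9)))) (.n (.n (.c 4) (.c 5)) (.n (.c 9) (.n (.c 7) (.c 8))))))))))))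
  (.node (.node (.leaf (.n (.n .z (.n (.n (.n .z (.n .z (.n (.c 4) (.c 1)))) (.n (.n .z (.c 1)) (.n (.c 8) (.n .z (.c 11))))) (.n (.n (.n (.c 8) (.c 2)) (.n (.c 10) (.n (.c 4) (.c 9)))) (.n (.n (.c 2) (.c 6)) (.n (.c 8) (.n (.c 10) (.c 8))))))) (.n (.n (.n (.n (.n (.c 1) (.c 8)) (.n (.c 5) (.c 10))) (.n (.n (.c 2) (.c 6)) (.n (.c 6) (.n (.c 12) (.c 12))))) (.n (.n (.n (.c 2) (.c 11)) (.n (.c 6) (.n (.c 8) (.c 10)))) (.n (.n (.c 8) (.c 2)) (.n (.c 3) (.n .z (.c 6)))))) (.n (.n (.n (.n (.c 6) (.c 9)) (.n .z (.n (.c 3) (.c 6)))) (.n (.n (.c 3) (.c 1)) (.n (.c 11) (.n (.c 8) (.c 8))))) (.n (.n (.n (.c 10) (.c 10)) (.n (.c 11) (.n (.c 8) (.c 6)))) (.n (.n (.c 3) (.c 11)) (.n (.c 1) (.n (.c 10) (.c 5)))))))))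
  (.leaf (.n (.n .z (.n (.n .z (.n .z (.n .z (.n .z (.c 1))))) .z)) .z)))
  (.node (.leaf (.n (.n .z (.n (.n (.n .z (.n .z (.n (.c 12) (.c 6)))) (.n (.n (.c 7) .z) (.n (.c 7) (.n (.c 1) (.c 10))))) (.n (.n (.n (.c 1) (.c 2)) (.n (.c 11) (.n (.c 10) (.c 12)))) (.n (.n (.c 8) (.c 12)) (.n (.c 2) (.n (.c 1) (.c 8))))))) (.n (.n (.n (.n .z (.n (.c 9) (.c 1))) (.n (.n (.c 4) (.c 10)) (.n (.c 12) (.n (.c 10) (.c 2))))) (.n (.n (.n (.c 7) (.c 2)) (.n (.c 5) (.n (.c 9) (.c 2)))) (.n (.n (.c 11) (.c 6)) (.n (.c 8) (.n (.c 7) (.c 5)))))) (.n (.n (.n (.n (.c 9) (.c 3)) (.n (.c 12) (.n (.c 4) (.c 6)))) (.n (.n (.c 8) (.c 2)) (.n (.c 1) (.n (.c 10) (.c 2))))) (.n (.n (.n (.c 7) (.c 4)) (.n (.c 9) (.n (.c 4) (.c 1)))) (.n (.n (.c 8) .z) (.n (.c 10) (.n (.c 12) (.c 2)))))))))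
  (.node (.leaf (.n (.n .z (.n (.n (.n .z (.n .z (.n (.c 5) (.c 9)))) (.n (.n (.c 3) (.c 4)) (.n (.c 1) (.n (.c 5) (.c 9))))) (.n (.n (.n (.c 9) (.c 9)) (.n (.c 3) (.n (.c 10) (.c 8)))) (.n (.n (.c 4) (.c 1)) (.n (.c 10) (.n (.c 2) (.c 11))))))) (.n (.n (.n (.n (.n (.c 9) (.c 8)) (.n (.c 8) (.c 10))) (.n (.n (.c 3) (.c 2)) (.n (.c 9) (.n (.c 8) (.c 6))))) (.n (.n (.n (.c 7) (.c 5)) (.n (.c 4) (.n (.c 7) (.c 4)))) (.n (.n (.c 2) (.c 12)) (.n (.c 2) (.n (.c 4) (.c 12)))))) (.n (.n (.n (.n (.c 5) (.c 10)) (.n (.c 12) (.n (.c 4) (.c 6)))) (.n (.n (.c 5) (.c 8)) (.n (.c 8) (.n (.c 4) (.c 2))))) (.n (.n (.n (.c 2) (.c 11)) (.n (.c 10) (.n (.c 9) (.c 3)))) (.n (.n .z (.c 11)) (.n (.c 10) (.n .z (.c 12)))))))))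
  (.leaf (.n (.n .z (.n .z (.n .z (.n .z (.n (.c 1) .z))))) .z)))))))
  (.node (.node (.node (.node (.leaf (.n (.n .z (.n (.n (.n .z (.n .z (.n (.c 12) (.c 12)))) (.n (.n (.c 12) (.c 12)) .z)) (.n (.n (.n .z (.c 12)) (.n (.c 12) .z)) (.n .z (.n .z (.n (.c 12) .z)))))) (.n (.n (.n (.n .z (.n .z (.c 12))) .z) .z) (.n (.n (.n (.n (.c 12) .z) .z) (.n (.n (.c 12) .z) .z)) (.n .z (.n (.n (.c 12) .z) .z))))))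
  (.leaf (.n (.n .z (.n .z (.n (.n .z (.n .z (.n (.c 1) .z))) .z))) .z)))
  (.node (.leaf (.n (.n .z (.n .z (.n (.n .z (.n .z (.n .z (.c 1)))) .z))) .z))
  (.node (.leaf (.n (.n .z (.n (.n (.n .z (.n .z (.n (.c 4) (.c 10)))) (.n (.n (.c 7) (.c 2)) (.n (.c 10) (.n (.c 1) (.c 4))))) (.n (.n (.n (.c 4) (.c 7)) (.n .z (.n (.c 4) (.c 10)))) (.n (.n .z (.c 8)) (.n (.c 6) (.n (.c 3) (.c 3))))))) (.n (.n (.n (.n (.n (.c 3) (.c 12)) (.n (.c 2) (.c 2))) (.n (.n (.c 1) (.c 4)) (.n (.c 3) (.n .z (.c 4))))) (.n (.n (.n (.c 6) (.c 9)) (.n .z (.n (.c 1) (.c 1)))) (.n (.n (.c 8) (.c 12)) (.n .z (.n (.c 3) (.c 8)))))) (.n (.n (.n (.n (.c 11) (.c 2)) (.n (.c 3) (.n (.c 8) (.c 11)))) (.n (.n (.c 4) (.c 7)) (.n (.c 3) (.n (.c 7) (.c 11))))) (.n (.n (.n (.c 5) .z) (.n (.c 12) (.n (.c 10) (.c 3))))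 (.n (.n (.c 2) (.c 10)) (.n (.c 3) (.n (.c 9) .z))))))))
  (.leaf (.n (.n .z (.n .z (.n .z (.n (.n .z (.c 1)) .z)))) .z)))))
  (.node (.node (.leaf (.n (.n .z (.n .z (.n (.n .z (.n (.c 1) .z)) .z))) .z))
  (.leaf (.n (.n .z (.n (.n (.n .z (.n .z (.n (.c 2) (.c 3)))) (.n (.n (.c 10) (.c 4)) (.n (.c 3) (.n (.c 8) (.c 6))))) (.n (.n (.n (.c 12) (.c 5)) (.n (.c 2) (.n (.c 7) (.c 10)))) (.n (.n (.c 10) (.c 9)) (.n (.c 11) (.n (.c 7) (.c 1))))))) (.n (.n (.n (.n (.n (.c 4) (.c 4)) (.n (.c 1) .z)) (.n (.n (.c 6) (.c 9)) (.n (.c 5) (.n (.c 12) (.c 2))))) (.n (.n (.n .z (.c 8)) (.n (.c 6) (.n (.c 12) (.c 1)))) (.n (.n (.c 2) (.c 3)) (.n (.c 3) (.n (.c 12) (.c 4)))))) (.n (.n (.n (.n (.c 11) (.c 4)) (.n (.c 12) (.n .z (.c 8)))) (.n (.n (.c 11) (.c 2)) (.n (.c 10) (.n (.c 10) .z)))) (.n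 (.n (.n (.c 4) (.c 10)) (.n (.c 7) (.n (.c 9) .z))) (.n (.n (.c 9) (.c 12)) (.n .z (.n (.c 7) (.c 5))))))))))
  (.node (.leaf (.n (.n .z (.n (.n (.n .z (.n .z (.n (.c 8) (.c 9)))) (.n (.n (.c 5) (.c 11)) (.n (.c 4) (.n (.c 6) (.c 7))))) (.n (.n (.n (.c 1) (.c 7)) (.n (.c 2) (.n (.c 1) (.c 1)))) (.n (.n (.c 6) (.c 12)) (.n (.c 8) (.n (.c 12) (.c 7))))))) (.n (.n (.n (.n (.n .z (.c 2)) (.n (.c 8) .z)) (.n (.n (.c 6) (.c 12)) (.n (.c 5) (.n (.c 7) (.c 9))))) (.n (.n (.n (.c 2) (.c 12)) (.n (.c 10) (.n (.c 3) (.c 2)))) (.n (.n (.c 6) (.c 9)) (.n (.c 5) (.n (.c 8) (.c 10)))))) (.n (.n (.n (.n (.c 9) (.c 4)) (.n (.c 2) (.n (.c 3) (.c 7)))) (.n (.n (.c 1) (.c 3)) (.n (.c 8) (.n (.c 6) (.c 8))))) (.n (.n (.n (.c 4) (.c 8)) (.n (.c 7) (.n (.c 1) (.c 12)))) (.n (.n (.c 2) (.c 6)) (.n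 (.c 1) (.n (.c 6) (.c 4)))))))))
  (.node (.leaf (.n (.n .z (.n (.n (.n .z (.n .z (.n (.c 7) (.c 3)))) (.n (.n (.c 11) (.c 11)) (.n .z (.n (.c 4) (.c 5))))) (.n (.n (.n (.c 11) (.c 3)) (.n (.c 6) (.n .z (.c 2)))) (.n (.n (.c 5) (.c 3)) (.n (.c 9) (.n (.c 12) (.c 6))))))) (.n (.n (.n (.n (.n (.c 9) (.c 10)) (.n .z (.c 12))) (.n (.n (.c 7) (.c 9)) (.n (.c 8) (.n (.c 10) (.c 1))))) (.n (.n (.n (.c 12) (.c 3)) (.n (.c 5) (.n (.c 12) (.c 5)))) (.n (.n (.c 9) (.c 12)) (.n (.c 9) (.n (.c 3) (.c 5)))))) (.n (.n (.n (.n (.c 3) .z) (.n (.c 7) (.n (.c 5) (.c 6)))) (.n (.n (.c 2) (.c 10)) (.n (.c 10) (.n (.c 4) (.c 9))))) (.n (.n (.n (.c 9) (.c 4)) (.n (.c 6) (.n (.c 8) (.c 7)))) (.n (.n (.c 3) (.c 4)) (.n (.c 6) (.n .z (.c 2)))))))))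
  (.leaf (.n (.n .z (.n (.n (.n .z (.n .z (.n (.c 7) (.c 12)))) (.n (.n (.c 4) (.c 11)) (.n (.c 7) (.n .z (.c 7))))) (.n (.n (.n (.c 1) (.c 4)) (.n (.c 7) (.n (.c 10) (.c 7)))) (.n (.n (.c 11) (.c 6)) (.n (.c 11) (.n (.c 2) .z)))))) (.n (.n (.n (.n (.n (.c 10) (.c 11)) (.n (.c 1) (.c 5))) (.n (.n (.c 4) .z) (.n (.c 12) (.n (.c 5) (.c 9))))) (.n (.n (.n (.c 9) (.c 6)) (.n (.c 9) (.n .z (.c 3)))) (.n (.n (.c 2) (.c 8)) (.n (.c 11) (.n (.c 3) (.c 10)))))) (.n (.n (.n (.n (.c 7) (.c 9)) (.n (.c 6) (.n (.c 7) (.c 9)))) (.n (.n (.c 7) (.c 2)) (.n .z (.n (.c 6) (.c 9))))) (.n (.n (.n (.c 7) (.c 2)) (.n (.c 9) (.n (.c 9) (.c 7)))) (.n (.n (.c 10) (.c 7)) (.n (.c 11) (.n (.c 11) (.c 1)))))))))))))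
  (.node (.node (.node (.leaf (.n (.n .z (.n (.n (.n .z (.n .z (.n (.c 9) (.c 7)))) (.n (.n (.c 11) (.c 9)) (.n (.c 2) (.n (.c 9) (.c 7))))) (.n (.n (.n (.c 4) (.c 7)) (.n (.c 9) (.n (.c 8) .z))) (.n (.n (.c 7) (.c 3)) (.n (.c 10) (.n (.c 12) (.c 5))))))) (.n (.n (.n (.n (.n (.c 5) (.c 5)) (.n (.c 5) (.c 3))) (.n (.n (.c 10) (.c 11)) (.n (.c 4) (.n (.c 5) (.c 7))))) (.n (.n (.n (.c 6) (.c 8)) (.n (.c 9) (.n (.c 6) (.c 9)))) (.n (.n (.c 11) (.c 4)) (.n (.c 11) (.n (.c 8) (.c 8)))))) (.n (.n (.n (.n (.c 8) (.c 8)) (.n (.c 9) (.n (.c 9) (.c 11)))) (.n (.n (.c 7) (.c 5)) (.n (.c 5) (.n (.c 9) (.c 11))))) (.n (.n (.n (.c 10) (.c 2)) (.n (.c 3) (.n (.c 4) (.c 8)))) (.n (.n (.c 1) (.c 2)) (.n (.c 3) (.n .z (.c 1)))))))))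
  (.leaf (.n (.n .z (.n (.n (.n .z (.n .z (.n .z (.c 4)))) (.n (.n (.c 7) (.c 10)) (.n (.c 1) (.n (.c 4) (.c 7))))) (.n (.n (.n (.c 3) (.c 5)) (.n (.c 3) (.n (.c 5) (.c 3)))) (.n (.n (.c 12) (.c 4)) (.n (.c 11) (.n (.c 2) (.c 11))))))) (.n (.n (.n (.n (.n (.c 9) (.c 3)) (.n (.c 12) (.c 12))) (.n (.n (.c 5) (.c 8)) (.n (.c 2) (.n (.c 7) (.c 5))))) (.n (.n (.n (.c 9) (.c 3)) (.n (.c 10) (.n (.c 2) (.c 1)))) (.n (.n (.c 11) (.c 1)) (.n (.c 5) (.n (.c 5) (.c 11)))))) (.n (.n (.n (.n (.c 11) (.c 10)) (.n (.c 11) (.n (.c 7) (.c 9)))) (.n (.n (.c 11) (.c 9)) (.n (.c 6) (.n (.c 12) (.c 10))))) (.n (.n (.n (.c 12) (.c 7)) (.n (.c 8) (.n (.c 4) (.c 2)))) (.n (.n (.c 6) (.c 9)) (.n (.c 11) (.n (.c 10) (.c 4))))))))))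
  (.node (.leaf (.n (.n .z (.n (.n (.n .z (.n .z (.n .z (.c 12)))) .z) (.n (.n (.n .z (.c 12)) (.n .z (.n (.c 12) .z))) (.n (.n .z (.c 12)) .z)))) (.n .z (.n (.n (.n (.n .z (.c 12)) (.n .z (.n .z (.c 12)))) .z) (.n (.n .z (.n (.c 12) .z)) .z)))))
  (.node (.leaf (.n (.n .z (.n (.n (.n .z (.n .z (.n (.c 3) (.c 10)))) (.n (.n (.c 4) (.c 7)) (.n (.c 6) (.n (.c 10) (.c 2))))) (.n (.n (.n (.c 8) (.c 5)) (.n (.c 1) (.n (.c 5) (.c 4)))) (.n (.n (.c 7) .z) (.n (.c 8) (.n (.c 5) (.c 10))))))) (.n (.n (.n (.n (.n (.c 4) (.c 10)) (.n (.c 7) (.c 6))) (.n (.n (.c 12) (.c 2)) (.n (.c 10) (.n (.c 3) (.c 10))))) (.n (.n (.n (.c 11) (.c 12)) (.n (.c 8) (.n (.c 7) (.c 1)))) (.n (.n .z (.c 4)) (.n (.c 4) (.n (.c 2) (.c 11)))))) (.n (.n (.n (.n (.c 11) (.c 6)) (.n (.c 9) (.n (.c 10) (.c 2)))) (.n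 (.n (.c 3) (.c 6)) (.n (.c 8) (.n (.c 11) (.c 5))))) (.n (.n (.n (.c 8) (.c 9)) (.n (.c 1) (.n (.c 12) (.c 10)))) (.n (.n (.c 8) (.c 4)) (.n (.c 12) (.n (.c 2) (.c 11)))))))))
  (.leaf (.n (.n .z (.n .z (.n .z (.n (.n (.c 1) .z) .z)))) .z)))))
  (.node (.node (.leaf (.n (.n .z (.n .z (.n .z (.n .z (.n .z (.n (.c 1) .z)))))) .z))
  (.leaf (.n (.n .z (.n (.n (.n .z (.n .z (.n (.c 5) (.c 2)))) (.n (.n (.c 8) (.c 8)) (.n .z (.n (.c 2) (.c 5))))) (.n (.n (.n (.c 2) (.c 9)) (.n (.c 11) (.n (.c 7) (.c 4)))) (.n (.n (.c 3) (.c 1)) (.n (.c 10) (.n (.c 10) (.c 1))))))) (.n (.n (.n (.n (.n (.c 12) (.c 10)) (.n (.c 3) (.c 4))) (.n (.n .z (.c 11)) (.n .z (.n (.c 12) (.c 4))))) (.n (.n (.n (.c 3) (.c 6)) (.n (.c 6) (.n (.c 6) (.c 8)))) (.n (.n (.c 6) (.c 6)) (.n (.c 3) (.n (.c 7) (.c 4))))))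 (.n (.n (.n (.n (.c 10) (.c 3)) (.n (.c 9) (.n (.c 11) (.c 8)))) (.n (.n (.c 9) .z) (.n (.c 5) (.n (.c 7) (.c 12))))) (.n (.n (.n .z (.c 10)) (.n .z (.n (.c 1) (.c 1)))) (.n (.n (.c 5) (.c 3)) (.n (.c 8) (.n (.c 5) (.c 5))))))))))
  (.node (.leaf (.n (.n .z (.n (.n (.n .z (.n .z (.n (.c 4) (.c 1)))) (.n (.n .z (.c 4)) (.n (.c 1) (.n (.c 11) (.c 4))))) (.n (.n (.n (.c 11) (.c 9)) (.n (.c 11) (.n (.c 2) (.c 6)))) (.n (.n (.c 10) (.c 12)) (.n (.c 9) (.n .z (.c 4))))))) (.n (.n (.n (.n (.n (.c 2) (.c 4)) (.n (.c 1) (.c 5))) (.n (.n .z (.c 7)) (.n .z (.n (.c 10) (.c 12))))) (.n (.n (.n (.c 9) (.c 5)) (.n (.c 5) (.n (.c 5) (.c 11)))) (.n (.n (.c 5) (.c 7)) (.n (.c 9) (.n (.c 8) (.c 4)))))) (.n (.n (.n (.n (.c 4) (.c 3)) (.n (.c 8) (.n (.c 7) (.c 7)))) (.n (.n (.c 5) .z) (.n (.c 2)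 (.n (.c 8) (.c 10))))) (.n (.n (.n .z (.c 4)) (.n .z (.n (.c 3) (.c 4)))) (.n (.n (.c 11) (.c 12)) (.n (.c 10) (.n (.c 2) (.c 2)))))))))
  (.node (.leaf (.n (.n .z (.n (.n (.n .z (.n .z (.n (.c 11) (.c 10)))) (.n (.n (.c 8) (.c 4)) (.n (.c 7) (.n (.c 5) (.c 4))))) (.n (.n (.n (.c 11) (.c 2)) (.n (.c 3) (.n (.c 11) (.c 2)))) (.n (.n (.c 8) (.c 1)) (.n (.c 9) (.n (.c 4) .z)))))) (.n (.n (.n (.n (.n (.c 2) (.c 11)) (.n (.c 11) (.c 11))) (.n (.n (.c 4) .z) (.n (.c 12) (.n (.c 5) (.c 9))))) (.n (.n (.n (.c 9) (.c 6)) (.n (.c 9) (.n .z (.c 3)))) (.n (.n (.c 2) (.c 5)) (.n (.c 11) (.n (.c 3) (.c 8)))))) (.n (.n (.n (.n (.c 7) (.c 10)) (.n (.c 1) (.n (.c 7) (.c 4)))) (.n (.n (.c 3) (.c 2)) (.n .z (.n (.c 6) (.c 10))))) (.n (.n (.n (.c 7) (.c 2)) (.n (.c 9) (.n (.c 9) (.c 4)))) (.n (.n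 (.c 12) (.c 7)) (.n (.c 11) (.n (.c 10) (.c 1)))))))))
  (.leaf (.n (.n .z (.n (.n (.n .z (.n .z (.n (.c 8) (.c 12)))) (.n (.n (.c 5) (.c 4)) (.n (.c 8) (.n (.c 1) (.c 11))))) (.n (.n (.n (.c 12) (.c 8)) (.n (.c 7) (.n .z (.c 2)))) (.n (.n (.c 12) .z) (.n (.c 7) (.n (.c 3) (.c 12))))))) (.n (.n (.n (.n (.n (.c 9) (.c 5)) (.n (.c 8) (.c 12))) (.n (.n (.c 1) (.c 8)) (.n (.c 3) (.n (.c 2) (.c 9))))) (.n (.n (.n .z (.c 10)) (.n (.c 1) (.n (.c 2) (.c 11)))) (.n (.n (.c 9) (.c 4)) (.n (.c 7) (.n (.c 2) (.c 8)))))) (.n (.n (.n (.n (.c 4) (.c 6)) (.n (.c 11) (.n .z (.c 2)))) (.n (.n (.c 2) (.c 7)) (.n (.c 6) (.n (.c 6) .z)))) (.n (.n (.n (.c 5) (.c 6)) (.n (.c 12) (.n (.c 8) (.c 6)))) (.n (.n (.c 12) (.c 2)) (.n .z (.n (.c 12) (.c 2))))))))))))))))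

/-- the rows of generator 4 -/
def rows4 : RT CT :=
  (.node (.node (.node (.node (.node (.node (.leaf (.n (.n (.n (.n (.n (.n (.c 12) .z) .z) .z) .z) .z) .z))
  (.leaf (.n (.n (.n (.n (.n (.n .z (.c 12)) (.n (.c 12) .z)) .z) .z) .z) .z)))
  (.node (.leaf (.n (.n (.n (.n (.n .z (.n (.c 1) .z)) .z) .z) .z) .z))
  (.leaf (.n (.n (.n (.n (.n .z (.n (.c 12) (.c 12))) .z) .z) .z) .z))))
  (.node (.node (.leaf (.n (.n (.n (.n .z (.n (.n (.c 12) .z) .z)) .z) .z) .z))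
  (.leaf (.n (.n (.n (.n .z (.n (.n .z (.c 12)) .z)) .z) .z) .z)))
  (.node (.leaf (.n (.n (.n (.n .z (.n .z (.n (.c 12) .z))) .z) .z) .z))
  (.node (.leaf (.n (.n (.n .z (.n (.n (.n .z (.c 1)) .z) .z)) .z) .z))
  (.leaf (.n (.n (.n .z (.n .z (.n .z (.n (.c 1) .z)))) .z) .z))))))
  (.node (.node (.node (.leaf (.n (.n .z (.n (.n (.n (.n .z (.c 1)) .z) .z) .z)) .z))
  (.leaf (.n (.n (.n (.n .z (.n .z (.n .z (.n (.c 1) .z)))) .z) .z) .z)))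
  (.node (.leaf (.n (.n (.n (.n .z (.n .z (.n .z (.n (.c 9) (.c 1))))) (.n (.n (.n (.c 4) (.c 7)) (.n (.c 8) (.n (.c 6) (.c 5)))) (.n (.n (.c 6) .z) (.n (.c 11) (.n (.c 10) (.c 1)))))) (.n (.n (.n (.n (.c 5) (.c 1)) (.n (.c 6) .z)) .z) .z)) .z))
  (.node (.leaf (.n (.n (.n (.n .z (.n .z (.n .z (.n .z (.c 1))))) (.n (.n .z (.n .z (.n (.c 12) .z))) (.n .z (.n (.c 1) .z)))) .z) .z))
  (.leaf (.n (.n (.n (.n .z (.n .z (.n .z (.n (.c 11) (.c 2))))) (.n (.n (.n (.c 1) (.c 10)) (.n (.c 12) (.n (.c 5) (.c 2)))) (.n (.n (.c 1) .z) (.n (.c 11) (.n (.c 2) (.c 4)))))) (.n (.n (.n (.n (.c 11) (.c 5)) (.n (.c 5) .z)) .z) .z)) .z)))))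
  (.node (.node (.leaf (.n (.n (.n (.n .z (.n .z (.n .z (.n .z (.c 3))))) (.n (.n (.n (.c 9) (.c 12)) (.n (.c 1) (.n (.c 9) (.c 4)))) (.n (.n (.c 9) .z) (.n (.c 7) (.n (.c 9) (.c 11)))))) (.n (.n (.n (.n (.c 2) (.c 11)) (.n (.c 9) .z)) .z) .z)) .z))
  (.leaf (.n (.n (.n (.n .z (.n .z (.n .z (.n (.c 5) (.c 5))))) (.n (.n (.n (.c 7) (.c 12)) (.n (.c 12) (.n (.c 1) (.c 1)))) (.n (.n (.c 9) (.c 12)) (.n (.c 1) (.n (.c 10) (.c 9)))))) (.n (.n (.n (.n (.c 11) .z) (.n (.c 1) .z)) .z) .z)) .z)))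
  (.node (.leaf (.n (.n (.n (.n .z (.n .z (.n .z (.n .z (.c 1))))) .z) .z) .z))
  (.node (.leaf (.n (.n (.n (.n .z (.n .z (.n .z (.n (.c 10) (.c 5))))) (.n (.n (.n (.c 9) (.c 9)) (.n .z (.n (.c 7) (.c 10)))) (.n (.n (.c 12) .z) (.n (.c 5) (.n (.c 11) (.c 1)))))) (.n (.n (.n (.n .z (.c 12)) (.n (.c 7) .z)) .z) .z)) .z))
  (.leaf (.n (.n (.n (.n .z (.n .z (.n .z (.n (.c 12) (.c 8))))) (.n (.n (.n (.c 12) (.c 6)) (.n (.c 9) (.n (.c 8) (.c 6)))) (.n (.n (.c 2) .z) (.n (.c 5) (.n (.c 6) (.c 4)))))) (.n (.n (.n (.n (.c 5) (.c 8)) (.n (.c 8) .z)) .z) .z)) .z)))))))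
  (.node (.node (.node (.node (.leaf (.n (.n (.n (.n .z (.n .z (.n .z (.n (.c 4) (.c 1))))) (.n (.n (.n (.c 4) (.c 12)) (.n (.c 4) (.n (.c 4) .z))) (.n .z (.n (.c 4) (.n (.c 9) (.c 6)))))) (.n (.n (.n (.n (.c 7) (.c 2)) (.n (.c 4) .z)) .z) .z)) .z))
  (.leaf (.n (.n (.n .z (.n (.n (.n (.c 1) .z) .z) .z)) .z) .z)))
  (.node (.leaf (.n (.n (.n (.n .z (.n .z (.n .z (.n (.c 12) (.c 11))))) (.n (.n (.n (.c 12) (.c 10)) (.n (.c 4) (.n (.c 9) (.c 9)))) (.n (.n (.c 3) .z) (.n (.c 1) (.n (.c 12) (.c 3)))))) (.n (.n (.n (.n (.c 8) (.c 1)) (.n (.c 8) .z)) .z) .z)) .z))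
  (.node (.leaf (.n (.n .z (.n (.n .z (.n (.n .z (.c 1)) .z)) .z)) .z))
  (.leaf (.n (.n .z (.n .z (.n (.n .z (.n (.c 1) .z)) .z))) .z)))))
  (.node (.node (.leaf (.n (.n .z (.n .z (.n .z (.n .z (.n .z (.n (.c 1) .z)))))) .z))
  (.leaf (.n (.n .z (.n (.n (.n .z (.n .z (.n (.c 1) .z))) .z) .z)) .z)))
  (.node (.leaf (.n .z (.n (.n (.n .z (.n .z (.n .z (.n .z (.c 1))))) .z) .z)))
  (.node (.leaf (.n .z (.n (.n (.n .z (.n (.n .z (.c 1)) .z)) .z) .z)))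
  (.leaf (.n .z (.n (.n (.n .z (.n .z (.n (.c 1) .z))) .z) .z)))))))
  (.node (.node (.node (.leaf (.n .z (.n (.n (.n .z (.n .z (.n .z (.n (.c 1) .z)))) .z) .z)))
  (.leaf (.n .z (.n .z (.n (.n (.n (.n (.c 1) .z) .z) .z) .z)))))
  (.node (.leaf (.n (.n .z (.n (.n (.n .z (.n .z (.n .z (.c 1)))) .z) .z)) .z))
  (.node (.leaf (.n .z (.n .z (.n (.n .z (.n .z (.n .z (.n .z (.c 1))))) .z))))
  (.leaf (.n (.n .z (.n (.n (.n .z (.n .z (.n (.c 12) (.c 12)))) (.n (.n .z (.c 12)) (.n .z (.n (.c 12) .z)))) (.n (.n .z (.n (.c 12) (.n .z (.c 12)))) .z))) (.n (.n (.n .z (.n (.n .z (.c 12)) .z)) .z) .z))))))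
  (.node (.node (.leaf (.n .z (.n .z (.n (.n .z (.n .z (.n (.c 1) .z))) .z))))
  (.leaf (.n .z (.n .z (.n (.n .z (.n .z (.n .z (.n (.c 1) .z)))) .z)))))
  (.node (.leaf (.n (.n .z (.n (.n (.n .z (.n .z (.n (.c 5) (.c 5)))) (.n (.n (.c 12) (.c 5)) (.n (.c 10) (.n .z (.c 2))))) (.n (.n (.n (.c 3) .z) (.n (.c 5) (.n (.c 10) .z))) (.n (.n (.c 2) (.c 3)) (.n (.c 12) (.n (.c 12) .z)))))) (.n (.n (.n .z (.n .z (.n (.c 2) (.n (.c 3) (.c 10))))) .z) (.n (.n .z (.n .z (.n (.c 2) (.n (.c 3) (.c 10))))) .z))))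
  (.node (.leaf (.n (.n .z (.n (.n .z (.n (.n (.c 1) .z) .z)) .z)) .z))
  (.leaf (.n .z (.n .z (.n .z (.n .z (.n .z (.n .z (.n .z (.c 1)))))))))))))))
  (.node (.node (.node (.node (.node (.leaf (.n .z (.n .z (.n .z (.n .z (.n .z (.n (.c 1) .z)))))))
  (.leaf (.n .z (.n .z (.n .z (.n .z (.n .z (.n .z (.n (.c 1) .z)))))))))
  (.node (.leaf (.n (.n .z (.n (.n (.n .z (.n .z (.n (.c 11) (.c 12)))) (.n (.n (.c 12) (.c 7)) (.n (.c 9) (.n (.c 2) (.c 5))))) (.n (.n (.n (.c 5) (.c 5)) (.n (.c 3) (.n (.c 5) (.c 8)))) (.n (.n (.c 1) .z) (.n (.c 5) (.n (.c 5) (.c 12))))))) (.n (.n (.n (.n (.n (.c 2) (.c 10)) (.n (.c 9) (.c 3))) (.n (.n (.c 2) (.c 2)) (.n (.c 6) (.n (.c 10) (.c 4))))) (.n (.n (.n (.c 5) (.c 6)) (.n (.c 1) (.n (.c 12) .z))) (.n (.n (.c 11) (.c 5)) (.n (.c 3) (.n (.c 10) (.c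 3)))))) (.n (.n (.n (.n (.c 1) (.c 3)) (.n (.c 3) (.n (.c 1) (.c 11)))) (.n (.n (.c 2) (.c 11)) (.n (.c 5) (.n (.c 12) (.c 9))))) (.n (.n (.n (.c 3) (.c 5)) (.n (.c 5) (.n .z (.c 2)))) (.n (.n (.c 9) (.c 9)) (.n (.c 9) (.n (.c 8) .z))))))))
  (.leaf (.n .z (.n .z (.n .z (.n .z (.n (.n (.c 1) .z) .z))))))))
  (.node (.node (.leaf (.n (.n .z (.n (.n (.n .z (.n .z (.n (.c 5) (.c 4)))) (.n (.n .z (.c 11)) (.n (.c 3) (.n (.c 12) (.c 5))))) (.n (.n (.n (.c 10) (.c 1)) (.n (.c 11) (.n (.c 5) (.c 1)))) (.n (.n (.c 2) .z) (.n (.c 12) (.n (.c 4) (.c 9))))))) (.n (.n (.n (.n (.n (.c 5) (.c 10)) (.n (.c 11) (.c 11))) (.n (.n (.c 9) (.c 12)) (.n (.c 10) (.n (.c 9) (.c 4))))) (.n (.n (.n (.c 12) (.c 4)) (.n (.c 5) (.n (.c 8) .z))) (.n (.n (.c 3) (.c 12)) (.n (.c 2) (.n (.c 11) (.c 2))))))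 (.n (.n (.n (.n (.c 7) (.c 2)) (.n (.c 2) (.n (.c 5) (.c 3)))) (.n (.n (.c 10) (.c 3)) (.n (.c 9) (.n (.c 8) (.c 12))))) (.n (.n (.n (.c 2) (.c 12)) (.n (.c 12) (.n .z (.c 10)))) (.n (.n (.c 2) (.c 6)) (.n (.c 1) (.n .z (.c 1)))))))))
  (.leaf (.n (.n .z (.n (.n .z (.n .z (.n .z (.n (.c 1) .z)))) .z)) .z)))
  (.node (.leaf (.n (.n .z (.n (.n .z (.n .z (.n .z (.n .z (.c 1))))) .z)) .z))
  (.node (.leaf (.n (.n .z (.n .z (.n (.n (.n (.c 1) .z) .z) .z))) .z))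
  (.leaf (.n (.n .z (.n (.n .z (.n .z (.n (.c 1) .z))) .z)) .z))))))
  (.node (.node (.node (.leaf (.n (.n .z (.n (.n (.n .z (.n .z (.n (.c 3) (.c 2)))) (.n (.n (.c 9) .z) (.n (.c 2) (.n (.c 7) (.c 11))))) (.n (.n (.n (.c 12) (.c 2)) (.n (.c 5) (.n (.c 6) (.c 6)))) (.n (.n (.c 9) (.c 9)) (.n (.c 7) (.n (.c 7) (.c 2))))))) (.n (.n (.n (.n (.n (.c 2) (.c 3)) (.n (.c 1) (.c 9))) (.n (.n (.c 8) (.c 7)) (.n (.c 2) (.n (.c 6) (.c 8))))) (.n (.n (.n (.c 6) (.c 11)) (.n (.c 4) (.n (.c 9) .z))) (.n (.n (.c 5) (.c 7)) (.n (.c 12) (.n (.c 1) (.c 12)))))) (.n (.n (.n (.n (.c 12) (.c 12)) (.n (.c 12) (.n (.c 4) (.c 5)))) (.n (.n (.c 8) (.c 5)) (.n (.c 12) (.n (.c 5) (.c 9))))) (.n (.n (.n (.c 12) (.c 7)) (.n (.c 7) (.n .z (.c 8)))) (.n (.n (.c 7) (.c 10)) (.n (.c 4) (.n (.c 8) (.c 6)))))))))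
  (.leaf (.n (.n .z (.n (.n (.n .z (.n .z (.n (.c 8) (.c 1)))) (.n (.n (.c 5) (.c 3)) (.n (.c 2) (.n (.c 12) (.c 11))))) (.n (.n (.n .z (.c 11)) (.n (.c 6) (.n (.c 7) (.c 10)))) (.n (.n (.c 12) (.c 3)) (.n (.c 3) (.n (.c 6) (.c 12))))))) (.n (.n (.n (.n (.n .z (.c 9)) (.n (.c 6) (.c 3))) (.n (.n (.c 9) (.c 12)) (.n (.c 9) (.n (.c 3) (.c 12))))) (.n (.n (.n (.c 3) .z) (.n (.c 11) (.n (.c 2) .z))) (.n (.n (.c 4) (.c 3)) (.n (.c 7) (.n (.c 6) (.c 7)))))) (.n (.n (.n (.n (.c 6) (.c 7)) (.n (.c 7) (.n (.c 11) (.c 4)))) (.n (.n (.c 9) (.c 4)) (.n (.c 4) (.n (.c 5) (.c 12))))) (.n (.n (.n (.c 7) (.c 3)) (.n (.c 3) (.n .z (.c 9)))) (.n (.n (.c 4) (.c 8)) (.n (.c 12) (.n .z (.c 10))))))))))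
  (.node (.leaf (.n (.n .z (.n (.n (.n .z (.n .z (.n (.c 2) (.c 4)))) (.n (.n (.c 1) (.c 3)) (.n (.c 2) (.n (.c 8) (.c 1))))) (.n (.n (.n (.c 12) (.c 12)) (.n (.c 3) (.n .z (.c 11)))) (.n (.n (.c 8) (.c 4)) (.n (.c 2) (.n (.c 6) .z)))))) (.n (.n (.n (.n (.n (.c 4) (.c 8)) (.n (.c 4) (.c 8))) (.n (.n (.c 6) (.c 8)) (.n (.c 4) (.n (.c 1) .z)))) (.n (.n (.n (.c 2) (.c 5)) (.n (.c 2) (.n (.c 10) .z))) (.n (.n (.c 7) (.c 2)) (.n (.c 9) (.n (.c 4) (.c 9)))))) (.n (.n (.n (.n .z (.c 9)) (.n (.c 9) (.n (.c 3) (.c 7)))) (.n (.n (.c 6) (.c 7)) (.n (.c 7) (.n (.c 1) (.c 12))))) (.n (.n (.n (.c 9) (.c 2)) (.n (.c 2) (.n .z (.c 6)))) (.n (.n .z (.c 1)) (.n (.c 12) (.n (.c 2) (.c 3)))))))))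
  (.node (.leaf (.n (.n .z (.n (.n (.n .z (.n .z (.n (.c 4) (.c 9)))) (.n (.n (.c 3) (.c 3)) (.n (.c 6) (.n (.c 3) (.c 1))))) (.n (.n (.n (.c 2) (.c 6)) (.n (.c 10) (.n (.c 1) (.c 2)))) (.n (.n (.c 9) (.c 3)) (.n (.c 11) (.n (.c 11) (.c 4))))))) (.n (.n (.n (.n (.n (.c 8) (.c 7)) (.n (.c 9) (.c 2))) (.n (.n (.c 7) (.c 3)) (.n (.c 11) (.n .z (.c 8))))) (.n (.n (.n (.c 11) (.c 8)) (.n (.c 10) (.n (.c 2) .z))) (.n (.n (.c 6) (.c 11)) (.n (.c 4) (.n (.c 9) (.c 4)))))) (.n (.n (.n (.n (.c 5) (.c 4)) (.n (.c 4) (.n (.c 10) (.c 6)))) (.n (.n (.c 7) (.c 6)) (.n (.c 10) (.n (.c 6) (.c 2))))) (.n (.n (.n (.c 4) (.c 11)) (.n (.c 11) (.n .z (.c 7)))) (.n (.n (.c 10) (.c 12)) (.n .z (.n .z (.c 1)))))))))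
  (.leaf (.n (.n .z (.n (.n (.n .z (.n .z (.n (.c 2) (.c 8)))) (.n (.n (.c 12) (.c 12)) (.n (.c 7) (.n (.c 1) (.c 9))))) (.n (.n (.n .z (.c 4)) (.n (.c 11) (.n (.c 12) (.c 6)))) (.n (.n (.c 12) (.c 7)) (.n (.c 7) (.n (.c 10) (.c 2))))))) (.n (.n (.n (.n (.n .z (.c 4)) (.n (.c 1) (.c 7))) (.n (.n (.c 8) (.c 1)) (.n .z (.n (.c 7) .z)))) (.n (.n (.n (.c 7) (.c 11)) (.n (.c 4) (.n (.c 9) (.c 12)))) (.n (.n (.c 5) (.c 7)) (.n (.c 12) (.n (.c 1) (.c 12)))))) (.n (.n (.n (.n (.c 1) (.c 12)) (.n (.c 12) (.n (.c 4) (.c 5)))) (.n (.n (.c 8) (.c 5)) (.n (.c 2) (.n (.c 3) (.c 2))))) (.n (.n (.n (.c 12) (.c 7)) (.n (.c 7) (.n .z (.c 8)))) (.n (.n (.c 5) (.c 10)) (.n (.c 2) (.n (.c 9) (.c 6))))))))))))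
  (.node (.node (.leaf (.n (.n .z (.n (.n (.n .z (.n .z (.n (.c 2) (.c 3)))) (.n (.n (.c 7) (.c 11)) (.n (.c 10) (.n (.c 2) (.c 11))))) (.n (.n (.n (.c 10) (.c 10)) (.n (.c 7) (.n (.c 4) (.c 8)))) (.n (.n (.c 10) (.c 9)) (.n (.c 5) (.n .z (.c 7))))))) (.n (.n (.n (.n (.n (.c 1) (.c 12)) (.n (.c 10) (.c 9))) (.n (.n (.c 2) (.c 2)) (.n (.c 12) (.n (.c 2) (.c 5))))) (.n (.n (.n (.c 5) (.c 6)) (.n (.c 1) (.n (.c 12) .z))) (.n (.n (.c 10) (.c 5)) (.n (.c 3) (.n (.c 10) (.c 3)))))) (.n (.n (.n (.n (.c 6) (.c 3)) (.n (.c 3) (.n (.c 1) (.c 11)))) (.n (.n (.c 2) (.c 11)) (.n (.c 1) (.n (.c 8) (.c 8))))) (.n (.n (.n (.c 3) (.c 5)) (.n (.c 5) (.n .z (.c 2)))) (.n (.n (.c 2) (.c 9)) (.n (.c 8) (.n (.c 10) (.c 8)))))))))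
  (.leaf (.n (.n .z (.n (.n (.n .z (.n .z (.n (.c 3) (.c 10)))) (.n (.n (.c 4) (.c 4)) (.n (.c 8) (.n (.c 12) (.c 6))))) (.n (.n (.n (.c 7) (.c 8)) (.n (.c 9) (.n (.c 7) (.c 11)))) (.n (.n (.c 5) (.c 4)) (.n (.c 2) (.n (.c 9) (.c 10))))))) (.n (.n (.n (.n (.n (.c 2) (.c 3)) (.n (.c 4) (.c 11))) (.n (.n (.c 6) (.c 12)) (.n (.c 9) (.n (.c 9) (.c 6))))) (.n (.n (.n (.c 2) (.c 5)) (.n (.c 3) (.n (.c 10) .z))) (.n (.n (.c 7) (.c 1)) (.n (.c 9) (.n (.c 4) (.c 9)))))) (.n (.n (.n (.n (.c 9) (.c 9)) (.n (.c 9) (.n (.c 3) (.c 7)))) (.n (.n (.c 6) (.c 7)) (.n (.c 4) (.n (.c 1) (.c 6))))) (.n (.n (.n (.c 9) (.c 2)) (.n (.c 2) (.n .z (.c 6)))) (.n (.n (.c 3) (.c 1)) (.n (.c 10) (.n (.c 10) .z)))))))))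
  (.node (.leaf (.n (.n .z (.n (.n (.n .z (.n .z (.n (.c 6) (.c 7)))) (.n (.n (.c 3) (.c 11)) (.n (.c 11) (.n (.c 10) (.c 6))))) (.n (.n (.n .z (.c 1)) (.n (.c 2) (.n (.c 4) (.c 3)))) (.n (.n (.c 4) .z) (.n (.c 10) (.n (.c 2) (.c 7))))))) (.n (.n (.n (.n (.n (.c 11) (.c 6)) (.n (.c 7) (.c 3))) (.n (.n (.c 4) (.c 10)) (.n (.c 8) (.n (.c 10) (.c 1))))) (.n (.n (.n (.c 10) (.c 12)) (.n (.c 2) (.n (.c 11) .z))) (.n (.n (.c 9) (.c 10)) (.n (.c 5) (.n (.c 7) (.c 6)))))) (.n (.n (.n (.n (.c 6) (.c 6)) (.n (.c 6) (.n (.c 2) (.c 9)))) (.n (.n (.c 4) (.c 9)) (.n (.c 12) (.n (.c 11) (.c 12))))) (.n (.n (.n (.c 6) (.c 10)) (.n (.c 10) (.n .z (.c 4)))) (.n (.n (.c 2) (.c 5)) (.n (.c 12) (.n (.c 2) (.c 9)))))))))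
  (.node (.leaf (.n (.n .z (.n (.n (.n .z (.n .z (.n (.c 10) (.c 6)))) (.n (.n (.c 12) (.c 4)) (.n (.c 1) (.n (.c 4) (.c 11))))) (.n (.n (.n (.c 12) (.c 8)) (.n (.c 12) (.n (.c 11) (.c 12)))) (.n (.n (.c 1) (.c 1)) (.n (.c 1) (.n (.c 8) (.c 4))))))) (.n (.n (.n (.n (.n .z (.c 9)) (.n (.c 2) (.c 1))) (.n (.n (.c 3) (.c 4)) (.n (.c 6) .z))) (.n (.n (.n (.c 1) (.c 9)) (.n (.c 8) (.n (.c 5) .z))) (.n (.n (.c 10) (.c 1)) (.n (.c 11) (.n (.c 1) (.c 11)))))) (.n (.n (.n (.n (.c 2) (.c 11)) (.n (.c 11) (.n (.c 8) (.c 10)))) (.n (.n (.c 3) (.c 10)) (.n (.c 7) (.n (.c 6) (.c 4))))) (.n (.n (.n (.c 11) (.c 1)) (.n (.c 1) (.n .z (.c 3)))) (.n (.n (.c 10) (.c 7)) (.n (.c 4) (.n (.c 6) (.c 12)))))))))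
  (.leaf (.n (.n .z (.n (.n .z (.n .z (.n (.c 9) (.n .z (.c 2))))) (.n (.n (.n (.c 3) (.c 12)) (.n .z (.n (.c 9) .z))) (.n (.n (.c 2) (.c 3)) .z)))) (.n (.n (.n .z (.n .z (.n (.c 2) (.n (.c 3) (.c 9))))) (.n .z (.n .z (.n .z (.n .z (.c 12)))))) (.n (.n (.n (.n (.c 12) .z) .z) (.n .z (.n (.c 2) (.n (.c 3) (.c 9))))) .z)))))))))
  (.node (.node (.node (.node (.leaf (.n (.n .z (.n .z (.n (.n (.n .z (.c 1)) .z) .z))) .z))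
  (.leaf (.n (.n .z (.n (.n (.n .z (.n .z (.n (.c 2) (.c 4)))) (.n (.n (.c 9) (.c 8)) (.n (.c 10) (.n (.c 8) (.c 8))))) (.n (.n (.n (.c 4) (.c 10)) (.n (.c 11) (.n (.c 1) (.c 1)))) (.n (.n (.c 4) (.c 7)) (.n (.c 12) (.n .z (.c 11))))))) (.n (.n (.n (.n (.n (.c 7) (.c 1)) (.n (.c 11) (.c 5))) (.n (.n (.c 10) (.c 8)) (.n .z (.n (.c 3) (.c 11))))) (.n (.n (.n (.c 12) (.c 4)) (.n (.c 5) (.n (.c 8) .z))) (.n (.n (.c 3) (.c 12)) (.n (.c 2) (.n (.c 11) (.c 2)))))) (.n (.n (.n (.n (.c 3) (.c 1)) (.n (.c 2) (.n (.c 5) (.c 3)))) (.n (.n (.c 10) (.c 3)) (.n (.c 11) (.n (.c 2) (.c 8))))) (.n (.n (.n (.c 2) (.c 12)) (.n (.c 12) (.n .z (.c 10)))) (.n (.n (.c 9) (.c 6)) (.n (.c 3) (.n (.c 4) (.c 3))))))))))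
  (.node (.leaf (.n (.n .z (.n (.n (.n .z (.n .z (.n (.c 12) (.c 5)))) (.n (.n (.c 6) (.c 12)) (.n (.c 12) (.n (.c 10) (.c 10))))) (.n (.n (.n (.c 3) (.c 5)) (.n (.c 5) (.n (.c 5) .z))) (.n (.n (.c 9) (.c 7)) (.n .z (.n (.c 6) .z)))))) (.n (.n (.n (.n (.n (.c 4) (.c 3)) (.n .z (.c 7))) (.n (.n .z (.c 10)) (.n (.c 10) (.n (.c 3) (.c 12))))) .z) (.n (.n (.n (.n (.c 5) .z) (.n (.c 12) .z)) (.n .z (.n (.c 9) (.n (.c 7) (.c 5))))) (.n .z (.n (.n (.c 7) .z) (.n (.c 4) (.n (.c 3) .z))))))))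
  (.node (.leaf (.n (.n .z (.n (.n (.n .z (.n .z (.n (.c 11) (.c 9)))) (.n (.n (.c 6) (.c 9)) (.n (.c 9) (.n (.c 10) (.c 7))))) (.n (.n (.n .z (.c 6)) (.n (.c 11) (.n (.c 8) (.c 4)))) (.n (.n (.c 3) (.c 9)) (.n (.c 9) (.n (.c 9) (.c 10))))))) (.n (.n (.n (.n (.n .z (.c 5)) (.n (.c 5) (.c 9))) (.n (.n (.c 1) (.c 10)) (.n (.c 1) (.n (.c 9) .z)))) (.n (.n (.n (.c 9) (.c 3)) (.n (.c 7) (.n (.c 6) .z))) (.n (.n (.c 12) (.c 9)) (.n (.c 8) (.n (.c 5) (.c 8)))))) (.n (.n (.n (.n (.c 4) (.c 8)) (.n (.c 8) (.n (.c 6) (.c 12)))) (.n (.n (.c 1) (.c 12)) (.n (.c 5) (.n (.c 2) (.c 10))))) (.n (.n (.n (.c 8) (.c 9)) (.n (.c 9) (.n .z (.c 1)))) (.n (.n (.c 12) (.c 11)) (.n (.c 10) (.n (.c 4) (.c 4)))))))))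
  (.leaf (.n (.n .z (.n (.n (.n .z (.n .z (.n (.c 3) .z))) (.n (.n (.c 12) (.c 2)) (.n (.c 10) (.n (.c 5) (.c 12))))) (.n (.n (.n (.c 6) .z) (.n (.c 1) (.n .z (.c 2)))) (.n (.n (.c 5) .z) (.n (.c 11) (.n (.c 7) .z)))))) (.n (.n (.n (.n (.n (.c 9) (.c 5)) (.n (.c 9) (.c 5))) (.n (.n (.c 7) (.c 5)) (.n (.c 9) (.n (.c 4) (.c 12))))) (.n (.n (.n (.c 11) (.c 8)) (.n (.c 10) (.n (.c 3) .z))) (.n (.n (.c 6) (.c 11)) (.n (.c 4) (.n (.c 9) (.c 4)))))) (.n (.n (.n (.n (.c 12) (.c 4)) (.n (.c 4) (.n (.c 10) (.c 5)))) (.n (.n (.c 7) (.c 6)) (.n (.c 6) (.n (.c 3) (.c 1))))) (.n (.n (.n (.c 4) (.c 11)) (.n (.c 11) (.n .z (.c 7)))) (.n (.n .z (.c 12)) (.n (.c 1) (.n (.c 11) (.c 10))))))))))))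
  (.node (.node (.leaf (.n (.n .z (.n (.n (.n .z (.n .z (.n (.c 12) (.c 12)))) (.n (.n (.c 12) (.c 12)) .z)) (.n (.n (.n .z (.c 12)) (.n (.c 12) .z)) (.n .z (.n .z (.n (.c 12) .z)))))) (.n (.n (.n (.n .z (.n .z (.c 12))) .z) .z) (.n (.n (.n (.n (.c 12) .z) .z) (.n (.n (.c 12) .z) .z)) (.n .z (.n (.n (.c 12) .z) .z))))))
  (.leaf (.n (.n .z (.n (.n (.n .z (.n .z (.n (.c 7) (.c 8)))) (.n (.n .z (.c 1)) (.n (.c 9) (.n (.c 1) (.c 8))))) (.n (.n (.n (.c 3) (.c 12)) (.n (.c 1) (.n (.c 7) (.c 12)))) (.n (.n (.c 11) .z) (.n (.c 1) (.n (.c 9) (.c 4))))))) (.n (.n (.n (.n (.n (.c 8) (.c 3)) (.n (.c 2) (.c 2))) (.n (.n (.c 3) (.c 1)) (.n (.c 3) (.n (.c 4) (.c 8))))) (.n (.n (.n (.c 1) (.c 9)) (.n (.c 8) (.n (.c 5) .z))) (.n (.n (.c 10) (.c 1)) (.n (.c 11) (.n (.c 2) (.c 11)))))) (.n (.n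 (.n (.n (.c 6) (.c 11)) (.n (.c 11) (.n (.c 8) (.c 10)))) (.n (.n (.c 3) (.c 9)) (.n (.c 4) (.n (.c 5) .z)))) (.n (.n (.n (.c 11) (.c 1)) (.n (.c 1) (.n .z (.c 3)))) (.n (.n (.c 11) (.c 7)) (.n (.c 12) (.n .z (.c 12))))))))))
  (.node (.leaf (.n (.n .z (.n .z (.n .z (.n (.n (.c 1) .z) .z)))) .z))
  (.node (.leaf (.n (.n .z (.n .z (.n .z (.n (.n .z (.c 1)) .z)))) .z))
  (.leaf (.n (.n .z (.n .z (.n (.n .z (.n .z (.n (.c 1) .z))) .z))) .z))))))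
  (.node (.node (.node (.leaf (.n (.n .z (.n (.n (.n .z (.n .z (.n (.c 10) (.c 11)))) (.n (.n (.c 4) .z) (.n (.c 10) (.n (.c 6) (.c 2))))) (.n (.n (.n (.c 1) (.c 11)) (.n (.c 8) (.n (.c 6) (.c 7)))) (.n (.n (.c 4) (.c 4)) (.n (.c 6) (.n (.c 6) (.c 11))))))) (.n (.n (.n (.n (.n (.c 11) (.c 10)) (.n (.c 12) (.c 4))) (.n (.n (.c 5) (.c 6)) (.n (.c 11) (.n (.c 7) (.c 4))))) (.n (.n (.n (.c 6) (.c 2)) (.n (.c 9) (.n (.c 4) .z))) (.n (.n (.c 8) (.c 6)) (.n (.c 1) (.n (.c 12) (.c 1)))))) (.n (.n (.n (.n (.c 1) (.c 1)) (.n (.c 1) (.n (.c 9) (.c 8)))) (.n (.n (.c 5) (.c 8)) (.n (.c 1) (.n (.c 8) (.c 3))))) (.n (.n (.n .z (.c 6)) (.n (.c 6) (.n .z (.c 5)))) (.n (.n (.c 6) (.c 3)) (.n (.c 9) (.n (.c 5) (.c 7)))))))))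
  (.leaf (.n (.n .z (.n (.n (.n .z (.n .z (.n (.c 1) (.c 8)))) (.n (.n (.c 8) (.c 6)) (.n (.c 10) (.n (.c 1) (.c 11))))) (.n (.n (.n .z (.c 2)) (.n (.c 3) (.n (.c 5) (.c 3)))) (.n (.n (.c 10) (.c 10)) (.n (.c 10) (.n (.c 7) (.c 1))))))) (.n (.n (.n (.n (.n .z (.c 4)) (.n (.c 7) (.c 10))) (.n (.n (.c 4) (.c 1)) (.n .z (.n (.c 10) .z)))) (.n (.n (.n (.c 10) (.c 12)) (.n (.c 2) (.n (.c 11) .z))) (.n (.n (.c 9) (.c 10)) (.n (.c 6) (.n (.c 7) (.c 6)))))) (.n (.n (.n (.n (.c 7) (.c 6)) (.n (.c 6) (.n (.c 2) (.c 9)))) (.n (.n (.c 4) (.c 9)) (.n (.c 5) (.n (.c 8) .z)))) (.n (.n (.n (.c 6) (.c 9)) (.n (.c 10) (.n .z (.c 4)))) (.n (.n (.c 9) (.c 5)) (.n (.c 1) (.n .z (.c 3))))))))))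
  (.node (.leaf (.n (.n .z (.n (.n (.n .z (.n .z (.n (.c 9) (.c 7)))) (.n (.n (.c 12) (.c 8)) (.n (.c 10) (.n (.c 5) (.c 12))))) (.n (.n (.n (.c 12) (.c 1)) (.n (.c 8) (.n (.c 12) (.c 2)))) (.n (.n (.c 5) (.c 7)) (.n (.c 11) (.n (.c 7) .z)))))) (.n (.n (.n (.n (.n (.c 9) (.c 5)) (.n (.c 9) (.c 5))) (.n (.n (.c 7) (.c 5)) (.n (.c 9) (.n (.c 10) (.c 12))))) (.n (.n (.n (.c 11) (.c 8)) (.n (.c 10) (.n (.c 3) .z))) (.n (.n (.c 6) (.c 11)) (.n (.c 4) (.n (.c 9) (.c 4)))))) (.n (.n (.n (.n .z (.c 4)) (.n (.c 4) (.n (.c 10) (.c 6)))) (.n (.n (.c 7) (.c 6)) (.n (.c 6) (.n (.c 10) .z)))) (.n (.n (.n (.c 4) (.c 11)) (.n (.c 10) (.n .z (.c 7)))) (.n (.n .z (.c 12)) (.n (.c 1) (.n (.c 11) (.c 10)))))))))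
  (.node (.leaf (.n (.n .z (.n (.n (.n .z (.n .z (.n (.c 11) (.c 5)))) (.n (.n (.c 1) (.c 1)) (.n (.c 6) (.n (.c 12) (.c 3))))) (.n (.n (.n .z (.c 9)) (.n (.c 2) (.n (.c 1) (.c 7)))) (.n (.n .z (.c 6)) (.n (.c 6) (.n (.c 3) (.c 11))))))) (.n (.n (.n (.n (.n .z (.c 9)) (.n (.c 12) (.c 6))) (.n (.n (.c 5) (.c 12)) (.n (.c 12) (.n (.c 6) .z)))) (.n (.n (.n (.c 6) (.c 2)) (.n (.c 9) (.n (.c 4) .z))) (.n (.n (.c 8) (.c 6)) (.n (.c 1) (.n (.c 12) (.c 1)))))) (.n (.n (.n (.n (.c 12) (.c 1)) (.n (.c 1) (.n (.c 9) (.c 8)))) (.n (.n (.c 5) (.c 8)) (.n (.c 10) (.n (.c 10) (.c 11))))) (.n (.n (.n (.c 1) (.c 6)) (.n (.c 6) (.n (.c 12) (.c 5)))) (.n (.n (.c 8) (.c 3)) (.n (.c 11) (.n (.c 4) (.c 7)))))))))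
  (.leaf (.n (.n .z (.n (.n (.n .z (.n .z (.n (.c 6) (.c 6)))) (.n (.n (.c 12) .z) (.n (.c 10) (.n (.c 12) (.c 2))))) (.n (.n (.n (.c 9) (.c 7)) (.n (.c 12) (.n (.c 2) (.c 12)))) (.n (.n (.c 11) .z) (.n (.c 1) (.n (.c 8) (.c 9))))))) (.n (.n (.n (.n (.n (.c 10) (.c 6)) (.n (.c 2) (.c 8))) (.n (.n (.c 3) (.c 12)) (.n (.c 10) (.n (.c 10) (.c 9))))) (.n (.n (.n (.c 1) (.c 9)) (.n (.c 8) (.n (.c 5) .z))) (.n (.n (.c 10) (.c 1)) (.n (.c 11) (.n (.c 2) (.c 11)))))) (.n (.n (.n (.n (.c 1) (.c 11)) (.n (.c 11) (.n (.c 8) (.c 10)))) (.n (.n (.c 3) (.c 10)) (.n (.c 4) (.n (.c 5) (.c 8))))) (.n (.n (.n (.c 11) (.c 1)) (.n (.c 1) (.n .z (.c 2)))) (.n (.n (.c 4) (.c 7)) (.n (.c 1) (.n (.c 3) (.c 4))))))))))))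
  (.node (.node (.leaf (.n .z (.n (.n (.n (.n .z (.n .z (.c 1))) .z) .z) .z)))
  (.leaf (.n (.n .z (.n (.n (.n .z (.n .z (.n (.c 1) (.c 5)))) (.n (.n (.c 12) (.c 2)) (.n (.c 5) (.n (.c 2) (.c 3))))) (.n (.n (.n (.c 6) (.c 11)) (.n (.c 4) (.n (.c 3) (.c 11)))) (.n (.n (.c 9) .z) (.n (.c 2) (.n (.c 4) (.c 7))))))) (.n (.n (.n (.n (.n (.c 3) (.c 6)) (.n (.c 4) (.c 4))) (.n (.n (.c 6) (.c 2)) (.n (.c 6) (.n (.c 8) (.c 3))))) (.n (.n (.n (.c 2) (.c 5)) (.n (.c 3) (.n (.c 10) .z))) (.n (.n (.c 7) (.c 2)) (.n (.c 9) (.n (.c 4) (.c 9)))))) (.n (.n (.n (.n (.c 12) (.c 9)) (.n (.c 9) (.n (.c 3) (.c 7)))) (.n (.n (.c 6) (.c 7)) (.n (.c 8) (.n (.c 10) (.c 2))))) (.n (.n (.n (.c 9) (.c 2)) (.n (.c 2) (.n .z (.c 6)))) (.n (.n (.c 9) .z) (.n (.c 11) (.n .z (.c 10))))))))))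
  (.node (.leaf (.n .z (.n (.n (.n (.n (.n (.c 1) .z) .z) .z) .z) .z)))
  (.node (.leaf (.n .z (.n (.n (.n (.n (.n .z (.c 1)) .z) .z) .z) .z)))
  (.leaf (.n (.n .z (.n .z (.n .z (.n .z (.n .z (.n .z (.c 1))))))) .z)))))))))

/-- the rows of generator 5 -/
def rows5 : RT CT :=
  (.node (.node (.node (.node (.node (.node (.leaf (.n (.n (.n (.n (.n (.n (.c 12) .z) .z) .z) .z) .z) .z))
  (.leaf (.n (.n (.n (.n (.n (.n .z (.c 12)) .z) .z) .z) .z) .z)))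
  (.node (.leaf (.n (.n (.n (.n (.n .z (.n (.c 12) (.c 12))) .z) .z) .z) .z))
  (.leaf (.n (.n (.n (.n (.n .z (.n .z (.c 1))) .z) .z) .z) .z))))
  (.node (.node (.leaf (.n (.n (.n (.n (.n .z (.n .z (.c 12))) (.n (.n (.c 12) .z) .z)) .z) .z) .z))
  (.leaf (.n (.n (.n (.n .z (.n (.n .z (.c 12)) .z)) .z) .z) .z)))
  (.node (.leaf (.n (.n (.n (.n .z (.n .z (.n (.c 12) .z))) .z) .z) .z))
  (.node (.leaf (.n (.n (.n .z (.n (.n .z (.n (.c 1) .z)) .z)) .z) .z))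
  (.leaf (.n (.n (.n .z (.n .z (.n .z (.n .z (.n (.c 1) .z))))) .z) .z))))))
  (.node (.node (.node (.leaf (.n (.n .z (.n (.n (.n .z (.n (.c 1) .z)) .z) .z)) .z))
  (.leaf (.n (.n (.n (.n .z (.n .z (.n .z (.n (.c 12) (.c 12))))) (.n (.n (.n (.c 10) (.c 11)) (.n (.c 8) (.n (.c 8) (.c 8)))) (.n (.n (.c 4) (.c 11)) (.n (.c 11) (.n (.c 5) (.c 11)))))) (.n (.n (.n (.n .z (.c 8)) (.n (.c 1) .z)) .z) .z)) .z)))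
  (.node (.leaf (.n (.n (.n (.n .z (.n .z (.n .z (.n (.c 1) .z)))) .z) .z) .z))
  (.node (.leaf (.n (.n (.n (.n .z (.n .z (.n .z (.n (.c 7) (.c 2))))) (.n (.n (.n (.c 9) (.c 1)) (.n (.c 2) (.n (.c 8) (.c 7)))) (.n (.n .z (.c 1)) (.n (.c 8) (.n (.c 5) (.c 12)))))) (.n (.n (.n (.n (.c 2) (.c 9)) (.n (.c 7) .z)) .z) .z)) .z))
  (.leaf (.n (.n (.n (.n .z (.n .z (.n .z (.n (.c 6) (.c 1))))) (.n (.n (.n (.c 7) (.c 11)) (.n (.c 1) (.n (.c 6) (.c 10)))) (.n (.n (.c 11) (.c 5)) (.n (.c 7) (.n (.c 10) (.c 10)))))) (.n (.n (.n (.n (.c 8) (.c 6)) (.n (.c 10) .z)) .z) .z)) .z)))))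
  (.node (.node (.leaf (.n (.n (.n (.n .z (.n .z (.n .z (.n (.c 8) (.c 9))))) (.n (.n (.n (.c 12) (.c 7)) (.n (.c 7) (.n (.c 6) (.c 1)))) (.n (.n (.c 7) (.c 5)) (.n (.c 3) (.n (.c 9) .z))))) (.n (.n (.n (.n (.c 5) (.c 6)) (.n (.c 2) .z)) .z) .z)) .z))
  (.leaf (.n (.n (.n (.n .z (.n .z (.n .z (.n (.c 5) (.c 9))))) (.n (.n (.n (.c 1) (.c 7)) (.n (.c 1) (.n (.c 3) (.c 6)))) (.n (.n (.c 5) (.c 8)) (.n (.c 5) (.n (.c 12) (.c 12)))))) (.n (.n (.n (.n (.c 10) (.c 3)) (.n (.c 9) .z)) .z) .z)) .z)))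
  (.node (.leaf (.n (.n (.n (.n .z (.n .z (.n .z (.n (.c 7) (.c 7))))) (.n (.n (.n (.c 3) (.c 4)) (.n (.c 8) (.n (.c 5) (.c 6)))) (.n (.n (.c 8) (.c 2)) (.n (.c 4) (.n (.c 11) (.c 3)))))) (.n (.n (.n (.n (.c 12) (.c 5)) (.n (.c 12) .z)) .z) .z)) .z))
  (.node (.leaf (.n (.n (.n (.n .z (.n .z (.n .z (.n .z (.c 1))))) .z) .z) .z))
  (.leaf (.n (.n (.n (.n .z (.n .z (.n .z (.n .z (.c 5))))) (.n (.n (.n (.c 6) .z) (.n (.c 7) (.n (.c 7) (.c 10)))) (.n (.n (.c 7) (.c 8)) (.n (.c 4) (.n (.c 11) (.c 10)))))) (.n (.n (.n (.n (.c 10) (.c 7)) (.n (.c 3) .z)) .z) .z)) .z)))))))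
  (.node (.node (.node (.node (.leaf (.n (.n (.n (.n .z (.n .z (.n .z (.n .z (.c 12))))) (.n (.n (.n (.c 1) (.c 7)) (.n .z (.n (.c 7) (.c 8)))) (.n (.n (.c 9) (.c 8)) (.n (.c 11) (.n (.c 11) (.c 9)))))) (.n (.n (.n (.n (.c 11) (.c 7)) (.n (.c 11) .z)) .z) .z)) .z))
  (.leaf (.n (.n (.n (.n .z (.n .z (.n .z (.n (.c 1) (.c 5))))) (.n (.n (.n (.c 4) (.c 8)) (.n (.c 11) (.n (.c 5) (.c 3)))) (.n (.n (.c 11) (.c 2)) (.n (.c 9) (.n (.c 5) .z))))) (.n (.n (.n (.n (.c 2) (.c 4)) .z) .z) .z)) .z)))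
  (.node (.leaf (.n (.n (.n .z (.n (.n (.n (.c 1) .z) .z) .z)) .z) .z))
  (.node (.leaf (.n (.n .z (.n (.n .z (.n .z (.n (.c 1) .z))) .z)) .z))
  (.leaf (.n (.n .z (.n .z (.n (.n .z (.n .z (.n (.c 1) .z))) .z))) .z)))))
  (.node (.node (.leaf (.n (.n .z (.n .z (.n .z (.n .z (.n .z (.n .z (.c 1))))))) .z))
  (.leaf (.n .z (.n (.n (.n .z (.n (.n (.c 1) .z) .z)) .z) .z))))
  (.node (.leaf (.n (.n .z (.n (.n (.n .z (.n .z (.n (.c 1) .z))) .z) .z)) .z))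
  (.node (.leaf (.n .z (.n (.n .z (.n (.n .z (.n .z (.n (.c 1) .z))) .z)) .z)))
  (.leaf (.n .z (.n (.n .z (.n (.n (.n .z (.c 1)) .z) .z)) .z)))))))
  (.node (.node (.node (.leaf (.n .z (.n (.n .z (.n (.n .z (.n (.c 1) .z)) .z)) .z)))
  (.leaf (.n .z (.n .z (.n (.n (.n (.n .z (.c 1)) .z) .z) .z)))))
  (.node (.leaf (.n .z (.n .z (.n (.n .z (.n (.n .z (.c 1)) .z)) .z))))
  (.node (.leaf (.n (.n .z (.n (.n (.n .z (.n .z (.n .z (.c 1)))) .z) .z)) .z))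
  (.leaf (.n (.n .z (.n (.n .z (.n (.n .z (.c 7)) (.n .z (.n (.c 12) (.c 6))))) (.n (.n (.n (.c 9) .z) (.n (.c 7) (.n .z (.c 12)))) (.n (.n (.c 6) (.c 9)) .z)))) (.n (.n (.n .z (.n (.n (.c 7) .z) .z)) (.n (.n (.n .z (.c 6)) (.n (.c 9) (.n (.c 12) .z))) .z)) (.n (.n .z (.n (.n .z (.c 7)) .z)) (.n (.n (.n .z (.c 6)) (.n (.c 9) .z)) .z))))))))
  (.node (.node (.leaf (.n .z (.n .z (.n .z (.n (.n (.n .z (.c 1)) .z) .z)))))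
  (.leaf (.n .z (.n .z (.n .z (.n (.n .z (.n (.c 1) .z)) .z))))))
  (.node (.leaf (.n (.n .z (.n (.n (.n .z (.n .z (.n (.c 3) (.c 3)))) (.n (.n (.c 12) (.c 2)) (.n (.c 3) (.n .z (.c 12))))) (.n (.n (.n (.c 3) .z) (.n (.c 2) (.n (.c 3) .z))) (.n (.n (.c 12) (.c 3)) (.n (.c 12) (.n .z (.c 12))))))) (.n (.n (.n .z (.n (.n (.c 2) .z) .z)) (.n (.n (.n .z (.c 12)) (.n (.c 3) .z)) .z)) (.n (.n .z (.n (.n .z (.c 2)) .z)) (.n (.n (.n .z (.c 12)) (.n (.c 3) .z)) .z)))))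
  (.node (.leaf (.n .z (.n .z (.n .z (.n .z (.n (.n .z (.c 1)) .z))))))
  (.leaf (.n (.n .z (.n (.n .z (.n (.n (.c 1) .z) .z)) .z)) .z))))))))
  (.node (.node (.node (.node (.node (.leaf (.n (.n .z (.n (.n (.n .z (.n .z (.n (.c 1) (.c 6)))) (.n (.n (.c 2) (.c 7)) (.n (.c 9) (.n (.c 6) (.c 7))))) (.n (.n (.n (.c 10) (.c 11)) (.n (.c 11) (.n (.c 5) (.c 3)))) (.n (.n (.c 9) (.c 4)) (.n (.c 10) (.n (.c 1) (.c 8))))))) (.n (.n (.n (.n (.n (.c 8) (.c 8)) (.n (.c 12) (.c 2))) (.n (.n (.c 11) (.c 9)) (.n (.c 7) (.n (.c 2) (.c 10))))) (.n (.n (.n (.c 8) (.c 9)) (.n (.c 1) (.n (.c 11) (.c 8)))) (.n (.n (.c 11) (.c 2)) (.n (.c 7) (.n (.c 6) (.c 5)))))) (.n (.n (.n (.n (.c 10) (.c 4)) (.n (.c 7) (.n (.c 12) (.c 10)))) (.n (.n (.c 7) (.c 12)) (.n (.c 10) (.n (.c 11) (.c 6))))) (.n (.n (.n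 (.c 3) (.c 6)) (.n (.c 2) (.n (.c 4) (.c 7)))) (.n (.n .z (.c 11)) (.n (.c 4) (.n (.c 11) (.c 3)))))))))
  (.leaf (.n (.n .z (.n (.n (.n .z (.n .z (.n (.c 1) (.c 2)))) (.n (.n (.c 2) (.c 12)) (.n (.c 8) (.n .z (.c 11))))) (.n (.n (.n (.c 9) .z) (.n (.c 6) (.n (.c 2) (.c 9)))) (.n (.n (.c 1) (.c 12)) (.n (.c 8) (.n (.c 2) (.c 5))))))) (.n (.n (.n (.n (.n (.c 2) (.c 6)) (.n (.c 2) (.c 9))) (.n (.n (.c 2) .z) (.n (.c 5) (.n (.c 8) (.c 3))))) (.n (.n (.n (.c 5) (.c 7)) (.n (.c 9) (.n (.c 1) (.c 10)))) (.n (.n (.c 9) (.c 5)) (.n (.c 9) (.n (.c 9) (.c 11)))))) (.n (.n (.n (.n (.c 5) (.c 11)) (.n (.c 5) (.n (.c 1) (.c 4)))) (.n (.n (.c 3) (.c 9)) (.n (.c 3) (.n (.c 9) (.c 2))))) (.n (.n (.n (.c 9) (.c 7)) (.n (.c 6) (.n (.c 5) (.c 7)))) (.n (.n .z (.c 1)) (.n (.c 5) .z))))))))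
  (.node (.leaf (.n (.n .z (.n (.n (.n .z (.n .z (.n (.c 7) (.c 5)))) (.n (.n (.c 5) (.c 12)) (.n (.c 2) (.n (.c 8) (.c 10))))) (.n (.n (.n (.c 8) (.c 7)) (.n (.c 11) (.n (.c 8) (.c 8)))) (.n (.n (.c 5) (.c 2)) (.n (.c 10) (.n (.c 12) (.c 11))))))) (.n (.n (.n (.n (.n (.c 11) (.c 5)) (.n (.c 5) (.c 12))) (.n (.n (.c 8) (.c 6)) (.n (.c 11) (.n .z (.c 6))))) (.n (.n (.n (.c 9) (.c 7)) (.n (.c 12) (.n (.c 8) (.c 8)))) (.n (.n (.c 12) (.c 9)) (.n .z (.n (.c 11) .z))))) (.n (.n (.n (.n (.c 10) (.c 5)) (.n (.c 4) (.n (.c 7) .z))) (.n (.n (.c 4) (.c 4)) (.n (.c 11) (.n (.c 4) (.c 10))))) (.n (.n (.n (.c 1) .z) (.n (.c 5) (.n (.c 2) (.c 3)))) (.n (.n (.c 4) (.c 2)) (.n (.c 11) (.n (.c 7) .z))))))))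
  (.leaf (.n (.n .z (.n (.n (.n .z (.n .z (.n (.c 2) (.c 5)))) (.n (.n (.c 3) (.c 6)) (.n (.c 11) (.n (.c 9) (.c 8))))) (.n (.n (.n (.c 2) (.c 4)) (.n (.c 1) (.n (.c 10) (.c 9)))) (.n (.n (.c 4) (.c 12)) (.n (.c 8) (.n (.c 7) .z)))))) (.n (.n (.n (.n (.n (.c 1) (.c 4)) (.n (.c 10) (.c 6))) (.n (.n (.c 8) (.c 10)) (.n (.c 1) (.n .z (.c 10))))) (.n (.n (.n (.c 2) (.c 3)) (.n .z (.n (.c 9) (.c 9)))) (.n (.n (.c 7) (.c 2)) (.n .z (.n (.c 1) .z))))) (.n (.n (.n (.n (.c 8) (.c 5)) (.n (.c 11) (.n (.c 3) .z))) (.n (.n (.c 11) (.c 11)) (.n (.c 1) (.n (.c 11) (.c 8))))) (.n (.n (.n (.c 6) .z) (.n (.c 4) (.n (.c 12) (.c 5)))) (.n (.n (.c 11) (.c 12)) (.n (.c 1) (.n (.c 3) .z))))))))))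
  (.node (.node (.leaf (.n (.n .z (.n (.n .z (.n (.n .z (.c 1)) .z)) .z)) .z))
  (.leaf (.n (.n .z (.n (.n (.n .z (.n .z (.n (.c 9) (.c 4)))) (.n (.n (.c 10) (.c 7)) (.n (.c 12) (.n (.c 7) (.c 2))))) (.n (.n (.n (.c 3) (.c 8)) (.n (.c 8) (.n (.c 9) (.c 5)))) (.n (.n (.c 2) (.c 10)) (.n (.c 9) (.n (.c 12) (.c 4))))))) (.n (.n (.n (.n (.n (.c 5) (.c 12)) (.n (.c 8) (.c 7))) (.n (.n (.c 3) (.c 10)) (.n (.c 7) (.n (.c 11) (.c 6))))) (.n (.n (.n (.c 10) (.c 4)) (.n (.c 8) (.n (.c 3) (.c 2)))) (.n (.n (.c 4) (.c 3)) (.n (.c 6) (.n (.c 9) (.c 4)))))) (.n (.n (.n (.n (.c 9) (.c 1)) (.n (.c 3) (.n (.c 2) (.c 9)))) (.n (.n (.c 1) (.c 10)) (.n (.c 12) (.n (.c 6) (.c 12))))) (.n (.n (.n (.c 4) (.c 9)) (.n (.c 10) (.n .z (.c 12)))) (.n (.n (.c 7) (.c 4)) (.n (.c 7) (.n (.c 12) (.c 6))))))))))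
  (.node (.leaf (.n (.n .z (.n (.n (.n .z (.n .z (.n (.c 5) (.c 3)))) (.n (.n (.c 7) (.c 8)) (.n (.c 1) (.n .z (.c 6))))) (.n (.n (.n (.c 1) (.c 2)) (.n (.c 12) (.n (.c 4) (.c 4)))) (.n (.n (.c 8) (.c 12)) (.n (.c 7) (.n (.c 10) .z)))))) (.n (.n (.n (.n (.n (.c 4) (.c 8)) (.n (.c 9) (.c 1))) (.n (.n (.c 4) (.c 9)) (.n (.c 3) (.n .z (.c 11))))) (.n (.n (.n .z (.c 1)) (.n (.c 7) (.n (.c 6) (.c 3)))) (.n (.n (.c 11) .z) (.n .z (.n (.c 10) (.c 2)))))) (.n (.n (.n (.n (.c 7) (.c 7)) (.n (.c 12) (.n .z (.c 10)))) (.n (.n .z (.c 10)) (.n .z (.n (.c 2) (.c 1))))) (.n (.n (.n (.c 4) (.c 1)) (.n (.c 3) .z)) (.n (.n (.c 7) (.c 12)) (.n (.c 12) (.n (.c 2) (.c 2)))))))))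
  (.node (.leaf (.n (.n .z (.n (.n (.n .z (.n .z (.n (.c 5) (.c 5)))) (.n (.n (.c 6) (.c 6)) (.n (.c 4) (.n (.c 5) (.c 8))))) (.n (.n (.n (.c 2) (.c 9)) (.n (.c 7) (.n (.c 8) (.c 2)))) (.n (.n (.c 2) .z) (.n (.c 5) (.n (.c 6) .z)))))) (.n (.n (.n (.n (.n (.c 12) (.c 9)) (.n (.c 11) (.c 6))) (.n (.n (.c 12) (.c 5)) (.n (.c 8) (.n (.c 10) (.c 10))))) (.n (.n (.n (.c 4) (.c 1)) (.n (.c 1) (.n (.c 9) (.c 7)))) (.n (.n (.c 12) (.c 4)) (.n (.c 1) (.n (.c 8) (.c 3)))))) (.n (.n (.n (.n (.c 9) (.c 7)) (.n (.c 2) (.n (.c 6) (.c 5)))) (.n (.n (.c 7) (.c 4)) (.n (.c 10) (.n (.c 8) (.c 12))))) (.n (.n (.n (.c 12) (.c 4)) (.n (.c 5) (.n (.c 1) .z))) (.n (.n (.c 10) (.c 4)) (.n (.c 5) (.n (.c 12) (.c 9)))))))))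
  (.leaf (.n (.n .z (.n (.n (.n .z (.n .z (.n (.c 5) (.c 4)))) (.n (.n .z (.c 11)) (.n (.c 3) (.n (.c 12) (.c 5))))) (.n (.n (.n (.c 10) (.c 1)) (.n (.c 11) (.n (.c 5) (.c 1)))) (.n (.n (.c 2) .z) (.n (.c 12) (.n (.c 4) (.c 9))))))) (.n (.n (.n (.n (.n (.c 5) (.c 10)) (.n (.c 11) (.c 11))) (.n (.n (.c 9) (.c 12)) (.n (.c 10) (.n (.c 9) (.c 4))))) (.n (.n (.n (.c 12) (.c 4)) (.n (.c 5) (.n (.c 8) .z))) (.n (.n (.c 3) (.c 12)) (.n (.c 2) (.n (.c 11) (.c 2)))))) (.n (.n (.n (.n (.c 7) (.c 2)) (.n (.c 2) (.n (.c 5) (.c 3)))) (.n (.n (.c 10) (.c 3)) (.n (.c 9) (.n (.c 8) (.c 12))))) (.n (.n (.n (.c 2) (.c 12)) (.n (.c 12) (.n .z (.c 10)))) (.n (.n (.c 2) (.c 6)) (.n (.c 1) (.n .z (.c 1)))))))))))))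
  (.node (.node (.node (.leaf (.n (.n .z (.n (.n (.n .z (.n .z (.n (.c 3) (.c 6)))) (.n (.n (.c 7) (.c 4)) (.n (.c 3) (.n (.c 2) (.c 8))))) (.n (.n (.n (.c 10) (.c 12)) (.n (.c 7) (.n (.c 2) (.c 8)))) (.n (.n (.c 8) (.c 7)) (.n .z (.n (.c 9) (.c 8))))))) (.n (.n (.n (.n (.n (.c 3) (.c 11)) (.n (.c 11) (.c 9))) (.n (.n (.c 6) (.c 12)) (.n (.c 8) (.n (.c 1) (.c 7))))) (.n (.n (.n (.c 2) (.c 8)) (.n (.c 6) (.n (.c 10) (.c 10)))) (.n (.n (.c 1) (.c 6)) (.n (.c 2) (.n (.c 10) (.c 8)))))) (.n (.n (.n (.n (.c 9) (.c 8)) (.n (.c 6) (.n (.c 11) (.c 12)))) (.n (.n (.c 11) (.c 12)) (.n (.c 10) (.n (.c 2) .z)))) (.n (.n (.n (.c 1) .z) (.n (.c 12) (.n (.c 11) (.c 11)))) (.n (.n (.c 10) (.c 8)) (.n (.c 8) (.n (.c 6) (.c 3)))))))))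
  (.leaf (.n (.n .z (.n (.n .z (.n .z (.n .z (.n .z (.c 1))))) .z)) .z)))
  (.node (.leaf (.n (.n .z (.n .z (.n (.n (.n (.c 1) .z) .z) .z))) .z))
  (.node (.leaf (.n (.n .z (.n (.n .z (.n .z (.n .z (.n (.c 1) .z)))) .z)) .z))
  (.leaf (.n (.n .z (.n (.n (.n .z (.n .z (.n (.c 4) (.c 1)))) (.n (.n (.c 1) (.c 5)) (.n (.c 9) (.n (.c 12) (.c 6))))) (.n (.n (.n (.c 2) (.c 4)) (.n (.c 11) (.n (.c 3) (.c 8)))) (.n (.n (.c 11) (.c 11)) (.n (.c 1) (.n (.c 7) .z)))))) (.n (.n (.n (.n (.n (.c 8) (.c 3)) (.n (.c 5) (.c 2))) (.n (.n (.c 10) (.c 5)) (.n (.c 8) (.n .z (.c 9))))) (.n (.n (.n .z (.c 9)) (.n (.c 1) (.n (.c 11) (.c 5)))) (.n (.n (.c 9) .z) (.n .z (.n (.c 7) (.c 4)))))) (.n (.n (.n (.n (.c 1) (.c 1)) (.n (.c 11) (.n .z (.c 7)))) (.n (.n .z (.c 7)) (.n .z (.n (.c 4) (.c 2))))) (.n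 (.n (.n (.c 8) (.c 10)) (.n (.c 6) .z)) (.n (.n (.c 1) (.c 11)) (.n (.c 11) (.n (.c 4) (.c 4))))))))))))
  (.node (.node (.leaf (.n (.n .z (.n (.n (.n .z (.n .z (.n (.c 10) (.c 1)))) (.n (.n (.c 2) .z) (.n (.c 2) (.n (.c 1) .z)))) (.n (.n (.n (.c 8) (.c 10)) (.n (.c 10) (.n (.c 2) (.c 10)))) (.n (.n (.c 1) (.c 1)) (.n (.c 8) (.n (.c 7) (.c 10))))))) (.n (.n (.n (.n (.n (.c 1) (.c 4)) (.n (.c 6) (.c 7))) (.n (.n (.c 11) (.c 9)) (.n (.c 3) (.n (.c 1) .z)))) (.n (.n (.n (.c 12) (.c 1)) (.n (.c 1) (.n (.c 12) (.c 1)))) (.n (.n (.c 3) (.c 12)) (.n (.c 6) (.n (.c 3) (.c 5)))))) (.n (.n (.n (.n (.c 6) (.c 5)) (.n (.c 11) (.n (.c 5) (.c 4)))) (.n (.n (.c 2) (.c 10)) (.n (.c 2) (.n (.c 8) (.c 11))))) (.n (.n (.n (.c 10) (.c 11)) (.n (.c 1) (.n (.c 12) (.c 9)))) (.n (.n (.c 7) (.c 4))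 (.n (.c 11) (.n (.c 2) (.c 2)))))))))
  (.leaf (.n (.n .z (.n (.n (.n .z (.n .z (.n (.c 6) (.c 2)))) (.n (.n (.c 11) (.c 9)) (.n (.c 10) (.n (.c 2) (.c 11))))) (.n (.n (.n .z (.c 9)) (.n (.c 12) (.n (.c 2) (.c 7)))) (.n (.n (.c 4) (.c 5)) (.n (.c 5) (.n (.c 10) (.c 1))))))) (.n (.n (.n (.n (.n (.c 8) (.c 2)) (.n (.c 2) (.c 12))) (.n (.n (.c 10) (.c 9)) (.n (.c 4) (.n (.c 4) (.c 11))))) (.n (.n (.n (.c 9) .z) (.n (.c 2) (.n (.c 12) (.c 4)))) (.n (.n (.c 4) (.c 9)) (.n (.c 1) (.n (.c 2) (.c 10)))))) (.n (.n (.n (.n (.c 5) (.c 11)) (.n (.c 8) (.n (.c 7) (.c 7)))) (.n (.n (.c 8) (.c 5)) (.n (.c 10) (.n (.c 3) (.c 10))))) (.n (.n (.n (.c 11) (.c 12)) (.n (.c 3) (.n (.c 5) (.c 3)))) (.n (.n (.c 7) (.c 6)) (.n (.c 11) (.n (.c 5) (.c 6))))))))))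
  (.node (.leaf (.n (.n .z (.n (.n (.n .z (.n .z (.n (.c 2) (.c 12)))) (.n (.n (.c 6) (.c 9)) (.n (.c 2) (.n (.c 1) .z)))) (.n (.n (.n (.c 11) (.c 3)) (.n (.c 6) (.n (.c 2) (.c 7)))) (.n (.n (.c 11) .z) (.n (.c 7) (.n (.c 11) (.c 10))))))) (.n (.n (.n (.n (.n (.c 9) (.c 10)) (.n (.c 9) (.c 11))) (.n (.n (.c 11) (.c 8)) (.n (.c 4) (.n (.c 4) (.c 11))))) (.n (.n (.n (.c 6) (.c 5)) (.n (.c 12) (.n (.c 6) (.c 10)))) (.n (.n (.c 12) (.c 6)) (.n (.c 10) (.n (.c 4) (.c 7)))))) (.n (.n (.n (.n (.c 12) (.c 1)) (.n (.c 8) (.n (.c 9) (.c 3)))) (.n (.n (.c 11) (.c 4)) (.n .z (.n (.c 9) (.c 6))))) (.n (.n (.n (.c 5) (.c 5)) (.n (.c 12) (.n (.c 4) (.c 9)))) (.n (.n (.c 5) (.c 11)) (.n (.c 10) (.n (.c 10) (.c 8)))))))))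
  (.node (.leaf (.n (.n .z (.n (.n (.n .z (.n .z (.n (.c 12) (.c 2)))) (.n (.n (.c 8) (.c 12)) (.n (.c 12) (.n .z (.c 9))))) (.n (.n (.n (.c 4) (.c 11)) (.n (.c 5) (.n (.c 1) (.c 2)))) (.n (.n (.c 5) (.c 9)) (.n (.c 7) (.n .z (.c 4))))))) (.n (.n (.n (.n (.n (.c 6) (.c 1)) (.n (.c 1) (.c 5))) (.n (.n (.c 5) (.c 4)) (.n (.c 8) (.n (.c 1) (.c 4))))) (.n (.n (.n (.c 12) (.c 7)) (.n (.c 11) (.n (.c 12) (.c 8)))) (.n (.n (.c 8) (.c 12)) (.n (.c 6) (.n (.c 8) (.c 1)))))) (.n (.n (.n (.n (.c 5) (.c 9)) (.n .z (.n (.c 5) (.c 10)))) (.n (.n (.c 2) (.c 9)) (.n (.c 2) (.n (.c 4) (.c 9))))) (.n (.n (.n (.c 2) (.c 3)) (.n (.c 1) (.n (.c 12) (.c 9)))) (.n (.n (.c 6) (.c 6)) (.n .z (.n (.c 11) (.c 11)))))))))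
  (.leaf (.n (.n .z (.n (.n (.n .z (.n .z (.n (.c 9) (.c 9)))) (.n (.n .z (.c 11)) (.n (.c 9) (.n .z (.c 1))))) (.n (.n (.n (.c 10) (.c 12)) (.n (.c 11) (.n (.c 9) .z))) (.n (.n (.c 1) (.c 10)) .z)))) (.n (.n (.n .z (.n (.n (.c 11) .z) .z)) (.n (.n (.n .z (.c 1)) (.n (.c 10) .z)) (.n .z (.n .z (.n .z (.c 12)))))) (.n (.n (.n (.n .z (.c 12)) .z) (.n (.n .z (.c 11)) .z)) (.n (.n (.n .z (.c 1)) (.n (.c 10) .z)) .z))))))))))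
  (.node (.node (.node (.node (.leaf (.n (.n .z (.n (.n (.n .z (.n .z (.n (.c 3) (.c 7)))) (.n (.n (.c 11) (.c 1)) (.n (.c 5) (.n (.c 12) (.c 12))))) (.n (.n (.n (.c 5) (.c 1)) (.n (.c 2) (.n .z (.c 11)))) (.n (.n (.c 5) (.c 4)) (.n (.c 9) (.n (.c 3) .z)))))) (.n (.n (.n (.n (.n (.c 3) (.c 7)) (.n (.c 1) (.c 11))) (.n (.n (.c 6) (.c 11)) (.n (.c 1) (.n (.c 5) (.c 1))))) (.n (.n (.n (.c 8) (.c 3)) (.n (.c 4) (.n (.c 11) (.c 7)))) (.n (.n (.c 11) (.c 9)) (.n (.c 7) (.n (.c 3) (.c 12)))))) (.n (.n (.n (.n (.c 6) (.c 10)) (.n (.c 1) (.n (.c 12) (.c 9)))) (.n (.n (.c 10) (.c 11)) (.n (.c 12) (.n (.c 8) .z)))) (.n (.n (.n (.c 2) (.c 1)) (.n (.c 9) (.n (.c 4) (.c 12)))) (.n (.n (.c 10) (.c 6)) (.n (.c 4) (.n (.c 4) (.c 5)))))))))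
  (.leaf (.n (.n .z (.n .z (.n (.n (.n .z (.c 1)) .z) .z))) .z)))
  (.node (.leaf (.n (.n .z (.n (.n (.n .z (.n .z (.n (.c 9) (.c 5)))) (.n (.n (.c 8) (.c 12)) (.n (.c 4) (.n .z (.c 3))))) (.n (.n (.n (.c 9) (.c 8)) (.n (.c 4) (.n (.c 11) (.c 2)))) (.n (.n (.c 9) (.c 11)) (.n (.c 10) (.n (.c 4) (.c 1))))))) (.n (.n (.n (.n (.n (.c 6) (.c 6)) (.n (.c 8) .z)) (.n (.n (.c 2) (.c 7)) (.n (.c 1) (.n (.c 5) (.c 3))))) (.n (.n (.n .z (.c 6)) (.n .z (.n (.c 6) (.c 8)))) (.n (.n (.c 3) (.c 11)) (.n (.c 11) (.n (.c 5) (.c 6)))))) (.n (.n (.n (.n (.c 10) .z) (.n (.c 4) (.n .z (.c 12)))) (.n (.n (.c 5) (.c 4)) (.n (.c 2) (.n (.c 2) .z)))) (.n (.n (.n (.c 6) (.c 9)) (.n (.c 8) (.n (.c 7) .z))) (.n (.n (.c 7) (.c 5)) (.n .z (.n (.c 4) (.c 1)))))))))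
  (.node (.leaf (.n (.n .z (.n (.n (.n .z (.n .z (.n (.c 10) (.c 6)))) (.n (.n (.c 9) (.c 7)) (.n (.c 10) (.n .z (.c 5))))) (.n (.n (.n (.c 4) .z) (.n (.c 4) (.n .z (.c 12)))) (.n (.n (.c 11) (.c 2)) (.n (.c 3) (.n .z (.c 11))))))) (.n (.n (.n (.n (.n (.c 10) (.c 6)) (.n (.c 6) (.c 4))) (.n (.n (.c 4) (.c 11)) (.n (.c 9) (.n (.c 6) (.c 11))))) (.n (.n (.n (.c 7) (.c 6)) (.n (.c 7) (.n (.c 7) (.c 9)))) (.n (.n (.c 9) (.c 7)) (.n (.c 10) (.n (.c 2) (.c 6)))))) (.n (.n (.n (.n (.c 4) (.c 1)) (.n .z (.n (.c 3) (.c 8)))) (.n (.n (.c 12) (.c 2)) (.n (.c 12) (.n (.c 11) (.c 2))))) (.n (.n (.n (.c 12) (.c 12)) (.n (.c 6) (.n (.c 7) (.c 2)))) (.n (.n (.c 10) (.c 10)) (.n .z (.n (.c 1) (.c 1)))))))))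
  (.leaf (.n (.n .z (.n (.n (.n .z (.n .z (.n .z (.c 12)))) .z) (.n (.n (.n .z (.c 12)) (.n .z (.n (.c 12) .z))) (.n (.n .z (.c 12)) .z)))) (.n .z (.n (.n (.n (.n .z (.c 12)) (.n .z (.n .z (.c 12)))) .z) (.n (.n .z (.n (.c 12) .z)) .z))))))))
  (.node (.node (.leaf (.n (.n .z (.n (.n (.n .z (.n .z (.n (.c 2) (.c 3)))) (.n (.n (.c 10) (.c 4)) (.n (.c 3) (.n (.c 8) (.c 6))))) (.n (.n (.n (.c 12) (.c 5)) (.n (.c 2) (.n (.c 7) (.c 10)))) (.n (.n (.c 10) (.c 9)) (.n (.c 11) (.n (.c 7) (.c 1))))))) (.n (.n (.n (.n (.n (.c 4) (.c 4)) (.n (.c 1) .z)) (.n (.n (.c 6) (.c 9)) (.n (.c 5) (.n (.c 12) (.c 2))))) (.n (.n (.n .z (.c 8)) (.n (.c 6) (.n (.c 12) (.c 1)))) (.n (.n (.c 2) (.c 3)) (.n (.c 3) (.n (.c 12) (.c 4)))))) (.n (.n (.n (.n (.c 11) (.c 4)) (.n (.c 12) (.n .z (.c 8)))) (.n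 (.n (.c 11) (.c 2)) (.n (.c 10) (.n (.c 10) .z)))) (.n (.n (.n (.c 4) (.c 10)) (.n (.c 7) (.n (.c 9) .z))) (.n (.n (.c 9) (.c 12)) (.n .z (.n (.c 7) (.c 5)))))))))
  (.leaf (.n (.n .z (.n .z (.n (.n .z (.n (.c 1) .z)) .z))) .z)))
  (.node (.leaf (.n (.n .z (.n (.n (.n .z (.n .z (.n (.c 11) .z))) (.n (.n (.c 6) (.c 4)) (.n (.c 2) (.n .z (.c 10))))) (.n (.n (.n (.c 12) (.c 11)) (.n .z (.n (.c 12) (.c 9)))) (.n (.n (.c 8) (.c 1)) (.n (.c 6) (.n (.c 3) .z)))))) (.n (.n (.n (.n (.n (.c 9) (.c 5)) (.n (.c 4) (.c 12))) (.n (.n (.c 8) (.c 4)) (.n (.c 9) (.n .z (.c 2))))) (.n (.n (.n .z (.c 2)) (.n (.c 6) (.n (.c 7) (.c 10)))) (.n (.n (.c 2) .z) (.n .z (.n (.c 3) (.c 11)))))) (.n (.n (.n (.n (.c 6) (.c 6)) (.n (.c 1) (.n .z (.c 3)))) (.n (.n .z (.c 2)) (.n (.c 12) (.n (.c 11) (.c 12)))))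 (.n (.n (.n (.c 9) (.c 2)) (.n (.c 10) .z)) (.n (.n (.c 6) (.c 1)) (.n (.c 1) (.n (.c 11) (.c 11)))))))))
  (.node (.leaf (.n (.n .z (.n (.n (.n .z (.n .z (.n (.c 6) (.c 6)))) (.n (.n (.c 7) (.c 6)) (.n (.c 7) (.n (.c 8) (.c 5))))) (.n (.n (.n (.c 9) (.c 4)) (.n (.c 5) (.n (.c 3) (.c 11)))) (.n (.n (.c 11) (.c 11)) (.n (.c 8) (.n (.c 7) .z)))))) (.n (.n (.n (.n (.n (.c 1) (.c 4)) (.n (.c 2) (.c 7))) (.n (.n .z (.c 8)) (.n (.c 5) (.n (.c 2) (.c 3))))) (.n (.n (.n (.c 9) (.c 12)) (.n (.c 10) (.n (.c 4) (.c 6)))) (.n (.n (.c 1) (.c 9)) (.n (.c 12) (.n (.c 5) (.c 10)))))) (.n (.n (.n (.n (.c 4) (.c 6)) (.n (.c 11) (.n (.c 7) (.c 8)))) (.n (.n (.c 6) (.c 8)) (.n (.c 3) (.n (.c 4) (.c 1))))) (.n (.n (.n (.c 1) (.c 9)) (.n (.c 6) (.n (.c 12) .z))) (.n (.n (.c 3) (.c 9)) (.n (.c 8)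 (.n (.c 1) (.c 4)))))))))
  (.leaf (.n (.n .z (.n (.n (.n .z (.n .z (.n (.c 7) (.c 8)))) (.n (.n .z (.c 1)) (.n (.c 9) (.n (.c 1) (.c 8))))) (.n (.n (.n (.c 3) (.c 12)) (.n (.c 1) (.n (.c 7) (.c 12)))) (.n (.n (.c 11) .z) (.n (.c 1) (.n (.c 9) (.c 4))))))) (.n (.n (.n (.n (.n (.c 8) (.c 3)) (.n (.c 2) (.c 2))) (.n (.n (.c 3) (.c 1)) (.n (.c 3) (.n (.c 4) (.c 8))))) (.n (.n (.n (.c 1) (.c 9)) (.n (.c 8) (.n (.c 5) .z))) (.n (.n (.c 10) (.c 1)) (.n (.c 11) (.n (.c 2) (.c 11)))))) (.n (.n (.n (.n (.c 6) (.c 11)) (.n (.c 11) (.n (.c 8) (.c 10)))) (.n (.n (.c 3) (.c 9)) (.n (.c 4) (.n (.c 5) .z)))) (.n (.n (.n (.c 11) (.c 1)) (.n (.c 1) (.n .z (.c 3)))) (.n (.n (.c 11) (.c 7)) (.n (.c 12) (.n .z (.c 12)))))))))))))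
  (.node (.node (.node (.leaf (.n (.n .z (.n (.n (.n .z (.n .z (.n (.c 9) (.c 6)))) (.n (.n (.c 6) (.c 2)) (.n (.c 9) (.n (.c 11) (.c 12))))) (.n (.n (.n (.c 7) (.c 1)) (.n (.c 12) (.n (.c 10) (.c 5)))) (.n (.n (.c 12) (.c 10)) (.n .z (.n (.c 4) (.c 5))))))) (.n (.n (.n (.n (.n (.c 10) (.c 2)) (.n (.c 2) (.c 4))) (.n (.n .z (.c 1)) (.n (.c 5) (.n (.c 12) (.c 6))))) (.n (.n (.n (.c 10) (.c 12)) (.n (.c 11) (.n (.c 3) (.c 3)))) (.n (.n (.c 12) (.c 7)) (.n (.c 11) (.n (.c 3) (.c 5)))))) (.n (.n (.n (.n (.c 4) (.c 5)) (.n (.c 7) (.n (.c 2) (.c 1)))) (.n (.n (.c 2) (.c 7)) (.n (.c 3) (.n (.c 11) .z)))) (.n (.n (.n (.c 11) (.c 7)) (.n (.c 5) (.n (.c 2) (.c 2)))) (.n (.n (.c 3) (.c 5)) (.n (.c 5) (.n (.c 7) (.c 10)))))))))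
  (.leaf (.n (.n .z (.n .z (.n .z (.n (.n (.c 1) .z) .z)))) .z)))
  (.node (.leaf (.n (.n .z (.n .z (.n .z (.n (.n .z (.c 1)) .z)))) .z))
  (.node (.leaf (.n (.n .z (.n (.n (.n .z (.n .z (.n (.c 4) (.c 7)))) (.n (.n (.c 12) (.c 1)) (.n (.c 12) (.n (.c 1) (.c 9))))) (.n (.n (.n (.c 2) (.c 9)) (.n (.c 8) (.n (.c 5) (.c 5)))) (.n (.n (.c 4) (.c 6)) (.n (.c 12) (.n (.c 6) .z)))))) (.n (.n (.n (.n (.n (.c 5) (.c 10)) (.n (.c 8) (.c 11))) (.n (.n (.c 9) (.c 8)) (.n (.c 5) (.n .z (.c 4))))) (.n (.n (.n .z (.c 6)) (.n (.c 3) (.n (.c 2) (.c 7)))) (.n (.n (.c 4) .z) (.n .z (.n (.c 6) (.c 9)))))) (.n (.n (.n (.n (.c 12) (.c 12)) (.n (.c 2) (.n .z (.c 6)))) (.n (.n .z (.c 12)) (.n .z (.n (.c 9) (.c 11))))) (.n (.n (.n (.c 5) (.c 5)) (.n (.c 11) (.n (.c 12) .z))) (.n (.n (.c 12) (.c 2))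 (.n (.c 2) (.n (.c 9) (.c 9)))))))))
  (.leaf (.n (.n .z (.n (.n (.n .z (.n .z (.n .z (.c 4)))) (.n (.n (.c 7) (.c 10)) (.n (.c 1) (.n (.c 4) (.c 7))))) (.n (.n (.n (.c 3) (.c 5)) (.n (.c 3) (.n (.c 5) (.c 3)))) (.n (.n (.c 12) (.c 4)) (.n (.c 11) (.n (.c 2) (.c 11))))))) (.n (.n (.n (.n (.n (.c 9) (.c 3)) (.n (.c 12) (.c 12))) (.n (.n (.c 5) (.c 8)) (.n (.c 2) (.n (.c 7) (.c 5))))) (.n (.n (.n (.c 9) (.c 3)) (.n (.c 10) (.n (.c 2) (.c 1)))) (.n (.n (.c 11) (.c 1)) (.n (.c 5) (.n (.c 5) (.c 11)))))) (.n (.n (.n (.n (.c 11) (.c 10)) (.n (.c 11) (.n (.c 7) (.c 9)))) (.n (.n (.c 11) (.c 9)) (.n (.c 6) (.n (.c 12) (.c 10))))) (.n (.n (.n (.c 12) (.c 7)) (.n (.c 8) (.n (.c 4) (.c 2)))) (.n (.n (.c 6) (.c 9)) (.n (.c 11) (.n (.c 10) (.c 4))))))))))))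
  (.node (.node (.leaf (.n (.n .z (.n (.n (.n .z (.n .z (.n (.c 5) (.c 2)))) (.n (.n (.c 8) (.c 8)) (.n .z (.n (.c 2) (.c 5))))) (.n (.n (.n (.c 2) (.c 9)) (.n (.c 11) (.n (.c 7) (.c 4)))) (.n (.n (.c 3) (.c 1)) (.n (.c 10) (.n (.c 10) (.c 1))))))) (.n (.n (.n (.n (.n (.c 12) (.c 10)) (.n (.c 3) (.c 4))) (.n (.n .z (.c 11)) (.n .z (.n (.c 12) (.c 4))))) (.n (.n (.n (.c 3) (.c 6)) (.n (.c 6) (.n (.c 6) (.c 8)))) (.n (.n (.c 6) (.c 6)) (.n (.c 3) (.n (.c 7) (.c 4)))))) (.n (.n (.n (.n (.c 10) (.c 3)) (.n (.c 9) (.n (.c 11) (.c 8)))) (.n (.n (.c 9) .z) (.n (.c 5) (.n (.c 7) (.c 12))))) (.n (.n (.n .z (.c 10)) (.n .z (.n (.c 1) (.c 1)))) (.n (.n (.c 5) (.c 3)) (.n (.c 8) (.n (.c 5) (.c 5)))))))))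
  (.leaf (.n (.n .z (.n .z (.n .z (.n .z (.n .z (.n (.c 1) .z)))))) .z)))
  (.node (.leaf (.n (.n .z (.n (.n (.n .z (.n .z (.n (.c 3) (.c 8)))) (.n (.n (.c 5) (.c 6)) (.n (.c 5) (.n (.c 5) (.c 11))))) (.n (.n (.n (.c 8) (.c 10)) (.n (.c 12) (.n (.c 12) (.c 2)))) (.n (.n (.c 8) (.c 7)) (.n (.c 3) (.n (.c 3) (.c 12))))))) (.n (.n (.n (.n (.n (.c 8) (.c 6)) (.n (.c 3) (.c 9))) (.n (.n (.c 4) (.c 9)) (.n (.c 12) (.n (.c 4) (.c 7))))) (.n (.n (.n (.c 7) (.c 5)) (.n (.c 4) (.n (.c 2) (.c 1)))) (.n (.n (.c 1) (.c 3)) (.n (.c 12) (.n (.c 6) (.c 12)))))) (.n (.n (.n (.n (.c 2) (.c 2)) (.n (.c 6) (.n (.c 4) (.c 7)))) (.n (.n (.c 10) .z) (.n (.c 12) (.n (.c 11) (.c 5))))) (.n (.n (.n (.c 2) (.c 10)) (.n (.c 5) (.n .z (.c 7)))) (.n (.n (.c 11) (.c 10)) (.n (.c 3) (.n (.c 8) (.c 7)))))))))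
  (.node (.leaf (.n (.n .z (.n (.n (.n .z (.n .z (.n .z (.c 7)))) (.n (.n (.c 9) (.c 11)) (.n (.c 2) (.n .z (.c 7))))) (.n (.n (.n .z (.c 4)) (.n (.c 1) (.n (.c 9) (.c 6)))) (.n (.n (.c 10) (.c 4)) (.n (.c 5) (.n (.c 7) (.c 3))))))) (.n (.n (.n (.n (.n (.c 9) .z) (.n (.c 6) .z)) (.n (.n (.c 11) (.c 5)) (.n (.c 4) (.n (.c 4) (.c 4))))) (.n (.n (.n (.c 9) (.c 8)) (.n (.c 12) (.n (.c 6) (.c 11)))) (.n (.n (.c 7) (.c 9)) (.n (.c 11) (.n (.c 5) (.c 3)))))) (.n (.n (.n (.n (.c 10) .z) (.n (.c 7) (.n (.c 7) (.c 9)))) (.n (.n (.c 8) (.c 5)) (.n (.c 8) (.n (.c 2) (.c 3))))) (.n (.n (.n (.c 6) (.c 12)) (.n (.c 9) (.n (.c 9) (.c 10)))) (.n (.n (.c 1) (.c 4)) (.n (.c 7) (.n (.c 3) (.c 4)))))))))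
  (.leaf (.n (.n .z (.n (.n (.n .z (.n .z (.n (.c 1) (.c 5)))) (.n (.n (.c 12) (.c 2)) (.n (.c 5) (.n (.c 2) (.c 3))))) (.n (.n (.n (.c 6) (.c 11)) (.n (.c 4) (.n (.c 3) (.c 11)))) (.n (.n (.c 9) .z) (.n (.c 2) (.n (.c 4) (.c 7))))))) (.n (.n (.n (.n (.n (.c 3) (.c 6)) (.n (.c 4) (.c 4))) (.n (.n (.c 6) (.c 2)) (.n (.c 6) (.n (.c 8) (.c 3))))) (.n (.n (.n (.c 2) (.c 5)) (.n (.c 3) (.n (.c 10) .z))) (.n (.n (.c 7) (.c 2)) (.n (.c 9) (.n (.c 4) (.c 9)))))) (.n (.n (.n (.n (.c 12) (.c 9)) (.n (.c 9) (.n (.c 3) (.c 7)))) (.n (.n (.c 6) (.c 7)) (.n (.c 8) (.n (.c 10) (.c 2))))) (.n (.n (.n (.c 9) (.c 2)) (.n (.c 2) (.n .z (.c 6)))) (.n (.n (.c 9) .z) (.n (.c 11) (.n .z (.c 10))))))))))))))))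

/-- the rows of generator 6 -/
def rows6 : RT CT :=
  (.node (.node (.node (.node (.node (.node (.leaf (.n (.n (.n (.n (.n (.n (.c 12) .z) .z) .z) .z) .z) .z))
  (.leaf (.n (.n (.n (.n (.n (.n .z (.c 12)) .z) .z) .z) .z) .z)))
  (.node (.leaf (.n (.n (.n (.n (.n .z (.n (.c 12) .z)) .z) .z) .z) .z))
  (.leaf (.n (.n (.n (.n (.n .z (.n .z (.c 12))) (.n (.n (.c 12) .z) .z)) .z) .z) .z))))
  (.node (.node (.leaf (.n (.n (.n (.n .z (.n (.n (.c 1) .z) .z)) .z) .z) .z))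
  (.leaf (.n (.n (.n (.n .z (.n (.n .z (.c 12)) .z)) .z) .z) .z)))
  (.node (.leaf (.n (.n (.n (.n .z (.n .z (.n (.c 12) .z))) .z) .z) .z))
  (.node (.leaf (.n (.n (.n .z (.n (.n .z (.n .z (.n (.c 1) .z))) .z)) .z) .z))
  (.leaf (.n (.n (.n .z (.n (.n (.n .z (.c 1)) (.n .z (.n (.c 12) .z))) (.n .z (.n (.c 1) .z)))) .z) .z))))))
  (.node (.node (.node (.leaf (.n (.n (.n (.n .z (.n .z (.n .z (.n (.c 2) (.c 9))))) (.n (.n (.n (.c 11) (.c 5)) (.n (.c 1) (.n (.c 1) (.c 6)))) (.n (.n (.c 5) (.c 4)) (.n (.c 8) (.n (.c 10) (.c 1)))))) (.n (.n (.n (.n (.c 12) (.c 6)) (.n (.c 4) .z)) .z) .z)) .z))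
  (.leaf (.n (.n (.n (.n .z (.n .z (.n .z (.n .z (.c 1))))) (.n (.n .z (.n .z (.n (.c 12) .z))) (.n .z (.n (.c 1) .z)))) .z) .z)))
  (.node (.leaf (.n (.n (.n (.n .z (.n .z (.n .z (.n (.c 9) (.c 10))))) (.n (.n (.n (.c 7) (.c 8)) (.n (.c 4) (.n (.c 10) (.c 12)))) (.n (.n (.c 2) (.c 10)) (.n (.c 1) (.n (.c 12) (.c 9)))))) (.n (.n (.n (.n (.c 4) (.c 6)) (.n (.c 1) .z)) .z) .z)) .z))
  (.node (.leaf (.n (.n (.n (.n .z (.n .z (.n .z (.n (.c 1) .z)))) .z) .z) .z))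
  (.leaf (.n (.n (.n (.n .z (.n .z (.n .z (.n (.c 4) (.c 6))))) (.n (.n (.n (.c 7) (.c 3)) (.n (.c 8) (.n (.c 12) (.c 2)))) (.n (.n (.c 8) (.c 2)) (.n (.c 4) (.n (.c 3) (.c 8)))))) (.n (.n (.n (.n (.c 2) .z) (.n (.c 12) .z)) .z) .z)) .z)))))
  (.node (.node (.leaf (.n (.n (.n (.n .z (.n .z (.n .z (.n (.c 12) (.c 5))))) (.n (.n (.n (.c 10) (.c 9)) (.n (.c 7) (.n (.c 5) (.c 3)))) (.n (.n (.c 9) (.c 12)) (.n (.c 5) (.n (.c 8) (.c 1)))))) (.n (.n (.n (.n (.c 5) (.c 5)) (.n (.c 12) .z)) .z) .z)) .z))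
  (.leaf (.n (.n (.n (.n .z (.n .z (.n .z (.n (.c 12) (.c 2))))) (.n (.n (.n (.c 2) (.c 3)) (.n (.c 6) (.n (.c 5) (.c 2)))) (.n (.n (.c 6) (.c 5)) (.n (.c 9) (.n (.c 9) (.c 11)))))) (.n (.n (.n (.n (.c 6) (.c 5)) (.n (.c 2) .z)) .z) .z)) .z)))
  (.node (.leaf (.n (.n (.n (.n .z (.n .z (.n .z (.n (.c 1) .z)))) (.n (.n .z (.n .z (.n (.c 1) .z))) (.n .z (.n (.c 12) .z)))) .z) .z))
  (.node (.leaf (.n (.n (.n (.n .z (.n .z (.n .z (.n (.c 10) (.c 9))))) (.n (.n (.n (.c 6) (.c 8)) (.n (.c 4) (.n (.c 3) (.c 3)))) (.n (.n (.c 3) (.c 3)) (.n (.c 2) (.n (.c 9) (.c 6)))))) (.n (.n (.n (.n (.c 1) (.c 7)) (.n (.c 12) .z)) .z) .z)) .z))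
  (.leaf (.n (.n (.n (.n .z (.n .z (.n .z (.n (.c 6) (.c 4))))) (.n (.n (.n (.c 6) .z) (.n .z (.n (.c 1) (.c 6)))) (.n (.n (.c 8) (.c 11)) (.n (.c 12) (.n (.c 5) .z))))) (.n (.n (.n (.n (.c 1) .z) (.n (.c 1) .z)) .z) .z)) .z)))))))
  (.node (.node (.node (.node (.leaf (.n (.n (.n (.n .z (.n .z (.n .z (.n (.c 5) (.c 12))))) (.n (.n (.n (.c 3) (.c 2)) (.n (.c 11) (.n (.c 8) (.c 1)))) (.n (.n .z (.c 1)) (.n (.c 6) (.n (.c 10) (.c 3)))))) (.n (.n (.n (.n (.c 4) (.c 8)) (.n (.c 1) .z)) .z) .z)) .z))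
  (.leaf (.n (.n (.n (.n .z (.n .z (.n .z (.n (.c 9) (.c 2))))) (.n (.n (.n (.c 1) (.c 2)) (.n (.c 11) (.n (.c 12) (.c 1)))) (.n (.n (.c 6) (.c 9)) (.n (.c 12) (.n (.c 2) (.c 6)))))) (.n (.n (.n (.n (.c 12) (.c 6)) (.n (.c 9) .z)) .z) .z)) .z)))
  (.node (.leaf (.n (.n (.n (.n .z (.n .z (.n .z (.n (.c 6) (.c 12))))) (.n (.n (.n (.c 4) (.c 9)) (.n (.c 1) (.n (.c 11) (.c 7)))) (.n (.n (.c 3) (.c 5)) (.n (.c 2) (.n (.c 3) (.c 6)))))) (.n (.n (.n (.n (.c 9) (.c 8)) (.n (.c 11) .z)) .z) .z)) .z))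
  (.node (.leaf (.n (.n .z (.n (.n .z (.n .z (.n .z (.n (.c 1) .z)))) .z)) .z))
  (.leaf (.n (.n .z (.n .z (.n (.n .z (.n .z (.n .z (.c 1)))) .z))) .z)))))
  (.node (.node (.leaf (.n .z (.n (.n (.n (.n (.n (.c 1) .z) .z) .z) .z) .z)))
  (.leaf (.n .z (.n (.n (.n .z (.n (.n .z (.c 1)) .z)) .z) .z))))
  (.node (.leaf (.n .z (.n (.n .z (.n (.n (.n (.c 1) .z) .z) .z)) .z)))
  (.node (.leaf (.n (.n .z (.n (.n (.n .z (.n .z (.n (.c 1) .z))) .z) .z)) .z))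
  (.leaf (.n .z (.n (.n .z (.n (.n .z (.n .z (.n .z (.c 1)))) .z)) .z)))))))
  (.node (.node (.node (.leaf (.n .z (.n (.n .z (.n .z (.n (.n (.c 1) .z) .z))) .z)))
  (.leaf (.n .z (.n .z (.n (.n (.n .z (.n (.c 1) .z)) .z) .z)))))
  (.node (.leaf (.n (.n .z (.n (.n (.n .z (.n .z (.n (.c 12) (.c 12)))) (.n (.n .z (.c 12)) (.n .z (.n (.c 12) .z)))) (.n (.n .z (.n (.c 12) (.n .z (.c 12)))) .z))) (.n (.n (.n .z (.n (.n .z (.c 12)) .z)) .z) .z)))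
  (.node (.leaf (.n .z (.n .z (.n .z (.n (.n (.n (.c 1) .z) .z) .z)))))
  (.leaf (.n (.n .z (.n (.n (.n .z (.n .z (.n .z (.c 1)))) .z) .z)) .z)))))
  (.node (.node (.leaf (.n .z (.n .z (.n .z (.n (.n .z (.n .z (.n (.c 1) .z))) .z)))))
  (.leaf (.n (.n .z (.n (.n (.n .z (.n .z (.n (.c 2) (.c 2)))) (.n (.n (.c 1) (.c 11)) (.n (.c 11) (.n (.c 9) (.c 7))))) (.n (.n (.n (.c 1) (.c 5)) (.n (.c 11) (.n (.c 11) (.c 9)))) (.n (.n (.c 7) (.c 1)) (.n (.c 1) .z))))) (.n (.n (.n .z (.n (.n (.c 2) .z) (.n (.c 5) (.n (.c 11) (.c 3))))) (.n (.n (.n (.c 12) (.c 7)) (.n (.c 9) (.n .z (.c 9)))) (.n (.n (.c 12) .z) (.n .z (.n .z (.c 5)))))) (.n (.n .z (.n (.n .z (.c 2)) (.n (.c 5) (.n (.c 11) (.c 3))))) (.n (.n (.n (.c 12) (.c 7)) (.n (.c 9) (.n (.c 9) .z))) .z))))))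
  (.node (.leaf (.n (.n .z (.n (.n .z (.n (.n (.c 9) (.c 6)) (.n (.c 8) (.n (.c 5) (.c 3))))) (.n (.n (.n (.c 7) (.c 11)) (.n (.c 6) (.n (.c 8) (.c 5)))) (.n (.n (.c 3) (.c 7)) (.n (.c 9) .z))))) (.n (.n (.n (.n (.n (.c 12) .z) .z) (.n (.n (.c 7) .z) (.n (.c 11) (.n (.c 6) (.c 4))))) (.n (.n (.n (.c 5) (.c 5)) (.n (.c 12) (.n .z (.c 10)))) (.n .z (.n .z (.n .z (.c 11)))))) (.n (.n .z (.n (.n .z (.c 7)) (.n (.c 11) (.n (.c 6) (.c 4))))) (.n (.n (.n (.c 5) (.c 5)) (.n (.c 12) (.n (.c 10) .z))) .z)))))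
  (.node (.leaf (.n .z (.n .z (.n .z (.n .z (.n .z (.n (.c 1) .z)))))))
  (.leaf (.n (.n .z (.n (.n (.n .z (.n .z (.n (.c 2) (.c 12)))) (.n (.n (.c 7) (.c 10)) (.n (.c 5) (.n (.c 6) (.c 12))))) (.n (.n (.n (.c 6) (.c 11)) (.n (.c 1) (.n (.c 7) (.c 7)))) (.n (.n (.c 8) (.c 2)) (.n (.c 10) (.n (.c 9) .z)))))) (.n (.n (.n (.n (.n (.c 3) (.c 1)) (.n (.c 3) (.c 11))) (.n (.n (.c 3) (.c 6)) (.n (.c 9) (.n (.c 10) (.c 11))))) (.n (.n (.n .z (.c 6)) (.n (.c 5) (.n (.c 8) (.c 1)))) (.n (.n (.c 3) .z) (.n (.c 9) (.n (.c 4) (.c 11)))))) (.n (.n (.n (.n (.c 11) (.c 2)) (.n (.c 1) (.n (.c 8) (.c 6)))) (.n (.n (.c 7) (.c 8)) (.n (.c 11) (.n (.c 3) (.c 4))))) (.n (.n (.n (.c 2) (.c 4)) (.n (.c 10) (.n (.c 7) (.c 11)))) (.n (.n (.c 4) (.c 3)) (.n (.c 7) (.n (.c 3) (.c 2)))))))))))))))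
  (.node (.node (.node (.node (.node (.leaf (.n (.n .z (.n (.n .z (.n (.n (.c 1) .z) .z)) .z)) .z))
  (.leaf (.n (.n .z (.n (.n (.n .z (.n .z (.n (.c 11) (.c 11)))) (.n (.n (.c 3) .z) (.n (.c 10) (.n (.c 5) .z)))) (.n (.n (.n (.c 11) (.c 10)) (.n (.c 1) (.n (.c 10) (.c 12)))) (.n (.n .z (.c 6)) (.n (.c 1) (.n (.c 4) (.c 10))))))) (.n (.n (.n (.n (.n (.c 1) .z) (.n .z (.c 6))) (.n (.n (.c 6) (.c 2)) (.n (.c 2) (.n .z (.c 2))))) (.n (.n (.n (.c 12) (.c 11)) (.n (.c 12) (.n (.c 5) (.c 3)))) (.n (.n .z (.c 6)) (.n (.c 6) (.n .z (.c 1)))))) (.n (.n (.n (.n (.c 10) (.c 12)) (.n .z (.n (.c 1) .z))) (.n (.n (.c 5) .z) (.n (.c 11) (.n (.c 8) (.c 1))))) (.n (.n (.n (.c 5) (.c 8)) (.n (.c 3) (.n (.c 2) (.c 7)))) (.n (.n (.c 4) (.c 7)) (.n (.c 2) (.n (.c 10) (.c 6))))))))))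
  (.node (.leaf (.n (.n .z (.n (.n (.n .z (.n .z (.n (.c 4) (.c 1)))) (.n (.n .z (.c 1)) (.n (.c 8) (.n .z (.c 11))))) (.n (.n (.n (.c 8) (.c 2)) (.n (.c 10) (.n (.c 4) (.c 9)))) (.n (.n (.c 2) (.c 6)) (.n (.c 8) (.n (.c 10) (.c 8))))))) (.n (.n (.n (.n (.n (.c 1) (.c 8)) (.n (.c 5) (.c 10))) (.n (.n (.c 2) (.c 6)) (.n (.c 6) (.n (.c 12) (.c 12))))) (.n (.n (.n (.c 2) (.c 11)) (.n (.c 6) (.n (.c 8) (.c 10)))) (.n (.n (.c 8) (.c 2)) (.n (.c 3) (.n .z (.c 6)))))) (.n (.n (.n (.n (.c 6) (.c 9)) (.n .z (.n (.c 3) (.c 6)))) (.n (.n (.c 3) (.c 1)) (.n (.c 11) (.n (.c 8) (.c 8))))) (.n (.n (.n (.c 10) (.c 10)) (.n (.c 11) (.n (.c 8) (.c 6)))) (.n (.n (.c 3) (.c 11)) (.n (.c 1) (.n (.c 10) (.c 5)))))))))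
  (.leaf (.n (.n .z (.n (.n (.n .z (.n .z (.n (.c 8) (.c 12)))) (.n (.n (.c 12) (.c 8)) (.n (.c 12) (.n (.c 1) (.c 9))))) (.n (.n (.n (.c 2) (.c 4)) (.n (.c 2) (.n (.c 11) (.c 7)))) (.n (.n (.c 3) (.c 1)) (.n (.c 4) (.n (.c 12) (.c 9))))))) (.n (.n (.n (.n (.n (.c 10) (.c 9)) (.n (.c 12) (.c 7))) (.n (.n .z (.c 5)) (.n .z (.n (.c 3) (.c 1))))) (.n (.n (.n (.c 4) (.c 8)) (.n (.c 8) (.n (.c 8) (.c 2)))) (.n (.n (.c 8) (.c 6)) (.n (.c 4) (.n (.c 5) (.c 9)))))) (.n (.n (.n (.n (.c 9) (.c 10)) (.n (.c 5) (.n (.c 6) (.c 6)))) (.n (.n (.c 8) .z) (.n (.c 11) (.n (.c 5) (.c 3))))) (.n (.n (.n .z (.c 9)) (.n .z (.n (.c 10) (.c 9)))) (.n (.n (.c 1) (.c 1)) (.n (.c 2) (.n (.c 11) (.c 11)))))))))))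
  (.node (.node (.leaf (.n (.n .z (.n (.n (.n .z (.n .z (.n (.c 8) (.c 1)))) (.n (.n (.c 11) .z) (.n (.c 11) (.n (.c 3) (.c 3))))) (.n (.n (.n (.c 9) (.c 5)) (.n (.c 5) (.n (.c 11) (.c 11)))) (.n (.n (.c 9) .z) (.n (.c 1) (.n (.c 10) (.c 8))))))) (.n (.n (.n (.n (.n (.c 7) (.c 9)) (.n (.c 7) (.c 10))) (.n (.n (.c 9) (.c 2)) (.n .z (.n (.c 9) (.c 5))))) (.n (.n (.n (.c 7) (.c 9)) (.n (.c 1) (.n (.c 11) .z))) (.n (.n (.c 10) (.c 4)) (.n (.c 7) (.n (.c 8) (.c 7)))))) (.n (.n (.n (.n (.c 6) (.c 2)) (.n (.c 6) (.n (.c 7) .z))) (.n (.n (.c 6) (.c 1)) (.n (.c 6) (.n (.c 5) (.c 2))))) (.n (.n (.n (.c 4) (.c 3)) (.n (.c 2) (.n (.c 2) (.c 2)))) (.n (.n (.c 3) (.c 2)) (.n (.c 4) (.n (.c 8) (.c 2)))))))))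
  (.leaf (.n (.n .z (.n (.n .z (.n (.n .z (.c 1)) .z)) .z)) .z)))
  (.node (.leaf (.n (.n .z (.n (.n (.n .z (.n .z (.n (.c 2) (.c 8)))) (.n (.n (.c 12) (.c 12)) (.n (.c 7) (.n (.c 1) (.c 9))))) (.n (.n (.n .z (.c 4)) (.n (.c 11) (.n (.c 12) (.c 6)))) (.n (.n (.c 12) (.c 7)) (.n (.c 7) (.n (.c 10) (.c 2))))))) (.n (.n (.n (.n (.n .z (.c 4)) (.n (.c 1) (.c 7))) (.n (.n (.c 8) (.c 1)) (.n .z (.n (.c 7) .z)))) (.n (.n (.n (.c 7) (.c 11)) (.n (.c 4) (.n (.c 9) (.c 12)))) (.n (.n (.c 5) (.c 7)) (.n (.c 12) (.n (.c 1) (.c 12)))))) (.n (.n (.n (.n (.c 1) (.c 12)) (.n (.c 12) (.n (.c 4) (.c 5)))) (.n (.n (.c 8) (.c 5)) (.n (.c 2) (.n (.c 3) (.c 2))))) (.n (.n (.n (.c 12) (.c 7)) (.n (.c 7) (.n .z (.c 8)))) (.n (.n (.c 5) (.c 10)) (.n (.c 2) (.n (.c 9) (.c 6)))))))))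
  (.node (.leaf (.n (.n .z (.n (.n (.n .z (.n .z (.n (.c 2) (.c 3)))) (.n (.n (.c 7) (.c 11)) (.n (.c 10) (.n (.c 2) (.c 11))))) (.n (.n (.n (.c 10) (.c 10)) (.n (.c 7) (.n (.c 4) (.c 8)))) (.n (.n (.c 10) (.c 9)) (.n (.c 5) (.n .z (.c 7))))))) (.n (.n (.n (.n (.n (.c 1) (.c 12)) (.n (.c 10) (.c 9))) (.n (.n (.c 2) (.c 2)) (.n (.c 12) (.n (.c 2) (.c 5))))) (.n (.n (.n (.c 5) (.c 6)) (.n (.c 1) (.n (.c 12) .z))) (.n (.n (.c 10) (.c 5)) (.n (.c 3) (.n (.c 10) (.c 3)))))) (.n (.n (.n (.n (.c 6) (.c 3)) (.n (.c 3) (.n (.c 1) (.c 11)))) (.n (.n (.c 2) (.c 11)) (.n (.c 1) (.n (.c 8) (.c 8))))) (.n (.n (.n (.c 3) (.c 5)) (.n (.c 5) (.n .z (.c 2)))) (.n (.n (.c 2) (.c 9)) (.n (.c 8) (.n (.c 10) (.c 8)))))))))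
  (.leaf (.n (.n .z (.n (.n (.n .z (.n .z (.n (.c 3) (.c 2)))) (.n (.n (.c 9) .z) (.n (.c 2) (.n (.c 7) (.c 11))))) (.n (.n (.n (.c 12) (.c 2)) (.n (.c 5) (.n (.c 6) (.c 6)))) (.n (.n (.c 9) (.c 9)) (.n (.c 7) (.n (.c 7) (.c 2))))))) (.n (.n (.n (.n (.n (.c 2) (.c 3)) (.n (.c 1) (.c 9))) (.n (.n (.c 8) (.c 7)) (.n (.c 2) (.n (.c 6) (.c 8))))) (.n (.n (.n (.c 6) (.c 11)) (.n (.c 4) (.n (.c 9) .z))) (.n (.n (.c 5) (.c 7)) (.n (.c 12) (.n (.c 1) (.c 12)))))) (.n (.n (.n (.n (.c 12) (.c 12)) (.n (.c 12) (.n (.c 4) (.c 5)))) (.n (.n (.c 8) (.c 5)) (.n (.c 12) (.n (.c 5) (.c 9))))) (.n (.n (.n (.c 12) (.c 7)) (.n (.c 7) (.n .z (.c 8)))) (.n (.n (.c 7) (.c 10)) (.n (.c 4) (.n (.c 8) (.c 6)))))))))))))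
  (.node (.node (.node (.leaf (.n (.n .z (.n (.n .z (.n .z (.n (.c 1) .z))) .z)) .z))
  (.leaf (.n (.n .z (.n (.n (.n .z (.n .z (.n (.c 4) (.c 4)))) (.n (.n (.c 9) .z) (.n .z (.n (.c 3) (.c 10))))) (.n (.n (.n (.c 11) (.c 3)) (.n (.c 11) (.n (.c 2) (.c 2)))) (.n (.n (.c 12) (.c 10)) (.n (.c 5) (.n (.c 6) .z)))))) (.n (.n (.n (.n (.n (.c 2) (.c 7)) (.n (.c 8) (.c 10))) (.n (.n (.c 5) (.c 5)) (.n (.c 10) (.n (.c 4) (.c 2))))) (.n (.n (.n (.c 2) (.c 7)) (.n (.c 5) (.n (.c 12) (.c 11)))) (.n (.n (.c 1) (.c 10)) (.n (.c 11) (.n (.c 8) (.c 6)))))) (.n (.n (.n (.n (.c 5) (.c 4)) (.n (.c 5) (.n (.c 7) (.c 1)))) (.n (.n (.c 4) (.c 1)) (.n (.c 1) (.n (.c 6) (.c 4))))) (.n (.n (.n (.c 10) (.c 12)) (.n (.c 7) (.n (.c 9) (.c 6)))) (.n (.n (.c 5) (.c 9)) (.n (.c 5) (.n (.c 4) (.c 2))))))))))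
  (.node (.leaf (.n (.n .z (.n (.n (.n .z (.n .z (.n (.c 6) (.c 7)))) (.n (.n (.c 7) (.c 9)) (.n (.c 5) (.n (.c 8) (.c 4))))) (.n (.n (.n (.c 3) (.c 10)) (.n (.c 10) (.n (.c 9) .z))) (.n (.n (.c 2) (.c 7)) (.n (.c 4) (.n (.c 3) (.c 4))))))) (.n (.n (.n (.n (.n (.c 9) (.c 7)) (.n .z (.c 11))) (.n (.n (.c 12) (.c 1)) (.n (.c 2) (.n (.c 3) (.c 5))))) (.n (.n (.n (.c 4) (.c 1)) (.n (.c 7) (.n (.c 7) (.c 6)))) (.n (.n (.c 11) (.c 1)) (.n (.c 4) (.n (.c 6) (.c 7)))))) (.n (.n (.n (.n (.c 8) (.c 11)) (.n (.c 7) (.n (.c 8) (.c 11)))) (.n (.n (.c 6) (.c 8)) (.n (.c 6) (.n (.c 10) (.c 3))))) (.n (.n (.n (.c 1) (.c 4)) (.n (.c 8) (.n (.c 8) (.c 3)))) (.n (.n (.c 6) (.c 10)) (.n (.c 9) (.n (.c 9) (.c 5)))))))))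
  (.node (.leaf (.n (.n .z (.n (.n (.n .z (.n .z (.n (.c 3) (.c 6)))) (.n (.n (.c 7) (.c 4)) (.n (.c 3) (.n (.c 2) (.c 8))))) (.n (.n (.n (.c 10) (.c 12)) (.n (.c 7) (.n (.c 2) (.c 8)))) (.n (.n (.c 8) (.c 7)) (.n .z (.n (.c 9) (.c 8))))))) (.n (.n (.n (.n (.n (.c 3) (.c 11)) (.n (.c 11) (.c 9))) (.n (.n (.c 6) (.c 12)) (.n (.c 8) (.n (.c 1) (.c 7))))) (.n (.n (.n (.c 2) (.c 8)) (.n (.c 6) (.n (.c 10) (.c 10)))) (.n (.n (.c 1) (.c 6)) (.n (.c 2) (.n (.c 10) (.c 8)))))) (.n (.n (.n (.n (.c 9) (.c 8)) (.n (.c 6) (.n (.c 11) (.c 12)))) (.n (.n (.c 11) (.c 12)) (.n (.c 10) (.n (.c 2) .z)))) (.n (.n (.n (.c 1) .z) (.n (.c 12) (.n (.c 11) (.c 11)))) (.n (.n (.c 10) (.c 8)) (.n (.c 8) (.n (.c 6) (.c 3)))))))))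
  (.leaf (.n (.n .z (.n (.n .z (.n .z (.n .z (.n .z (.c 1))))) .z)) .z)))))
  (.node (.node (.leaf (.n (.n .z (.n .z (.n (.n (.n (.c 1) .z) .z) .z))) .z))
  (.leaf (.n (.n .z (.n (.n (.n .z (.n .z (.n (.c 9) (.c 12)))) (.n (.n (.c 10) (.c 10)) (.n (.c 12) (.n (.c 1) (.c 7))))) (.n (.n (.n (.c 10) (.c 1)) (.n (.c 2) (.n (.c 3) (.c 3)))) (.n (.n (.c 3) (.c 6)) (.n (.c 9) (.n (.c 9) (.c 6))))))) (.n (.n (.n (.n (.n (.c 11) (.c 6)) (.n (.c 2) (.c 1))) (.n (.n (.c 10) (.c 3)) (.n (.c 4) (.n (.c 1) (.c 10))))) (.n (.n (.n (.c 5) (.c 6)) (.n (.c 7) (.n (.c 4) (.c 1)))) (.n (.n (.c 9) (.c 8)) (.n (.c 10) (.n (.c 10) (.c 9)))))) (.n (.n (.n (.n (.c 9) .z) (.n (.c 6) (.n (.c 1) (.c 3)))) (.n (.n (.c 5) (.c 5)) (.n (.c 12) (.n (.c 11) (.c 7))))) (.n (.n (.n (.c 11) (.c 3)) (.n (.c 3) (.n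 (.c 8) (.c 9)))) (.n (.n (.c 4) (.c 5)) (.n (.c 9) (.n (.c 7) (.c 8))))))))))
  (.node (.leaf (.n (.n .z (.n (.n (.n .z (.n .z (.n (.c 1) (.c 1)))) (.n (.n .z (.c 1)) (.n (.c 4) (.n (.c 5) .z)))) (.n (.n (.n (.c 2) (.c 3)) (.n (.c 10) (.n (.c 9) (.c 3)))) (.n (.n (.c 7) (.c 3)) (.n (.c 3) (.n (.c 12) (.c 9))))))) (.n (.n (.n (.n (.n (.c 9) (.c 3)) (.n (.c 3) (.c 9))) (.n (.n (.c 4) (.c 1)) (.n (.c 8) (.n (.c 12) (.c 4))))) (.n (.n (.n (.c 10) (.c 7)) (.n (.c 11) (.n (.c 3) (.c 3)))) (.n (.n (.c 11) (.c 12)) (.n (.c 12) (.n (.c 1) (.c 11)))))) (.n (.n (.n (.n .z (.c 2)) (.n (.c 12) (.n (.c 5) (.c 7)))) (.n (.n (.c 9) (.c 5)) (.n (.c 9) (.n (.c 9) (.c 6))))) (.n (.n (.n (.c 9) (.c 7)) (.n (.c 7) (.n (.c 12) (.c 10)))) (.n (.n (.c 9) (.c 5)) (.n (.c 2) (.n .z (.c 12)))))))))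
  (.node (.leaf (.n (.n .z (.n (.n (.n .z (.n .z (.n (.c 8) (.c 2)))) (.n (.n (.c 12) .z) (.n (.c 2) (.n (.c 9) (.c 9))))) (.n (.n (.n (.c 2) (.c 4)) (.n (.c 2) (.n (.c 3) (.c 4)))) (.n (.n (.c 5) (.c 8)) (.n (.c 9) (.n (.c 9) (.c 1))))))) (.n (.n (.n (.n (.n (.c 10) (.c 11)) (.n (.c 8) (.c 8))) (.n (.n (.c 3) .z) (.n (.c 5) (.n (.c 4) (.c 10))))) (.n (.n (.n (.c 12) .z) (.n (.c 1) (.n (.c 6) (.c 9)))) (.n (.n .z (.c 8)) (.n (.c 9) (.n (.c 7) (.c 10)))))) (.n (.n (.n (.n (.c 6) .z) (.n (.c 5) (.n (.c 11) (.c 1)))) (.n (.n (.c 11) (.c 1)) (.n (.c 6) (.n (.c 12) (.c 8))))) (.n (.n (.n (.c 4) (.c 5)) (.n (.c 6) (.n (.c 10) (.c 8)))) (.n (.n (.c 8) (.c 11)) (.n .z (.n (.c 5) .z))))))))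
  (.leaf (.n (.n .z (.n (.n (.n .z (.n .z (.n (.c 12) (.c 12)))) (.n (.n (.c 3) (.c 7)) (.n (.c 5) (.n (.c 7) (.c 10))))) (.n (.n (.n (.c 6) (.c 1)) (.n (.c 7) (.n (.c 5) (.c 7)))) (.n (.n (.c 10) (.c 6)) (.n (.c 3) .z))))) (.n (.n (.n .z (.n (.n (.c 6) .z) (.n (.c 2) (.n (.c 7) (.c 9))))) (.n (.n (.n (.c 8) (.c 8)) (.n (.c 1) (.n .z (.c 3)))) (.n .z (.n .z (.n .z (.c 1)))))) (.n (.n (.n .z (.n (.c 12) .z)) (.n (.n .z (.c 6)) (.n (.c 2) (.n (.c 7) (.c 9))))) (.n (.n (.n (.c 8) (.c 8)) (.n (.c 1) (.n (.c 3) .z))) .z))))))))))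
  (.node (.node (.node (.node (.leaf (.n (.n .z (.n (.n (.n .z (.n .z (.n (.c 12) (.c 5)))) (.n (.n (.c 6) (.c 12)) (.n (.c 12) (.n (.c 10) (.c 10))))) (.n (.n (.n (.c 3) (.c 5)) (.n (.c 5) (.n (.c 5) .z))) (.n (.n (.c 9) (.c 7)) (.n .z (.n (.c 6) .z)))))) (.n (.n (.n (.n (.n (.c 4) (.c 3)) (.n .z (.c 7))) (.n (.n .z (.c 10)) (.n (.c 10) (.n (.c 3) (.c 12))))) .z) (.n (.n (.n (.n (.c 5) .z) (.n (.c 12) .z)) (.n .z (.n (.c 9) (.n (.c 7) (.c 5))))) (.n .z (.n (.n (.c 7) .z) (.n (.c 4) (.n (.c 3) .z))))))))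
  (.leaf (.n (.n .z (.n (.n (.n .z (.n .z (.n (.c 9) (.c 7)))) (.n (.n (.c 11) (.c 9)) (.n (.c 2) (.n (.c 9) (.c 7))))) (.n (.n (.n (.c 4) (.c 7)) (.n (.c 9) (.n (.c 8) .z))) (.n (.n (.c 7) (.c 3)) (.n (.c 10) (.n (.c 12) (.c 5))))))) (.n (.n (.n (.n (.n (.c 5) (.c 5)) (.n (.c 5) (.c 3))) (.n (.n (.c 10) (.c 11)) (.n (.c 4) (.n (.c 5) (.c 7))))) (.n (.n (.n (.c 6) (.c 8)) (.n (.c 9) (.n (.c 6) (.c 9)))) (.n (.n (.c 11) (.c 4)) (.n (.c 11) (.n (.c 8) (.c 8)))))) (.n (.n (.n (.n (.c 8) (.c 8)) (.n (.c 9) (.n (.c 9) (.c 11)))) (.n (.n (.c 7) (.c 5)) (.n (.c 5) (.n (.c 9) (.c 11))))) (.n (.n (.n (.c 10) (.c 2)) (.n (.c 3) (.n (.c 4) (.c 8)))) (.n (.n (.c 1) (.c 2)) (.n (.c 3) (.n .z (.c 1))))))))))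
  (.node (.leaf (.n (.n .z (.n .z (.n (.n (.n .z (.c 1)) .z) .z))) .z))
  (.node (.leaf (.n (.n .z (.n (.n (.n .z (.n .z (.n (.c 2) (.c 5)))) (.n (.n (.c 11) .z) (.n (.c 2) (.n (.c 10) (.c 12))))) (.n (.n (.n (.c 2) (.c 7)) (.n (.c 3) (.n (.c 5) (.c 8)))) (.n (.n (.c 8) (.c 6)) (.n (.c 11) (.n (.c 2) (.c 12))))))) (.n (.n (.n (.n (.n (.c 11) (.c 4)) (.n (.c 11) (.c 6))) (.n (.n (.c 4) (.c 7)) (.n (.c 9) (.n (.c 12) (.c 11))))) (.n (.n (.n .z (.c 6)) (.n (.c 6) (.n (.c 3) (.c 3)))) (.n (.n (.c 3) (.c 6)) (.n (.c 9) (.n (.c 11) (.c 1)))))) (.n (.n (.n (.n (.c 1) (.c 3)) (.n (.c 1) (.n (.c 3) (.c 3)))) (.n (.n (.c 5) (.c 3)) (.n (.c 11) (.n (.c 12) (.c 8))))) (.n (.n (.n (.c 10) (.c 4)) (.n (.c 9) (.n (.c 4) (.c 3)))) (.n (.n (.c 12) (.c 12)) (.n (.c 7) (.n (.c 11) (.c 8)))))))))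
  (.leaf (.n (.n .z (.n (.n (.n .z (.n .z (.n (.c 4) (.c 6)))) (.n (.n (.c 8) (.c 11)) (.n (.c 9) (.n .z (.c 1))))) (.n (.n (.n (.c 2) (.c 12)) (.n (.c 1) (.n (.c 12) (.c 6)))) (.n (.n (.c 11) .z) (.n (.c 6) (.n (.c 12) (.c 7))))))) (.n (.n (.n (.n (.n (.c 5) (.c 7)) (.n (.c 2) (.c 12))) (.n (.n (.c 3) (.c 2)) (.n (.c 10) (.n (.c 6) (.c 1))))) (.n (.n (.n (.c 6) (.c 1)) (.n (.c 6) (.n (.c 7) (.c 3)))) (.n (.n (.c 4) (.c 5)) (.n (.c 1) (.n .z (.c 10)))))) (.n (.n (.n (.n (.c 2) (.c 3)) (.n (.c 12) (.n (.c 1) (.c 1)))) (.n (.n (.c 1) (.c 7)) (.n (.c 3) (.n (.c 9) (.c 4))))) (.n (.n (.n .z (.c 5)) (.n (.c 12) (.n (.c 11) (.c 2)))) (.n (.n (.c 1) (.c 8)) (.n (.c 9) (.n (.c 12) (.c 6))))))))))))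
  (.node (.node (.leaf (.n (.n .z (.n (.n (.n .z (.n .z (.n (.c 5) (.c 1)))) (.n (.n .z (.c 5)) (.n (.c 1) (.n (.c 12) (.c 4))))) (.n (.n (.n (.c 11) (.c 8)) (.n (.c 11) (.n (.c 2) (.c 6)))) (.n (.n (.c 10) (.c 12)) (.n (.c 9) (.n (.c 1) (.c 4))))))) (.n (.n (.n (.n (.n (.c 2) (.c 4)) (.n (.c 1) (.c 5))) (.n (.n .z (.c 8)) (.n .z (.n (.c 10) (.c 12))))) (.n (.n (.n (.c 9) (.c 5)) (.n (.c 5) (.n (.c 5) (.c 11)))) (.n (.n (.c 5) (.c 7)) (.n (.c 9) (.n (.c 8) (.c 4)))))) (.n (.n (.n (.n (.c 4) (.c 3)) (.n (.c 7) (.n (.c 7) (.c 7)))) (.n (.n (.c 4) .z) (.n (.c 2) (.n (.c 8) (.c 10))))) (.n (.n (.n .z (.c 4)) (.n .z (.n (.c 3) (.c 4)))) (.n (.n (.c 12) (.c 12)) (.n (.c 11) (.n (.c 2) (.c 2)))))))))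
  (.leaf (.n (.n .z (.n (.n (.n .z (.n .z (.n (.c 3) (.c 10)))) (.n (.n (.c 3) (.c 11)) (.n (.c 2) (.n (.c 2) (.c 7))))) (.n (.n (.n (.c 6) .z) (.n (.c 6) (.n (.c 2) (.c 7)))) (.n (.n (.c 1) (.c 2)) (.n .z (.n (.c 3) (.c 5))))))) (.n (.n (.n (.n (.n (.c 6) (.c 4)) (.n (.c 6) (.c 3))) (.n (.n (.c 5) (.c 11)) (.n (.c 5) (.n (.c 2) (.c 11))))) (.n (.n (.n (.c 7) (.c 11)) (.n (.c 8) (.n (.c 2) (.c 12)))) (.n (.n (.c 3) (.c 9)) (.n (.c 6) (.n (.c 5) (.c 11)))))) (.n (.n (.n (.n (.c 7) (.c 11)) (.n (.c 7) (.n (.c 6) .z))) (.n (.n (.c 7) .z) (.n (.c 12) (.n (.c 6) (.c 1))))) (.n (.n (.n (.c 10) (.c 4)) (.n (.c 7) (.n (.c 10) (.c 11)))) (.n (.n (.c 10) (.c 11)) (.n (.c 9) (.n (.c 5) (.c 11))))))))))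
  (.node (.leaf (.n (.n .z (.n (.n (.n .z (.n .z (.n (.c 11) (.c 5)))) (.n (.n (.c 1) (.c 1)) (.n (.c 6) (.n (.c 12) (.c 3))))) (.n (.n (.n .z (.c 9)) (.n (.c 2) (.n (.c 1) (.c 7)))) (.n (.n .z (.c 6)) (.n (.c 6) (.n (.c 3) (.c 11))))))) (.n (.n (.n (.n (.n .z (.c 9)) (.n (.c 12) (.c 6))) (.n (.n (.c 5) (.c 12)) (.n (.c 12) (.n (.c 6) .z)))) (.n (.n (.n (.c 6) (.c 2)) (.n (.c 9) (.n (.c 4) .z))) (.n (.n (.c 8) (.c 6)) (.n (.c 1) (.n (.c 12) (.c 1)))))) (.n (.n (.n (.n (.c 12) (.c 1)) (.n (.c 1) (.n (.c 9) (.c 8)))) (.n (.n (.c 5) (.c 8)) (.n (.c 10) (.n (.c 10) (.c 11))))) (.n (.n (.n (.c 1) (.c 6)) (.n (.c 6) (.n (.c 12) (.c 5)))) (.n (.n (.c 8) (.c 3)) (.n (.c 11) (.n (.c 4) (.c 7)))))))))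
  (.node (.leaf (.n (.n .z (.n (.n (.n .z (.n .z (.n (.c 9) (.c 8)))) (.n (.n (.c 5) (.c 4)) (.n (.c 5) (.n (.c 2) (.c 8))))) (.n (.n (.n (.c 1) (.c 11)) (.n (.c 8) (.n (.c 11) (.c 9)))) (.n (.n (.c 9) (.c 2)) (.n (.c 7) (.n .z (.c 6))))))) (.n (.n (.n (.n (.n (.c 12) (.c 1)) (.n (.c 3) (.c 4))) (.n (.n (.c 9) (.c 11)) (.n (.c 9) (.n (.c 12) (.c 5))))) (.n (.n (.n (.c 9) .z) (.n (.c 3) (.n (.c 1) (.c 4)))) (.n (.n (.c 3) (.c 8)) (.n (.c 10) (.n (.c 3) (.c 5)))))) (.n (.n (.n (.n (.c 7) (.c 10)) (.n (.c 10) (.n (.c 12) (.c 2)))) (.n (.n (.c 11) .z) (.n (.c 7) (.n (.c 6) (.c 2))))) (.n (.n (.n (.c 11) (.c 1)) (.n (.c 12) (.n (.c 4) (.c 11)))) (.n (.n (.c 11) (.c 4)) (.n (.c 5) (.n (.c 3) (.c 5)))))))))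
  (.leaf (.n (.n .z (.n (.n (.n .z (.n .z (.n (.c 10) (.c 11)))) (.n (.n (.c 4) .z) (.n (.c 10) (.n (.c 6) (.c 2))))) (.n (.n (.n (.c 1) (.c 11)) (.n (.c 8) (.n (.c 6) (.c 7)))) (.n (.n (.c 4) (.c 4)) (.n (.c 6) (.n (.c 6) (.c 11))))))) (.n (.n (.n (.n (.n (.c 11) (.c 10)) (.n (.c 12) (.c 4))) (.n (.n (.c 5) (.c 6)) (.n (.c 11) (.n (.c 7) (.c 4))))) (.n (.n (.n (.c 6) (.c 2)) (.n (.c 9) (.n (.c 4) .z))) (.n (.n (.c 8) (.c 6)) (.n (.c 1) (.n (.c 12) (.c 1)))))) (.n (.n (.n (.n (.c 1) (.c 1)) (.n (.c 1) (.n (.c 9) (.c 8)))) (.n (.n (.c 5) (.c 8)) (.n (.c 1) (.n (.c 8) (.c 3))))) (.n (.n (.n .z (.c 6)) (.n (.c 6) (.n .z (.c 5)))) (.n (.n (.c 6) (.c 3)) (.n (.c 9) (.n (.c 5) (.c 7)))))))))))))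
  (.node (.node (.node (.leaf (.n (.n .z (.n .z (.n (.n .z (.n .z (.n (.c 1) .z))) .z))) .z))
  (.leaf (.n (.n .z (.n (.n (.n .z (.n .z (.n (.c 11) (.c 11)))) (.n (.n (.c 4) .z) (.n (.c 12) (.n (.c 12) (.c 5))))) (.n (.n (.n (.c 2) (.c 10)) (.n (.c 2) (.n (.c 10) .z))) (.n (.n (.c 3) (.c 3)) (.n (.c 8) (.n (.c 7) .z)))))) (.n (.n (.n (.n (.n (.c 11) (.c 6)) (.n (.c 5) (.c 3))) (.n (.n (.c 8) (.c 8)) (.n (.c 3) (.n (.c 9) (.c 11))))) (.n (.n (.n (.c 10) (.c 5)) (.n (.c 8) (.n (.c 1) (.c 4)))) (.n (.n (.c 12) (.c 3)) (.n (.c 2) (.n (.c 5) (.c 7)))))) (.n (.n (.n (.n (.c 8) (.c 9)) (.n (.c 8) (.n (.c 6) (.c 12)))) (.n (.n (.c 9) (.c 12)) (.n (.c 12) (.n (.c 7) (.c 9))))) (.n (.n (.n (.c 2) .z) (.n (.c 6) (.n (.c 6) (.c 7)))) (.n (.n (.c 8) (.c 4)) (.n (.c 8) (.n (.c 9) (.c 11))))))))))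
  (.node (.leaf (.n (.n .z (.n (.n (.n .z (.n .z (.n (.c 6) (.c 5)))) (.n (.n (.c 10) (.c 9)) (.n (.c 12) (.n (.c 6) (.c 11))))) (.n (.n (.n (.c 5) (.c 10)) (.n (.c 8) (.n (.c 8) (.c 1)))) (.n (.n .z (.c 1)) (.n .z (.n (.c 10) (.c 9))))))) (.n (.n (.n (.n (.n (.c 4) (.c 6)) (.n .z (.c 2))) (.n (.n (.c 9) (.c 12)) (.n (.c 5) (.n (.c 2) (.c 7))))) (.n (.n (.n (.c 4) (.c 1)) (.n (.c 2) (.n (.c 6) (.c 4)))) (.n (.n (.c 2) (.c 12)) (.n (.c 9) (.n (.c 7) .z))))) (.n (.n (.n (.n (.c 5) (.c 2)) (.n (.c 6) (.n (.c 5) (.c 2)))) (.n (.n (.c 7) .z) (.n (.c 1) (.n (.c 8) (.c 9))))) (.n (.n (.n (.c 7) (.c 11)) (.n (.c 1) (.n (.c 2) (.c 10)))) (.n (.n (.c 7) (.c 3)) (.n (.c 4) (.n (.c 4) (.c 8)))))))))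
  (.node (.leaf (.n (.n .z (.n .z (.n .z (.n (.n (.c 1) .z) .z)))) .z))
  (.leaf (.n (.n .z (.n (.n (.n .z (.n .z (.n (.c 3) (.c 10)))) (.n (.n (.c 4) (.c 7)) (.n (.c 6) (.n (.c 10) (.c 2))))) (.n (.n (.n (.c 8) (.c 5)) (.n (.c 1) (.n (.c 5) (.c 4)))) (.n (.n (.c 7) .z) (.n (.c 8) (.n (.c 5) (.c 10))))))) (.n (.n (.n (.n (.n (.c 4) (.c 10)) (.n (.c 7) (.c 6))) (.n (.n (.c 12) (.c 2)) (.n (.c 10) (.n (.c 3) (.c 10))))) (.n (.n (.n (.c 11) (.c 12)) (.n (.c 8) (.n (.c 7) (.c 1)))) (.n (.n .z (.c 4)) (.n (.c 4) (.n (.c 2) (.c 11)))))) (.n (.n (.n (.n (.c 11) (.c 6)) (.n (.c 9) (.n (.c 10) (.c 2)))) (.n (.n (.c 3) (.c 6)) (.n (.c 8) (.n (.c 11) (.c 5))))) (.n (.n (.n (.c 8) (.c 9)) (.n (.c 1) (.n (.c 12) (.c 10)))) (.n (.n (.c 8) (.c 4)) (.n (.c 12) (.n (.c 2) (.c 11))))))))))))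
  (.node (.node (.leaf (.n (.n .z (.n (.n (.n .z (.n .z (.n (.c 4) (.c 1)))) (.n (.n .z (.c 4)) (.n (.c 1) (.n (.c 11) (.c 4))))) (.n (.n (.n (.c 11) (.c 9)) (.n (.c 11) (.n (.c 2) (.c 6)))) (.n (.n (.c 10) (.c 12)) (.n (.c 9) (.n .z (.c 4))))))) (.n (.n (.n (.n (.n (.c 2) (.c 4)) (.n (.c 1) (.c 5))) (.n (.n .z (.c 7)) (.n .z (.n (.c 10) (.c 12))))) (.n (.n (.n (.c 9) (.c 5)) (.n (.c 5) (.n (.c 5) (.c 11)))) (.n (.n (.c 5) (.c 7)) (.n (.c 9) (.n (.c 8) (.c 4)))))) (.n (.n (.n (.n (.c 4) (.c 3)) (.n (.c 8) (.n (.c 7) (.c 7)))) (.n (.n (.c 5) .z) (.n (.c 2) (.n (.c 8) (.c 10))))) (.n (.n (.n .z (.c 4)) (.n .z (.n (.c 3) (.c 4)))) (.n (.n (.c 11) (.c 12)) (.n (.c 10) (.n (.c 2) (.c 2)))))))))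
  (.leaf (.n (.n .z (.n (.n (.n .z (.n .z (.n (.c 11) (.c 9)))) (.n (.n (.c 5) (.c 9)) (.n (.c 10) (.n (.c 7) (.c 2))))) (.n (.n (.n (.c 6) (.c 4)) (.n (.c 6) (.n (.c 12) (.c 6)))) (.n (.n (.c 9) (.c 4)) (.n (.c 4) (.n (.c 6) .z)))))) (.n (.n (.n (.n (.n (.c 10) (.c 7)) (.n (.c 2) (.c 5))) (.n (.n (.c 10) (.c 9)) (.n (.c 11) (.n (.c 4) (.c 7))))) (.n (.n (.n (.c 2) (.c 5)) (.n .z (.n (.c 3) .z))) (.n (.n (.c 9) (.c 9)) (.n (.c 6) (.n (.c 2) (.c 12)))))) (.n (.n (.n (.n (.c 2) (.c 1)) (.n (.c 3) (.n (.c 5) (.c 10)))) (.n (.n (.c 1) (.c 9)) (.n (.c 7) (.n (.c 5) (.c 5))))) (.n (.n (.n (.c 8) (.c 6)) (.n (.c 7) (.n (.c 11) (.c 8)))) (.n (.n (.c 7) (.c 11)) (.n (.c 12) (.n (.c 3) (.c 7))))))))))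
  (.node (.leaf (.n (.n .z (.n .z (.n .z (.n .z (.n .z (.n (.c 1) .z)))))) .z))
  (.node (.leaf (.n (.n .z (.n (.n (.n .z (.n .z (.n (.c 8) (.c 5)))) (.n (.n (.c 7) .z) (.n (.c 4) (.n (.c 12) (.c 7))))) (.n (.n (.n (.c 2) (.c 11)) (.n (.c 8) (.n (.c 1) .z))) (.n (.n (.c 11) (.c 8)) (.n .z (.n (.c 2) (.c 7))))))) (.n (.n (.n (.n (.n (.c 11) (.c 7)) (.n (.c 2) (.c 8))) (.n (.n (.c 10) (.c 2)) (.n .z (.n (.c 1) (.c 11))))) (.n (.n (.n (.c 2) (.c 11)) (.n (.c 9) (.n .z (.c 10)))) (.n (.n (.c 10) (.c 8)) (.n (.c 5) (.n (.c 2) (.c 10)))))) (.n (.n (.n (.n (.c 5) (.c 12)) (.n (.c 11) (.n (.c 7) (.c 10)))) (.n (.n (.c 11) (.c 10)) (.n (.c 6) (.n (.c 11) (.c 3))))) (.n (.n (.n (.c 6) (.c 6)) (.n (.c 11) (.n (.c 11) (.c 9)))) (.n (.n (.c 6) .z) (.n (.c 1) (.n (.c 7) (.c 6)))))))))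
  (.leaf (.n (.n .z (.n (.n (.n .z (.n .z (.n (.c 9) .z))) (.n (.n (.c 11) .z) (.n (.c 5) (.n (.c 7) (.c 10))))) (.n (.n (.n (.c 10) (.c 5)) (.n (.c 12) (.n (.c 2) (.c 8)))) (.n (.n (.c 5) (.c 3)) (.n (.c 1) (.n (.c 4) (.c 4))))))) (.n (.n (.n (.n (.n (.c 9) (.c 12)) (.n (.c 6) (.c 7))) (.n (.n (.c 4) (.c 7)) (.n (.c 10) (.n (.c 4) (.c 1))))) (.n (.n (.n (.c 11) (.c 2)) (.n (.c 5) (.n (.c 8) (.c 12)))) (.n (.n (.c 3) (.c 11)) (.n (.c 8) (.n (.c 5) (.c 6)))))) (.n (.n (.n (.n (.c 4) (.c 2)) (.n (.c 3) (.n (.c 2) .z))) (.n (.n .z (.c 11)) (.n (.c 3) (.n (.c 5) (.c 6))))) (.n (.n (.n (.c 2) (.c 7)) (.n (.c 1) (.n (.c 6) (.c 9)))) (.n (.n (.c 9) (.c 9)) (.n (.c 10) (.n (.c 3) (.c 12))))))))))))))))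

/-- the rows of generator 7 -/
def rows7 : RT CT :=
  (.node (.node (.node (.node (.node (.node (.leaf (.n (.n (.n (.n (.n (.n (.c 12) .z) .z) .z) .z) .z) .z))
  (.leaf (.n (.n (.n (.n (.n (.n .z (.c 12)) .z) (.n (.n .z (.c 12)) .z)) .z) .z) .z)))
  (.node (.leaf (.n (.n (.n (.n (.n .z (.n (.c 12) .z)) .z) .z) .z) .z))
  (.leaf (.n (.n (.n (.n (.n .z (.n .z (.c 12))) .z) .z) .z) .z))))
  (.node (.node (.leaf (.n (.n (.n (.n .z (.n (.n (.c 12) .z) .z)) .z) .z) .z))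
  (.leaf (.n (.n (.n (.n .z (.n (.n .z (.c 1)) .z)) .z) .z) .z)))
  (.node (.leaf (.n (.n (.n (.n .z (.n (.n .z (.c 12)) (.n (.c 12) .z))) .z) .z) .z))
  (.node (.leaf (.n (.n (.n .z (.n (.n .z (.n .z (.n .z (.c 1)))) .z)) .z) .z))
  (.leaf (.n (.n (.n .z (.n .z (.n .z (.n .z (.n .z (.c 1)))))) .z) .z))))))
  (.node (.node (.node (.leaf (.n (.n (.n (.n .z (.n .z (.n .z (.n (.c 3) (.c 10))))) (.n (.n (.n (.c 10) (.c 8)) (.n (.c 3) (.n (.c 12) (.c 8)))) (.n (.n (.c 3) (.c 11)) (.n (.c 7) (.n (.c 10) (.c 1)))))) (.n (.n (.n (.n (.c 7) (.c 12)) .z) .z) .z)) .z))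
  (.leaf (.n (.n (.n (.n .z (.n .z (.n .z (.n (.c 11) (.c 2))))) (.n (.n (.n (.c 1) (.c 10)) (.n (.c 12) (.n (.c 5) (.c 2)))) (.n (.n (.c 1) .z) (.n (.c 11) (.n (.c 2) (.c 4)))))) (.n (.n (.n (.n (.c 11) (.c 5)) (.n (.c 5) .z)) .z) .z)) .z)))
  (.node (.leaf (.n (.n (.n (.n .z (.n .z (.n .z (.n (.c 6) (.c 1))))) (.n (.n (.n (.c 7) (.c 11)) (.n (.c 1) (.n (.c 6) (.c 10)))) (.n (.n (.c 11) (.c 5)) (.n (.c 7) (.n (.c 10) (.c 10)))))) (.n (.n (.n (.n (.c 8) (.c 6)) (.n (.c 10) .z)) .z) .z)) .z))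
  (.node (.leaf (.n (.n (.n (.n .z (.n .z (.n .z (.n (.c 4) (.c 6))))) (.n (.n (.n (.c 7) (.c 3)) (.n (.c 8) (.n (.c 12) (.c 2)))) (.n (.n (.c 8) (.c 2)) (.n (.c 4) (.n (.c 3) (.c 8)))))) (.n (.n (.n (.n (.c 2) .z) (.n (.c 12) .z)) .z) .z)) .z))
  (.leaf (.n (.n (.n (.n .z (.n .z (.n .z (.n (.c 1) .z)))) .z) .z) .z)))))
  (.node (.node (.leaf (.n (.n (.n (.n .z (.n .z (.n .z (.n (.c 8) (.c 7))))) (.n (.n (.n (.c 2) (.c 9)) (.n (.c 10) (.n (.c 2) (.c 7)))) (.n (.n (.c 5) (.c 9)) (.n (.c 7) (.n (.c 3) (.c 5)))))) (.n (.n (.n (.n (.c 9) (.c 2)) (.n (.c 4) .z)) .z) .z)) .z))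
  (.leaf (.n (.n (.n (.n .z (.n .z (.n .z (.n (.c 10) (.c 1))))) (.n (.n (.n (.c 2) (.c 7)) (.n (.c 10) (.n (.c 8) (.c 7)))) (.n (.n (.c 8) (.c 11)) (.n .z (.n (.c 3) (.c 11)))))) (.n (.n (.n (.n (.c 1) (.c 8)) (.n (.c 2) .z)) .z) .z)) .z)))
  (.node (.leaf (.n (.n (.n (.n .z (.n .z (.n .z (.n (.c 12) (.c 8))))) (.n (.n (.n (.c 12) (.c 6)) (.n (.c 9) (.n (.c 8) (.c 6)))) (.n (.n (.c 2) .z) (.n (.c 5) (.n (.c 6) (.c 4)))))) (.n (.n (.n (.n (.c 5) (.c 8)) (.n (.c 8) .z)) .z) .z)) .z))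
  (.node (.leaf (.n (.n (.n (.n .z (.n .z (.n .z (.n .z (.c 5))))) (.n (.n (.n (.c 6) .z) (.n (.c 7) (.n (.c 7) (.c 10)))) (.n (.n (.c 7) (.c 8)) (.n (.c 4) (.n (.c 11) (.c 10)))))) (.n (.n (.n (.n (.c 10) (.c 7)) (.n (.c 3) .z)) .z) .z)) .z))
  (.leaf (.n (.n (.n (.n .z (.n .z (.n .z (.n .z (.c 1))))) .z) .z) .z)))))))
  (.node (.node (.node (.node (.leaf (.n (.n (.n (.n .z (.n .z (.n .z (.n (.c 11) (.c 12))))) (.n (.n (.n (.c 11) (.c 11)) (.n (.c 4) (.n (.c 11) (.c 2)))) (.n (.n (.c 9) (.c 4)) (.n .z (.n (.c 11) (.c 4)))))) (.n (.n (.n (.n (.c 5) (.c 11)) (.n (.c 9) .z)) .z) .z)) .z))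
  (.leaf (.n (.n (.n (.n .z (.n .z (.n .z (.n (.c 6) (.c 11))))) (.n (.n (.n (.c 6) (.c 10)) (.n (.c 6) (.n (.c 8) (.c 4)))) (.n (.n (.c 1) (.c 2)) (.n (.c 11) (.n (.c 11) (.c 2)))))) (.n (.n (.n (.n (.c 11) (.c 7)) (.n (.c 7) .z)) .z) .z)) .z)))
  (.node (.leaf (.n (.n (.n (.n .z (.n .z (.n .z (.n (.c 7) (.c 7))))) (.n (.n (.n (.c 9) (.c 4)) (.n (.c 1) (.n (.c 7) (.c 12)))) (.n (.n (.c 12) (.c 7)) (.n (.c 1) (.n (.c 2) (.c 5)))))) (.n (.n (.n (.n (.c 5) (.c 7)) (.n (.c 9) .z)) .z) .z)) .z))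
  (.node (.leaf (.n (.n .z (.n (.n .z (.n .z (.n .z (.n .z (.c 1))))) .z)) .z))
  (.leaf (.n (.n .z (.n .z (.n .z (.n (.n (.c 1) .z) .z)))) .z)))))
  (.node (.node (.leaf (.n .z (.n (.n (.n (.n (.n .z (.c 1)) .z) .z) .z) .z)))
  (.leaf (.n .z (.n (.n (.n .z (.n .z (.n (.c 1) .z))) .z) .z))))
  (.node (.leaf (.n .z (.n (.n .z (.n (.n (.n .z (.c 1)) .z) .z)) .z)))
  (.node (.leaf (.n .z (.n (.n .z (.n (.n .z (.n .z (.n .z (.c 1)))) .z)) .z)))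
  (.leaf (.n (.n .z (.n (.n (.n .z (.n .z (.n (.c 1) .z))) .z) .z)) .z))))))
  (.node (.node (.node (.leaf (.n .z (.n (.n .z (.n .z (.n .z (.n .z (.n (.c 1) .z))))) .z)))
  (.leaf (.n .z (.n .z (.n (.n (.n .z (.n .z (.n (.c 1) .z))) .z) .z)))))
  (.node (.leaf (.n .z (.n .z (.n (.n .z (.n .z (.n (.c 1) .z))) .z))))
  (.node (.leaf (.n .z (.n .z (.n .z (.n (.n (.n .z (.c 1)) .z) .z)))))
  (.leaf (.n .z (.n .z (.n .z (.n (.n .z (.n .z (.n (.c 1) .z))) .z))))))))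
  (.node (.node (.leaf (.n (.n .z (.n (.n (.n .z (.n .z (.n .z (.c 1)))) .z) .z)) .z))
  (.leaf (.n (.n .z (.n (.n (.n .z (.n .z (.n (.c 6) (.c 6)))) (.n (.n .z (.c 7)) (.n (.c 9) (.n (.c 3) (.c 6))))) (.n (.n (.n (.c 12) .z) (.n (.c 7) (.n (.c 9) (.c 3)))) (.n (.n (.c 6) (.c 12)) .z)))) (.n (.n (.n .z (.n .z (.n (.c 7) .z))) (.n (.n (.n .z (.c 9)) (.n .z (.n .z (.c 3)))) (.n .z (.n .z (.n (.c 12) .z))))) (.n (.n .z (.n .z (.n (.c 7) .z))) (.n (.n (.n .z (.c 9)) (.n .z (.n (.c 3) .z))) .z))))))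
  (.node (.leaf (.n (.n .z (.n (.n (.n .z (.n .z (.n (.c 7) (.c 7)))) (.n (.n (.c 12) (.c 1)) (.n (.c 4) (.n (.c 12) (.c 7))))) (.n (.n .z (.n (.c 1) (.n (.c 4) (.c 12)))) (.n (.n (.c 7) .z) (.n (.c 12) .z))))) (.n (.n (.n (.n (.n .z (.c 12)) .z) (.n .z (.n (.c 1) .z))) (.n (.n (.n .z (.c 4)) (.n .z (.n .z (.c 12)))) .z)) (.n (.n .z (.n .z (.n (.c 1) .z))) (.n (.n (.n .z (.c 4)) (.n .z (.n (.c 12) .z))) .z)))))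
  (.node (.leaf (.n .z (.n .z (.n .z (.n .z (.n .z (.n .z (.n (.c 1) .z))))))))
  (.leaf (.n (.n .z (.n (.n (.n .z (.n .z (.n (.c 1) (.c 2)))) (.n (.n (.c 2) (.c 12)) (.n (.c 8) (.n .z (.c 11))))) (.n (.n (.n (.c 9) .z) (.n (.c 6) (.n (.c 2) (.c 9)))) (.n (.n (.c 1) (.c 12)) (.n (.c 8) (.n (.c 2) (.c 5))))))) (.n (.n (.n (.n (.n (.c 2) (.c 6)) (.n (.c 2) (.c 9))) (.n (.n (.c 2) .z) (.n (.c 5) (.n (.c 8) (.c 3))))) (.n (.n (.n (.c 5) (.c 7)) (.n (.c 9) (.n (.c 1) (.c 10)))) (.n (.n (.c 9) (.c 5)) (.n (.c 9) (.n (.c 9) (.c 11)))))) (.n (.n (.n (.n (.c 5) (.c 11)) (.n (.c 5) (.n (.c 1) (.c 4)))) (.n (.n (.c 3) (.c 9)) (.n (.c 3) (.n (.c 9) (.c 2))))) (.n (.n (.n (.c 9) (.c 7)) (.n (.c 6) (.n (.c 5) (.c 7)))) (.n (.n .z (.c 1)) (.n (.c 5) .z)))))))))))))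
  (.node (.node (.node (.node (.node (.leaf (.n (.n .z (.n (.n (.n .z (.n .z (.n (.c 11) (.c 11)))) (.n (.n (.c 3) .z) (.n (.c 10) (.n (.c 5) .z)))) (.n (.n (.n (.c 11) (.c 10)) (.n (.c 1) (.n (.c 10) (.c 12)))) (.n (.n .z (.c 6)) (.n (.c 1) (.n (.c 4) (.c 10))))))) (.n (.n (.n (.n (.n (.c 1) .z) (.n .z (.c 6))) (.n (.n (.c 6) (.c 2)) (.n (.c 2) (.n .z (.c 2))))) (.n (.n (.n (.c 12) (.c 11)) (.n (.c 12) (.n (.c 5) (.c 3)))) (.n (.n .z (.c 6)) (.n (.c 6) (.n .z (.c 1)))))) (.n (.n (.n (.n (.c 10) (.c 12)) (.n .z (.n (.c 1) .z))) (.n (.n (.c 5) .z) (.n (.c 11) (.n (.c 8) (.c 1))))) (.n (.n (.n (.c 5) (.c 8)) (.n (.c 3) (.n (.c 2) (.c 7)))) (.n (.n (.c 4) (.c 7)) (.n (.c 2) (.n (.c 10) (.c 6)))))))))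
  (.leaf (.n (.n .z (.n (.n .z (.n (.n (.c 1) .z) .z)) .z)) .z)))
  (.node (.leaf (.n (.n .z (.n (.n (.n .z (.n .z (.n (.c 9) (.c 5)))) (.n (.n (.c 8) (.c 1)) (.n (.c 8) (.n (.c 3) (.c 7))))) (.n (.n (.n (.c 9) (.c 6)) (.n (.c 11) (.n (.c 4) (.c 5)))) (.n (.n (.c 8) (.c 3)) (.n (.c 11) (.n (.c 7) (.c 3))))))) (.n (.n (.n (.n (.n (.c 6) (.c 12)) (.n (.c 10) (.c 9))) (.n (.n (.c 4) (.c 4)) (.n (.c 7) (.n (.c 6) (.c 8))))) (.n (.n (.n .z (.c 11)) (.n (.c 1) (.n (.c 2) (.c 4)))) (.n (.n (.c 5) (.c 10)) (.n .z (.n .z (.c 4)))))) (.n (.n (.n (.n (.c 10) (.c 9)) (.n (.c 11) (.n (.c 7) (.c 2)))) (.n (.n (.c 8) (.c 9)) (.n .z (.n (.c 6) (.c 11))))) (.n (.n (.n (.c 3) (.c 9)) (.n (.c 7) (.n .z (.c 12)))) (.n (.n .z (.c 5)) (.n (.c 12) (.n (.c 8) (.c 8)))))))))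
  (.leaf (.n (.n .z (.n (.n (.n .z (.n .z (.n .z (.c 11)))) (.n (.n (.c 2) (.c 8)) (.n (.c 8) (.n (.c 9) (.c 9))))) (.n (.n (.n .z (.c 6)) (.n (.c 11) (.n (.c 12) (.c 9)))) (.n (.n (.c 6) (.c 11)) (.n (.c 8) (.n (.c 3) (.c 3))))))) (.n (.n (.n (.n (.n (.c 10) (.c 2)) (.n (.c 12) (.c 11))) (.n (.n (.c 2) (.c 8)) (.n (.c 8) (.n (.c 7) (.c 7))))) (.n (.n (.n (.c 3) (.c 3)) (.n (.c 10) (.n (.c 6) (.c 7)))) (.n (.n (.c 4) (.c 5)) (.n (.c 10) (.n (.c 7) (.c 4)))))) (.n (.n (.n (.n (.c 12) (.c 5)) (.n (.c 5) (.n (.c 8) (.c 10)))) (.n (.n (.c 2) (.c 10)) (.n (.c 10) (.n (.c 10) .z)))) (.n (.n (.n (.c 8) (.c 4)) (.n (.c 1) (.n .z (.c 10)))) (.n (.n (.c 5) (.c 5)) (.n (.c 3) (.n (.c 9) (.c 5)))))))))))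
  (.node (.node (.leaf (.n (.n .z (.n (.n (.n .z (.n .z (.n (.c 5) (.c 3)))) (.n (.n (.c 7) (.c 8)) (.n (.c 1) (.n .z (.c 6))))) (.n (.n (.n (.c 1) (.c 2)) (.n (.c 12) (.n (.c 4) (.c 4)))) (.n (.n (.c 8) (.c 12)) (.n (.c 7) (.n (.c 10) .z)))))) (.n (.n (.n (.n (.n (.c 4) (.c 8)) (.n (.c 9) (.c 1))) (.n (.n (.c 4) (.c 9)) (.n (.c 3) (.n .z (.c 11))))) (.n (.n (.n .z (.c 1)) (.n (.c 7) (.n (.c 6) (.c 3)))) (.n (.n (.c 11) .z) (.n .z (.n (.c 10) (.c 2)))))) (.n (.n (.n (.n (.c 7) (.c 7)) (.n (.c 12) (.n .z (.c 10)))) (.n (.n .z (.c 10)) (.n .z (.n (.c 2) (.c 1))))) (.n (.n (.n (.c 4) (.c 1)) (.n (.c 3) .z)) (.n (.n (.c 7) (.c 12)) (.n (.c 12) (.n (.c 2) (.c 2)))))))))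
  (.leaf (.n (.n .z (.n (.n (.n .z (.n .z (.n (.c 2) (.c 8)))) (.n (.n (.c 12) (.c 12)) (.n (.c 7) (.n (.c 1) (.c 9))))) (.n (.n (.n .z (.c 4)) (.n (.c 11) (.n (.c 12) (.c 6)))) (.n (.n (.c 12) (.c 7)) (.n (.c 7) (.n (.c 10) (.c 2))))))) (.n (.n (.n (.n (.n .z (.c 4)) (.n (.c 1) (.c 7))) (.n (.n (.c 8) (.c 1)) (.n .z (.n (.c 7) .z)))) (.n (.n (.n (.c 7) (.c 11)) (.n (.c 4) (.n (.c 9) (.c 12)))) (.n (.n (.c 5) (.c 7)) (.n (.c 12) (.n (.c 1) (.c 12)))))) (.n (.n (.n (.n (.c 1) (.c 12)) (.n (.c 12) (.n (.c 4) (.c 5)))) (.n (.n (.c 8) (.c 5)) (.n (.c 2) (.n (.c 3) (.c 2))))) (.n (.n (.n (.c 12) (.c 7)) (.n (.c 7) (.n .z (.c 8)))) (.n (.n (.c 5) (.c 10)) (.n (.c 2) (.n (.c 9) (.c 6))))))))))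
  (.node (.leaf (.n (.n .z (.n (.n .z (.n (.n .z (.c 1)) .z)) .z)) .z))
  (.node (.leaf (.n (.n .z (.n (.n (.n .z (.n .z (.n (.c 10) (.c 6)))) (.n (.n (.c 12) (.c 4)) (.n (.c 1) (.n (.c 4) (.c 11))))) (.n (.n (.n (.c 12) (.c 8)) (.n (.c 12) (.n (.c 11) (.c 12)))) (.n (.n (.c 1) (.c 1)) (.n (.c 1) (.n (.c 8) (.c 4))))))) (.n (.n (.n (.n (.n .z (.c 9)) (.n (.c 2) (.c 1))) (.n (.n (.c 3) (.c 4)) (.n (.c 6) .z))) (.n (.n (.n (.c 1) (.c 9)) (.n (.c 8) (.n (.c 5) .z))) (.n (.n (.c 10) (.c 1)) (.n (.c 11) (.n (.c 1) (.c 11)))))) (.n (.n (.n (.n (.c 2) (.c 11)) (.n (.c 11) (.n (.c 8) (.c 10)))) (.n (.n (.c 3) (.c 10)) (.n (.c 7) (.n (.c 6) (.c 4))))) (.n (.n (.n (.c 11) (.c 1)) (.n (.c 1) (.n .z (.c 3)))) (.n (.n (.c 10) (.c 7)) (.n (.c 4) (.n (.c 6) (.c 12)))))))))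
  (.leaf (.n (.n .z (.n (.n (.n .z (.n .z (.n (.c 8) (.c 1)))) (.n (.n (.c 5) (.c 3)) (.n (.c 2) (.n (.c 12) (.c 11))))) (.n (.n (.n .z (.c 11)) (.n (.c 6) (.n (.c 7) (.c 10)))) (.n (.n (.c 12) (.c 3)) (.n (.c 3) (.n (.c 6) (.c 12))))))) (.n (.n (.n (.n (.n .z (.c 9)) (.n (.c 6) (.c 3))) (.n (.n (.c 9) (.c 12)) (.n (.c 9) (.n (.c 3) (.c 12))))) (.n (.n (.n (.c 3) .z) (.n (.c 11) (.n (.c 2) .z))) (.n (.n (.c 4) (.c 3)) (.n (.c 7) (.n (.c 6) (.c 7)))))) (.n (.n (.n (.n (.c 6) (.c 7)) (.n (.c 7) (.n (.c 11) (.c 4)))) (.n (.n (.c 9) (.c 4)) (.n (.c 4) (.n (.c 5) (.c 12))))) (.n (.n (.n (.c 7) (.c 3)) (.n (.c 3) (.n .z (.c 9)))) (.n (.n (.c 4) (.c 8)) (.n (.c 12) (.n .z (.c 10)))))))))))))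
  (.node (.node (.node (.leaf (.n (.n .z (.n (.n (.n .z (.n .z (.n (.c 4) (.c 4)))) (.n (.n (.c 9) .z) (.n .z (.n (.c 3) (.c 10))))) (.n (.n (.n (.c 11) (.c 3)) (.n (.c 11) (.n (.c 2) (.c 2)))) (.n (.n (.c 12) (.c 10)) (.n (.c 5) (.n (.c 6) .z)))))) (.n (.n (.n (.n (.n (.c 2) (.c 7)) (.n (.c 8) (.c 10))) (.n (.n (.c 5) (.c 5)) (.n (.c 10) (.n (.c 4) (.c 2))))) (.n (.n (.n (.c 2) (.c 7)) (.n (.c 5) (.n (.c 12) (.c 11)))) (.n (.n (.c 1) (.c 10)) (.n (.c 11) (.n (.c 8) (.c 6)))))) (.n (.n (.n (.n (.c 5) (.c 4)) (.n (.c 5) (.n (.c 7) (.c 1)))) (.n (.n (.c 4) (.c 1)) (.n (.c 1) (.n (.c 6) (.c 4))))) (.n (.n (.n (.c 10) (.c 12)) (.n (.c 7) (.n (.c 9) (.c 6)))) (.n (.n (.c 5) (.c 9)) (.n (.c 5) (.n (.c 4) (.c 2)))))))))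
  (.leaf (.n (.n .z (.n (.n .z (.n .z (.n (.c 1) .z))) .z)) .z)))
  (.node (.leaf (.n (.n .z (.n (.n (.n .z (.n .z (.n (.c 12) (.c 2)))) (.n (.n (.c 8) (.c 12)) (.n (.c 12) (.n .z (.c 9))))) (.n (.n (.n (.c 4) (.c 11)) (.n (.c 5) (.n (.c 1) (.c 2)))) (.n (.n (.c 5) (.c 9)) (.n (.c 7) (.n .z (.c 4))))))) (.n (.n (.n (.n (.n (.c 6) (.c 1)) (.n (.c 1) (.c 5))) (.n (.n (.c 5) (.c 4)) (.n (.c 8) (.n (.c 1) (.c 4))))) (.n (.n (.n (.c 12) (.c 7)) (.n (.c 11) (.n (.c 12) (.c 8)))) (.n (.n (.c 8) (.c 12)) (.n (.c 6) (.n (.c 8) (.c 1)))))) (.n (.n (.n (.n (.c 5) (.c 9)) (.n .z (.n (.c 5) (.c 10)))) (.n (.n (.c 2) (.c 9)) (.n (.c 2) (.n (.c 4) (.c 9))))) (.n (.n (.n (.c 2) (.c 3)) (.n (.c 1) (.n (.c 12) (.c 9)))) (.n (.n (.c 6) (.c 6)) (.n .z (.n (.c 11) (.c 11)))))))))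
  (.node (.leaf (.n (.n .z (.n (.n (.n .z (.n .z (.n (.c 4) (.c 1)))) (.n (.n (.c 1) (.c 5)) (.n (.c 9) (.n (.c 12) (.c 6))))) (.n (.n (.n (.c 2) (.c 4)) (.n (.c 11) (.n (.c 3) (.c 8)))) (.n (.n (.c 11) (.c 11)) (.n (.c 1) (.n (.c 7) .z)))))) (.n (.n (.n (.n (.n (.c 8) (.c 3)) (.n (.c 5) (.c 2))) (.n (.n (.c 10) (.c 5)) (.n (.c 8) (.n .z (.c 9))))) (.n (.n (.n .z (.c 9)) (.n (.c 1) (.n (.c 11) (.c 5)))) (.n (.n (.c 9) .z) (.n .z (.n (.c 7) (.c 4)))))) (.n (.n (.n (.n (.c 1) (.c 1)) (.n (.c 11) (.n .z (.c 7)))) (.n (.n .z (.c 7)) (.n .z (.n (.c 4) (.c 2))))) (.n (.n (.n (.c 8) (.c 10)) (.n (.c 6) .z)) (.n (.n (.c 1) (.c 11)) (.n (.c 11) (.n (.c 4) (.c 4)))))))))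
  (.leaf (.n (.n .z (.n (.n .z (.n .z (.n .z (.n (.c 1) .z)))) .z)) .z)))))
  (.node (.node (.leaf (.n (.n .z (.n (.n (.n .z (.n .z (.n (.c 8) (.c 2)))) (.n (.n (.c 12) .z) (.n (.c 2) (.n (.c 9) (.c 9))))) (.n (.n (.n (.c 2) (.c 4)) (.n (.c 2) (.n (.c 3) (.c 4)))) (.n (.n (.c 5) (.c 8)) (.n (.c 9) (.n (.c 9) (.c 1))))))) (.n (.n (.n (.n (.n (.c 10) (.c 11)) (.n (.c 8) (.c 8))) (.n (.n (.c 3) .z) (.n (.c 5) (.n (.c 4) (.c 10))))) (.n (.n (.n (.c 12) .z) (.n (.c 1) (.n (.c 6) (.c 9)))) (.n (.n .z (.c 8)) (.n (.c 9) (.n (.c 7) (.c 10)))))) (.n (.n (.n (.n (.c 6) .z) (.n (.c 5) (.n (.c 11) (.c 1)))) (.n (.n (.c 11) (.c 1)) (.n (.c 6) (.n (.c 12) (.c 8))))) (.n (.n (.n (.c 4) (.c 5)) (.n (.c 6) (.n (.c 10) (.c 8)))) (.n (.n (.c 8) (.c 11)) (.n .z (.n (.c 5) .z))))))))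
  (.leaf (.n (.n .z (.n (.n (.n .z (.n .z (.n (.c 4) (.c 4)))) (.n (.n (.c 11) (.c 9)) (.n (.c 6) (.n (.c 11) (.c 4))))) (.n (.n (.n (.c 5) (.c 10)) (.n .z (.n (.c 5) (.c 6)))) (.n (.n (.c 11) (.c 10)) (.n (.c 1) (.n (.c 7) (.c 7))))))) (.n (.n (.n (.n (.n (.c 7) (.c 1)) (.n (.c 9) (.c 9))) (.n (.n (.c 11) (.c 5)) (.n (.c 7) (.n .z (.c 5))))) (.n (.n (.n (.c 1) (.c 8)) (.n .z (.n (.c 11) (.c 11)))) (.n (.n (.c 10) (.c 1)) (.n .z (.n (.c 7) (.c 10)))))) (.n (.n (.n (.n (.c 4) (.c 9)) (.n (.c 7) (.n (.c 8) (.c 4)))) (.n (.n (.c 5) (.c 12)) (.n (.c 7) (.n (.c 12) (.c 4))))) (.n (.n (.n (.c 3) .z) (.n (.c 2) (.n (.c 6) (.c 5)))) (.n (.n (.c 9) (.c 6)) (.n (.c 7) (.n (.c 8) .z)))))))))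
  (.node (.leaf (.n (.n .z (.n (.n (.n .z (.n .z (.n (.c 12) (.c 7)))) (.n (.n (.c 12) (.c 5)) (.n (.c 6) (.n (.c 2) (.c 2))))) (.n (.n (.n .z (.c 10)) (.n (.c 3) (.n (.c 3) .z))) (.n (.n (.c 9) (.c 4)) (.n (.c 3) (.n (.c 11) (.c 3))))))) (.n (.n (.n (.n (.n (.c 9) (.c 2)) (.n (.c 8) (.c 5))) (.n (.n .z (.c 7)) (.n (.c 3) (.n (.c 9) (.c 8))))) (.n (.n (.n (.c 2) (.c 11)) (.n (.c 9) (.n .z (.c 7)))) (.n (.n (.c 10) (.c 1)) (.n (.c 5) (.n (.c 11) (.c 6)))))) (.n (.n (.n (.n .z (.c 9)) (.n (.c 1) (.n (.c 8) (.c 3)))) (.n (.n (.c 6) (.c 5)) (.n (.c 2) (.n (.c 9) (.c 1))))) (.n (.n (.n (.c 2) (.c 1)) (.n (.c 12) (.n (.c 12) (.c 1)))) (.n (.n (.c 7) (.c 9)) (.n (.c 11) (.n (.c 9) .z))))))))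
  (.node (.leaf (.n (.n .z (.n .z (.n (.n (.n (.c 1) .z) .z) .z))) .z))
  (.leaf (.n (.n .z (.n (.n (.n .z (.n .z (.n (.c 7) (.c 7)))) (.n (.n .z (.c 9)) (.n (.c 5) (.n (.c 4) (.c 7))))) (.n (.n (.n .z (.c 12)) (.n (.c 9) (.n (.c 5) (.c 4)))) (.n (.n (.c 7) .z) .z)))) (.n (.n (.n .z (.n .z (.n (.c 9) .z))) (.n (.n (.n .z (.c 5)) (.n .z (.n .z (.c 4)))) (.n .z (.n .z (.n .z (.c 12)))))) (.n (.n (.n .z (.n .z (.n (.c 12) .z))) (.n .z (.n (.c 9) .z))) (.n (.n (.n .z (.c 5)) (.n .z (.n (.c 4) .z))) .z))))))))))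
  (.node (.node (.node (.node (.leaf (.n (.n .z (.n (.n (.n .z (.n .z (.n (.c 11) (.c 9)))) (.n (.n (.c 6) (.c 9)) (.n (.c 9) (.n (.c 10) (.c 7))))) (.n (.n (.n .z (.c 6)) (.n (.c 11) (.n (.c 8) (.c 4)))) (.n (.n (.c 3) (.c 9)) (.n (.c 9) (.n (.c 9) (.c 10))))))) (.n (.n (.n (.n (.n .z (.c 5)) (.n (.c 5) (.c 9))) (.n (.n (.c 1) (.c 10)) (.n (.c 1) (.n (.c 9) .z)))) (.n (.n (.n (.c 9) (.c 3)) (.n (.c 7) (.n (.c 6) .z))) (.n (.n (.c 12) (.c 9)) (.n (.c 8) (.n (.c 5) (.c 8)))))) (.n (.n (.n (.n (.c 4) (.c 8)) (.n (.c 8) (.n (.c 6) (.c 12)))) (.n (.n (.c 1) (.c 12)) (.n (.c 5) (.n (.c 2) (.c 10))))) (.n (.n (.n (.c 8) (.c 9)) (.n (.c 9) (.n .z (.c 1)))) (.n (.n (.c 12) (.c 11)) (.n (.c 10) (.n (.c 4) (.c 4)))))))))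
  (.leaf (.n (.n .z (.n (.n (.n .z (.n .z (.n (.c 10) (.c 6)))) (.n (.n (.c 9) (.c 7)) (.n (.c 10) (.n .z (.c 5))))) (.n (.n (.n (.c 4) .z) (.n (.c 4) (.n .z (.c 12)))) (.n (.n (.c 11) (.c 2)) (.n (.c 3) (.n .z (.c 11))))))) (.n (.n (.n (.n (.n (.c 10) (.c 6)) (.n (.c 6) (.c 4))) (.n (.n (.c 4) (.c 11)) (.n (.c 9) (.n (.c 6) (.c 11))))) (.n (.n (.n (.c 7) (.c 6)) (.n (.c 7) (.n (.c 7) (.c 9)))) (.n (.n (.c 9) (.c 7)) (.n (.c 10) (.n (.c 2) (.c 6)))))) (.n (.n (.n (.n (.c 4) (.c 1)) (.n .z (.n (.c 3) (.c 8)))) (.n (.n (.c 12) (.c 2)) (.n (.c 12) (.n (.c 11) (.c 2))))) (.n (.n (.n (.c 12) (.c 12)) (.n (.c 6) (.n (.c 7) (.c 2)))) (.n (.n (.c 10) (.c 10)) (.n .z (.n (.c 1) (.c 1))))))))))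
  (.node (.leaf (.n (.n .z (.n (.n (.n .z (.n .z (.n (.c 2) (.c 5)))) (.n (.n (.c 11) .z) (.n (.c 2) (.n (.c 10) (.c 12))))) (.n (.n (.n (.c 2) (.c 7)) (.n (.c 3) (.n (.c 5) (.c 8)))) (.n (.n (.c 8) (.c 6)) (.n (.c 11) (.n (.c 2) (.c 12))))))) (.n (.n (.n (.n (.n (.c 11) (.c 4)) (.n (.c 11) (.c 6))) (.n (.n (.c 4) (.c 7)) (.n (.c 9) (.n (.c 12) (.c 11))))) (.n (.n (.n .z (.c 6)) (.n (.c 6) (.n (.c 3) (.c 3)))) (.n (.n (.c 3) (.c 6)) (.n (.c 9) (.n (.c 11) (.c 1)))))) (.n (.n (.n (.n (.c 1) (.c 3)) (.n (.c 1) (.n (.c 3) (.c 3)))) (.n (.n (.c 5) (.c 3)) (.n (.c 11) (.n (.c 12) (.c 8))))) (.n (.n (.n (.c 10) (.c 4)) (.n (.c 9) (.n (.c 4) (.c 3)))) (.n (.n (.c 12) (.c 12)) (.n (.c 7) (.n (.c 11) (.c 8)))))))))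
  (.node (.leaf (.n (.n .z (.n .z (.n (.n (.n .z (.c 1)) .z) .z))) .z))
  (.leaf (.n (.n .z (.n (.n (.n .z (.n .z (.n (.c 11) (.c 6)))) (.n (.n (.c 9) (.c 9)) (.n (.c 3) (.n (.c 9) (.c 4))))) (.n (.n (.n (.c 9) (.c 10)) (.n (.c 3) (.n (.c 7) (.c 1)))) (.n (.n (.c 3) (.c 9)) (.n (.c 7) (.n (.c 12) (.c 6))))))) (.n (.n (.n (.n (.n (.c 9) .z) (.n (.c 1) (.c 5))) (.n (.n .z (.c 4)) (.n (.c 2) (.n (.c 6) (.c 3))))) (.n (.n (.n (.c 3) (.c 5)) (.n (.c 1) (.n .z (.c 5)))) (.n (.n (.c 8) (.c 6)) (.n (.c 12) (.n (.c 11) (.c 12)))))) (.n (.n (.n (.n .z (.c 2)) (.n (.c 3) (.n (.c 1) (.c 9)))) (.n (.n (.c 4) (.c 5)) (.n (.c 12) (.n (.c 12) (.c 11))))) (.n (.n (.n (.c 5) (.c 10)) (.n (.c 9) (.n (.c 12) (.c 12)))) (.n (.n (.c 3) (.c 6)) (.n (.c 8) (.n (.c 11) (.c 2))))))))))))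
  (.node (.node (.leaf (.n (.n .z (.n (.n (.n .z (.n .z (.n (.c 8) (.c 2)))) (.n (.n (.c 11) (.c 1)) (.n .z (.n (.c 1) (.c 2))))) (.n (.n (.n (.c 10) (.c 5)) (.n (.c 3) (.n (.c 8) (.c 3)))) (.n (.n (.c 2) (.c 3)) (.n (.c 4) (.n (.c 4) (.c 4))))))) (.n (.n (.n (.n (.n (.c 5) (.c 8)) (.n (.c 6) (.c 2))) (.n (.n (.c 2) (.c 8)) (.n (.c 3) (.n (.c 4) (.c 9))))) (.n (.n (.n (.c 2) (.c 10)) (.n .z (.n (.c 5) (.c 3)))) (.n (.n (.c 8) (.c 4)) (.n (.c 8) (.n (.c 8) (.c 1)))))) (.n (.n (.n (.n (.c 8) (.c 5)) (.n (.c 12) (.n (.c 6) (.c 2)))) (.n (.n (.c 6) (.c 3)) (.n (.c 12) (.n (.c 1) (.c 6))))) (.n (.n (.n (.c 11) (.c 1)) (.n (.c 2) (.n (.c 7) (.c 8)))) (.n (.n (.c 10) (.c 1)) (.n (.c 11) (.n (.c 1) (.c 3)))))))))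
  (.leaf (.n (.n .z (.n (.n (.n .z (.n .z (.n (.c 11) .z))) (.n (.n (.c 6) (.c 4)) (.n (.c 2) (.n .z (.c 10))))) (.n (.n (.n (.c 12) (.c 11)) (.n .z (.n (.c 12) (.c 9)))) (.n (.n (.c 8) (.c 1)) (.n (.c 6) (.n (.c 3) .z)))))) (.n (.n (.n (.n (.n (.c 9) (.c 5)) (.n (.c 4) (.c 12))) (.n (.n (.c 8) (.c 4)) (.n (.c 9) (.n .z (.c 2))))) (.n (.n (.n .z (.c 2)) (.n (.c 6) (.n (.c 7) (.c 10)))) (.n (.n (.c 2) .z) (.n .z (.n (.c 3) (.c 11)))))) (.n (.n (.n (.n (.c 6) (.c 6)) (.n (.c 1) (.n .z (.c 3)))) (.n (.n .z (.c 2)) (.n (.c 12) (.n (.c 11) (.c 12))))) (.n (.n (.n (.c 9) (.c 2)) (.n (.c 10) .z)) (.n (.n (.c 6) (.c 1)) (.n (.c 1) (.n (.c 11) (.c 11))))))))))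
  (.node (.leaf (.n (.n .z (.n .z (.n (.n .z (.n (.c 1) .z)) .z))) .z))
  (.node (.leaf (.n (.n .z (.n (.n (.n .z (.n .z (.n (.c 10) (.c 1)))) (.n (.n (.c 1) (.c 2)) (.n (.c 3) (.n (.c 6) (.c 9))))) (.n (.n (.n (.c 1) (.c 5)) (.n (.c 7) (.n (.c 6) (.c 11)))) (.n (.n (.c 6) (.c 12)) (.n (.c 12) (.n (.c 5) (.c 9))))))) (.n (.n (.n (.n (.n .z (.c 4)) (.n (.c 11) (.c 12))) (.n (.n (.c 10) (.c 9)) (.n .z (.n (.c 12) .z)))) (.n (.n (.n (.c 12) (.c 8)) (.n (.c 5) (.n (.c 8) (.c 10)))) (.n (.n (.c 3) (.c 12)) (.n (.c 2) (.n (.c 12) (.c 2)))))) (.n (.n (.n (.n (.c 11) (.c 2)) (.n (.c 2) (.n (.c 5) (.c 3)))) (.n (.n (.c 10) (.c 3)) (.n (.c 12) (.n (.c 6) (.c 9))))) (.n (.n (.n (.c 2) (.c 3)) (.n (.c 12) (.n (.c 10) (.c 10)))) (.n (.n (.c 3) (.c 6)) (.n (.c 9) (.n (.c 7) (.c 1)))))))))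
  (.leaf (.n (.n .z (.n (.n (.n .z (.n .z (.n (.c 1) (.c 8)))) (.n (.n (.c 8) (.c 6)) (.n (.c 10) (.n (.c 1) (.c 11))))) (.n (.n (.n .z (.c 2)) (.n (.c 3) (.n (.c 5) (.c 3)))) (.n (.n (.c 10) (.c 10)) (.n (.c 10) (.n (.c 7) (.c 1))))))) (.n (.n (.n (.n (.n .z (.c 4)) (.n (.c 7) (.c 10))) (.n (.n (.c 4) (.c 1)) (.n .z (.n (.c 10) .z)))) (.n (.n (.n (.c 10) (.c 12)) (.n (.c 2) (.n (.c 11) .z))) (.n (.n (.c 9) (.c 10)) (.n (.c 6) (.n (.c 7) (.c 6)))))) (.n (.n (.n (.n (.c 7) (.c 6)) (.n (.c 6) (.n (.c 2) (.c 9)))) (.n (.n (.c 4) (.c 9)) (.n (.c 5) (.n (.c 8) .z)))) (.n (.n (.n (.c 6) (.c 9)) (.n (.c 10) (.n .z (.c 4)))) (.n (.n (.c 9) (.c 5)) (.n (.c 1) (.n .z (.c 3)))))))))))))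
  (.node (.node (.node (.leaf (.n (.n .z (.n (.n (.n .z (.n .z (.n (.c 11) (.c 11)))) (.n (.n (.c 4) .z) (.n (.c 12) (.n (.c 12) (.c 5))))) (.n (.n (.n (.c 2) (.c 10)) (.n (.c 2) (.n (.c 10) .z))) (.n (.n (.c 3) (.c 3)) (.n (.c 8) (.n (.c 7) .z)))))) (.n (.n (.n (.n (.n (.c 11) (.c 6)) (.n (.c 5) (.c 3))) (.n (.n (.c 8) (.c 8)) (.n (.c 3) (.n (.c 9) (.c 11))))) (.n (.n (.n (.c 10) (.c 5)) (.n (.c 8) (.n (.c 1) (.c 4)))) (.n (.n (.c 12) (.c 3)) (.n (.c 2) (.n (.c 5) (.c 7)))))) (.n (.n (.n (.n (.c 8) (.c 9)) (.n (.c 8) (.n (.c 6) (.c 12)))) (.n (.n (.c 9) (.c 12)) (.n (.c 12) (.n (.c 7) (.c 9))))) (.n (.n (.n (.c 2) .z) (.n (.c 6) (.n (.c 6) (.c 7)))) (.n (.n (.c 8) (.c 4)) (.n (.c 8) (.n (.c 9) (.c 11)))))))))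
  (.leaf (.n (.n .z (.n .z (.n (.n .z (.n .z (.n (.c 1) .z))) .z))) .z)))
  (.node (.leaf (.n (.n .z (.n (.n (.n .z (.n .z (.n (.c 3) .z))) (.n (.n (.c 5) (.c 7)) (.n .z (.n (.c 10) (.c 6))))) (.n (.n (.n (.c 9) (.c 2)) (.n (.c 1) (.n (.c 11) (.c 8)))) (.n (.n (.c 10) (.c 4)) (.n (.c 6) (.n .z (.c 9))))))) (.n (.n (.n (.n (.n (.c 7) (.c 12)) (.n (.c 12) (.c 8))) (.n (.n (.c 8) (.c 9)) (.n (.c 11) (.n (.c 12) (.c 9))))) (.n (.n (.n (.c 1) (.c 5)) (.n (.c 1) (.n (.c 1) (.c 2)))) (.n (.n (.c 5) (.c 1)) (.n (.c 7) (.n (.c 5) (.c 12)))))) (.n (.n (.n (.n (.c 8) (.c 4)) (.n .z (.n (.c 8) (.c 3)))) (.n (.n (.c 11) (.c 4)) (.n (.c 4) (.n (.c 9) (.c 4))))) (.n (.n (.n (.c 11) (.c 9)) (.n (.c 11) (.n (.c 11) (.c 4)))) (.n (.n (.c 7) (.c 7)) (.n .z (.n (.c 2) (.c 2)))))))))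
  (.node (.leaf (.n (.n .z (.n .z (.n (.n .z (.n .z (.n .z (.c 1)))) .z))) .z))
  (.leaf (.n (.n .z (.n (.n (.n .z (.n .z (.n (.c 4) (.c 10)))) (.n (.n (.c 7) (.c 2)) (.n (.c 10) (.n (.c 1) (.c 4))))) (.n (.n (.n (.c 4) (.c 7)) (.n .z (.n (.c 4) (.c 10)))) (.n (.n .z (.c 8)) (.n (.c 6) (.n (.c 3) (.c 3))))))) (.n (.n (.n (.n (.n (.c 3) (.c 12)) (.n (.c 2) (.c 2))) (.n (.n (.c 1) (.c 4)) (.n (.c 3) (.n .z (.c 4))))) (.n (.n (.n (.c 6) (.c 9)) (.n .z (.n (.c 1) (.c 1)))) (.n (.n (.c 8) (.c 12)) (.n .z (.n (.c 3) (.c 8)))))) (.n (.n (.n (.n (.c 11) (.c 2)) (.n (.c 3) (.n (.c 8) (.c 11)))) (.n (.n (.c 4) (.c 7)) (.n (.c 3) (.n (.c 7) (.c 11))))) (.n (.n (.n (.c 5) .z) (.n (.c 12) (.n (.c 10) (.c 3)))) (.n (.n (.c 2) (.c 10)) (.n (.c 3) (.n (.c 9) .z)))))))))))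
  (.node (.node (.leaf (.n (.n .z (.n (.n (.n .z (.n .z (.n (.c 7) (.c 11)))) (.n (.n (.c 3) (.c 7)) (.n (.c 8) (.n (.c 3) (.c 1))))) (.n (.n (.n .z (.c 5)) (.n (.c 3) (.n (.c 8) (.c 1)))) (.n (.n (.c 1) (.c 5)) (.n (.c 8) (.n (.c 3) (.c 9))))))) (.n (.n (.n (.n (.n (.c 3) (.c 7)) (.n (.c 7) (.c 4))) (.n (.n (.c 7) (.c 4)) (.n .z (.n (.c 9) (.c 6))))) (.n (.n (.n .z (.c 11)) (.n (.c 1) (.n (.c 9) (.c 6)))) (.n (.n .z (.c 11)) (.n (.c 10) (.n (.c 12) (.c 3)))))) (.n (.n (.n (.n (.c 7) (.c 2)) (.n (.c 2) (.n (.c 3) (.c 7)))) (.n (.n (.c 7) (.c 7)) (.n (.c 2) (.n (.c 8) (.c 12))))) (.n (.n (.n (.c 12) (.c 12)) (.n (.c 2) (.n .z (.c 12)))) (.n (.n (.c 11) (.c 3)) (.n (.c 9) (.n (.c 4) (.c 5)))))))))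
  (.leaf (.n (.n .z (.n (.n (.n .z (.n .z (.n .z (.c 7)))) (.n (.n (.c 9) (.c 11)) (.n (.c 2) (.n .z (.c 7))))) (.n (.n (.n .z (.c 4)) (.n (.c 1) (.n (.c 9) (.c 6)))) (.n (.n (.c 10) (.c 4)) (.n (.c 5) (.n (.c 7) (.c 3))))))) (.n (.n (.n (.n (.n (.c 9) .z) (.n (.c 6) .z)) (.n (.n (.c 11) (.c 5)) (.n (.c 4) (.n (.c 4) (.c 4))))) (.n (.n (.n (.c 9) (.c 8)) (.n (.c 12) (.n (.c 6) (.c 11)))) (.n (.n (.c 7) (.c 9)) (.n (.c 11) (.n (.c 5) (.c 3)))))) (.n (.n (.n (.n (.c 10) .z) (.n (.c 7) (.n (.c 7) (.c 9)))) (.n (.n (.c 8) (.c 5)) (.n (.c 8) (.n (.c 2) (.c 3))))) (.n (.n (.n (.c 6) (.c 12)) (.n (.c 9) (.n (.c 9) (.c 10)))) (.n (.n (.c 1) (.c 4)) (.n (.c 7) (.n (.c 3) (.c 4))))))))))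
  (.node (.leaf (.n (.n .z (.n (.n (.n .z (.n .z (.n (.c 8) (.c 5)))) (.n (.n (.c 7) .z) (.n (.c 4) (.n (.c 12) (.c 7))))) (.n (.n (.n (.c 2) (.c 11)) (.n (.c 8) (.n (.c 1) .z))) (.n (.n (.c 11) (.c 8)) (.n .z (.n (.c 2) (.c 7))))))) (.n (.n (.n (.n (.n (.c 11) (.c 7)) (.n (.c 2) (.c 8))) (.n (.n (.c 10) (.c 2)) (.n .z (.n (.c 1) (.c 11))))) (.n (.n (.n (.c 2) (.c 11)) (.n (.c 9) (.n .z (.c 10)))) (.n (.n (.c 10) (.c 8)) (.n (.c 5) (.n (.c 2) (.c 10)))))) (.n (.n (.n (.n (.c 5) (.c 12)) (.n (.c 11) (.n (.c 7) (.c 10)))) (.n (.n (.c 11) (.c 10)) (.n (.c 6) (.n (.c 11) (.c 3))))) (.n (.n (.n (.c 6) (.c 6)) (.n (.c 11) (.n (.c 11) (.c 9)))) (.n (.n (.c 6) .z) (.n (.c 1) (.n (.c 7) (.c 6)))))))))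
  (.node (.leaf (.n (.n .z (.n .z (.n .z (.n .z (.n .z (.n (.c 1) .z)))))) .z))
  (.leaf (.n (.n .z (.n (.n (.n .z (.n .z (.n (.c 12) (.c 2)))) (.n (.n (.c 9) (.c 7)) (.n (.c 4) (.n (.c 9) (.c 1))))) (.n (.n (.n (.c 4) (.c 5)) (.n (.c 5) (.n .z (.c 5)))) (.n (.n (.c 8) .z) (.n (.c 4) (.n .z (.c 3))))))) (.n (.n (.n (.n (.n (.c 11) (.c 8)) (.n (.c 9) (.c 3))) (.n (.n (.c 8) (.c 9)) (.n (.c 12) (.n (.c 4) (.c 10))))) (.n (.n (.n (.c 7) (.c 10)) (.n (.c 9) (.n (.c 7) (.c 3)))) (.n (.n (.c 7) (.c 7)) (.n (.c 6) (.n (.c 2) (.c 4)))))) (.n (.n (.n (.n (.c 6) (.c 4)) (.n (.c 10) (.n (.c 4) (.c 12)))) (.n (.n (.c 7) (.c 7)) (.n .z (.n (.c 11) (.c 7))))) (.n (.n (.n (.c 6) (.c 5)) (.n (.c 6) (.n (.c 8) (.c 3)))) (.n (.n (.c 3) (.c 5)) (.n (.c 4) (.n (.c 4) .z)))))))))))))))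

/-- the rows of generator 8 -/
def rows8 : RT CT :=
  (.node (.node (.node (.node (.node (.node (.leaf (.n (.n (.n (.n (.n (.n (.c 12) .z) .z) .z) .z) .z) .z))
  (.leaf (.n (.n (.n (.n (.n (.n .z (.c 12)) .z) .z) .z) .z) .z)))
  (.node (.leaf (.n (.n (.n (.n (.n .z (.n (.c 12) .z)) .z) .z) .z) .z))
  (.leaf (.n (.n (.n (.n (.n .z (.n .z (.c 12))) .z) .z) .z) .z))))
  (.node (.node (.leaf (.n (.n (.n (.n .z (.n (.n (.c 12) .z) .z)) .z) .z) .z))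
  (.leaf (.n (.n (.n (.n .z (.n (.n .z (.c 12)) (.n (.c 12) .z))) .z) .z) .z)))
  (.node (.leaf (.n (.n (.n (.n .z (.n .z (.n (.c 1) .z))) .z) .z) .z))
  (.node (.leaf (.n (.n (.n .z (.n .z (.n (.n (.c 1) .z) .z))) .z) .z))
  (.leaf (.n (.n .z (.n (.n (.n (.n (.c 1) .z) .z) .z) .z)) .z))))))
  (.node (.node (.node (.leaf (.n (.n (.n (.n .z (.n .z (.n .z (.n (.c 1) (.c 1))))) (.n (.n (.n (.c 5) (.c 2)) (.n (.c 10) (.n (.c 8) (.c 7)))) (.n (.n (.c 7) (.c 7)) (.n (.c 1) (.n (.c 7) (.c 5)))))) (.n (.n (.n (.n (.c 7) (.c 3)) (.n (.c 5) .z)) .z) .z)) .z))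
  (.leaf (.n (.n (.n (.n .z (.n .z (.n .z (.n .z (.c 3))))) (.n (.n (.n (.c 9) (.c 12)) (.n (.c 1) (.n (.c 9) (.c 4)))) (.n (.n (.c 9) .z) (.n (.c 7) (.n (.c 9) (.c 11)))))) (.n (.n (.n (.n (.c 2) (.c 11)) (.n (.c 9) .z)) .z) .z)) .z)))
  (.node (.leaf (.n (.n (.n (.n .z (.n .z (.n .z (.n (.c 8) (.c 9))))) (.n (.n (.n (.c 12) (.c 7)) (.n (.c 7) (.n (.c 6) (.c 1)))) (.n (.n (.c 7) (.c 5)) (.n (.c 3) (.n (.c 9) .z))))) (.n (.n (.n (.n (.c 5) (.c 6)) (.n (.c 2) .z)) .z) .z)) .z))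
  (.node (.leaf (.n (.n (.n (.n .z (.n .z (.n .z (.n (.c 12) (.c 5))))) (.n (.n (.n (.c 10) (.c 9)) (.n (.c 7) (.n (.c 5) (.c 3)))) (.n (.n (.c 9) (.c 12)) (.n (.c 5) (.n (.c 8) (.c 1)))))) (.n (.n (.n (.n (.c 5) (.c 5)) (.n (.c 12) .z)) .z) .z)) .z))
  (.leaf (.n (.n (.n (.n .z (.n .z (.n .z (.n (.c 11) (.c 6))))) (.n (.n (.n (.c 4) (.c 1)) (.n (.c 10) (.n (.c 7) (.c 3)))) (.n (.n (.c 12) (.c 4)) (.n (.c 5) (.n (.c 9) .z))))) (.n (.n (.n (.n (.c 1) (.c 2)) (.n (.c 9) .z)) .z) .z)) .z)))))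
  (.node (.node (.leaf (.n (.n (.n (.n .z (.n .z (.n .z (.n (.c 1) .z)))) .z) .z) .z))
  (.leaf (.n (.n (.n (.n .z (.n .z (.n .z (.n (.c 6) (.c 2))))) (.n (.n (.n (.c 5) (.c 6)) (.n (.c 4) (.n (.c 11) (.c 8)))) (.n (.n (.c 11) (.c 7)) (.n (.c 3) (.n (.c 8) (.c 2)))))) (.n (.n (.n (.n (.c 7) (.c 9)) (.n (.c 2) .z)) .z) .z)) .z)))
  (.node (.leaf (.n (.n (.n (.n .z (.n .z (.n .z (.n (.c 4) (.c 1))))) (.n (.n (.n (.c 4) (.c 12)) (.n (.c 4) (.n (.c 4) .z))) (.n .z (.n (.c 4) (.n (.c 9) (.c 6)))))) (.n (.n (.n (.n (.c 7) (.c 2)) (.n (.c 4) .z)) .z) .z)) .z))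
  (.node (.leaf (.n (.n (.n (.n .z (.n .z (.n .z (.n .z (.c 12))))) (.n (.n (.n (.c 1) (.c 7)) (.n .z (.n (.c 7) (.c 8)))) (.n (.n (.c 9) (.c 8)) (.n (.c 11) (.n (.c 11) (.c 9)))))) (.n (.n (.n (.n (.c 11) (.c 7)) (.n (.c 11) .z)) .z) .z)) .z))
  (.leaf (.n (.n (.n (.n .z (.n .z (.n .z (.n (.c 8) .z)))) (.n (.n (.n (.c 9) (.c 10)) (.n .z (.n (.c 6) (.c 4)))) (.n (.n (.c 4) (.c 9)) (.n (.c 6) (.n (.c 1) (.c 7)))))) (.n (.n (.n (.n (.c 2) (.c 11)) (.n (.c 4) .z)) .z) .z)) .z)))))))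
  (.node (.node (.node (.node (.leaf (.n (.n (.n (.n .z (.n .z (.n .z (.n .z (.c 1))))) .z) .z) .z))
  (.leaf (.n (.n (.n (.n .z (.n .z (.n .z (.n (.c 6) (.c 5))))) (.n (.n (.n (.c 9) (.c 3)) (.n (.c 10) (.n (.c 7) (.c 10)))) (.n (.n (.c 3) (.c 6)) (.n (.c 7) (.n (.c 9) (.c 2)))))) (.n (.n (.n (.n (.c 7) (.c 10)) (.n (.c 10) .z)) .z) .z)) .z)))
  (.node (.leaf (.n (.n (.n (.n .z (.n .z (.n .z (.n (.c 12) (.c 12))))) (.n (.n (.n (.c 3) (.c 9)) (.n (.c 3) (.n (.c 3) .z))) (.n (.n (.c 9) .z) (.n (.c 7) (.n (.c 10) (.c 11)))))) (.n (.n (.n (.n (.c 10) (.c 8)) (.n (.c 2) .z)) .z) .z)) .z))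
  (.node (.leaf (.n (.n .z (.n .z (.n (.n (.n (.c 1) .z) .z) .z))) .z))
  (.leaf (.n (.n .z (.n .z (.n .z (.n (.n .z (.c 1)) .z)))) .z)))))
  (.node (.node (.leaf (.n .z (.n (.n (.n (.n .z (.n (.c 1) .z)) .z) .z) .z)))
  (.leaf (.n .z (.n (.n (.n .z (.n .z (.n .z (.n (.c 1) .z)))) .z) .z))))
  (.node (.leaf (.n .z (.n (.n .z (.n (.n .z (.n (.c 1) .z)) .z)) .z)))
  (.node (.leaf (.n .z (.n (.n .z (.n .z (.n (.n (.c 1) .z) .z))) .z)))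
  (.leaf (.n .z (.n (.n .z (.n .z (.n .z (.n (.c 1) .z)))) .z)))))))
  (.node (.node (.node (.leaf (.n (.n .z (.n (.n (.n .z (.n .z (.n (.c 1) .z))) .z) .z)) .z))
  (.leaf (.n .z (.n .z (.n (.n (.n .z (.n .z (.n .z (.c 1)))) .z) .z)))))
  (.node (.leaf (.n .z (.n .z (.n (.n .z (.n .z (.n .z (.n (.c 1) .z)))) .z))))
  (.node (.leaf (.n .z (.n .z (.n .z (.n (.n .z (.n (.c 1) .z)) .z)))))
  (.leaf (.n (.n .z (.n (.n (.n .z (.n .z (.n (.c 2) (.c 2)))) (.n (.n (.c 1) (.c 11)) (.n (.c 11) (.n (.c 9) (.c 7))))) (.n (.n (.n (.c 1) (.c 5)) (.n (.c 11) (.n (.c 11) (.c 9)))) (.n (.n (.c 7) (.c 1)) (.n (.c 1) .z))))) (.n (.n (.n .z (.n (.n (.c 2) .z) (.n (.c 5) (.n (.c 11) (.c 3))))) (.n (.n (.n (.c 12) (.c 7)) (.n (.c 9) (.n .z (.c 9)))) (.n (.n (.c 12) .z) (.n .z (.n .z (.c 5)))))) (.n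 (.n .z (.n (.n .z (.c 2)) (.n (.c 5) (.n (.c 11) (.c 3))))) (.n (.n (.n (.c 12) (.c 7)) (.n (.c 9) (.n (.c 9) .z))) .z))))))))
  (.node (.node (.leaf (.n (.n .z (.n (.n (.n .z (.n .z (.n (.c 12) (.c 12)))) (.n (.n (.c 11) (.c 10)) (.n (.c 3) (.n (.c 6) (.c 11))))) (.n (.n (.n (.c 1) (.c 3)) (.n (.c 10) (.n (.c 3) (.c 6)))) (.n (.n (.c 11) (.c 1)) (.n (.c 11) .z))))) (.n (.n (.n .z (.n (.n (.c 9) .z) (.n (.c 3) (.n (.c 10) (.c 7))))) (.n (.n (.n (.c 2) (.c 12)) (.n (.c 7) (.n .z (.c 8)))) (.n .z (.n (.c 12) (.n .z (.c 3)))))) (.n (.n .z (.n (.n .z (.c 9)) (.n (.c 3) (.n (.c 10) (.c 7))))) (.n (.n (.n (.c 2) (.c 12)) (.n (.c 7) (.n (.c 8) .z))) .z)))))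
  (.leaf (.n (.n .z (.n (.n (.n .z (.n .z (.n .z (.c 1)))) .z) .z)) .z)))
  (.node (.leaf (.n (.n .z (.n (.n (.n .z (.n .z (.n (.c 6) (.c 6)))) (.n (.n (.c 3) (.c 7)) (.n (.c 9) (.n (.c 1) (.c 2))))) (.n (.n (.n (.c 2) (.c 7)) (.n (.c 7) (.n (.c 9) (.c 1)))) (.n (.n (.c 2) (.c 2)) (.n (.c 3) .z))))) (.n (.n (.n (.n .z (.n (.c 12) .z)) (.n (.n (.c 8) .z) (.n (.c 7) (.n (.c 7) (.c 12))))) (.n (.n (.n (.c 9) (.c 2)) (.n (.c 1) (.n .z (.c 10)))) (.n .z (.n .z (.n .z (.c 7)))))) (.n (.n .z (.n (.n .z (.c 8)) (.n (.c 7) (.n (.c 7) (.c 12))))) (.n (.n (.n (.c 9) (.c 2)) (.n (.c 1) (.n (.c 10) .z))) .z)))))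
  (.node (.leaf (.n (.n .z (.n (.n (.n .z (.n .z (.n (.c 11) (.c 12)))) (.n (.n (.c 12) (.c 7)) (.n (.c 9) (.n (.c 2) (.c 5))))) (.n (.n (.n (.c 5) (.c 5)) (.n (.c 3) (.n (.c 5) (.c 8)))) (.n (.n (.c 1) .z) (.n (.c 5) (.n (.c 5) (.c 12))))))) (.n (.n (.n (.n (.n (.c 2) (.c 10)) (.n (.c 9) (.c 3))) (.n (.n (.c 2) (.c 2)) (.n (.c 6) (.n (.c 10) (.c 4))))) (.n (.n (.n (.c 5) (.c 6)) (.n (.c 1) (.n (.c 12) .z))) (.n (.n (.c 11) (.c 5)) (.n (.c 3) (.n (.c 10) (.c 3)))))) (.n (.n (.n (.n (.c 1) (.c 3)) (.n (.c 3) (.n (.c 1) (.c 11)))) (.n (.n (.c 2) (.c 11)) (.n (.c 5) (.n (.c 12) (.c 9))))) (.n (.n (.n (.c 3) (.c 5)) (.n (.c 5) (.n .z (.c 2)))) (.n (.n (.c 9) (.c 9)) (.n (.c 9) (.n (.c 8) .z))))))))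
  (.leaf (.n (.n .z (.n (.n (.n .z (.n .z (.n (.c 7) (.c 5)))) (.n (.n (.c 5) (.c 12)) (.n (.c 2) (.n (.c 8) (.c 10))))) (.n (.n (.n (.c 8) (.c 7)) (.n (.c 11) (.n (.c 8) (.c 8)))) (.n (.n (.c 5) (.c 2)) (.n (.c 10) (.n (.c 12) (.c 11))))))) (.n (.n (.n (.n (.n (.c 11) (.c 5)) (.n (.c 5) (.c 12))) (.n (.n (.c 8) (.c 6)) (.n (.c 11) (.n .z (.c 6))))) (.n (.n (.n (.c 9) (.c 7)) (.n (.c 12) (.n (.c 8) (.c 8)))) (.n (.n (.c 12) (.c 9)) (.n .z (.n (.c 11) .z))))) (.n (.n (.n (.n (.c 10) (.c 5)) (.n (.c 4) (.n (.c 7) .z))) (.n (.n (.c 4) (.c 4)) (.n (.c 11) (.n (.c 4) (.c 10))))) (.n (.n (.n (.c 1) .z) (.n (.c 5) (.n (.c 2) (.c 3)))) (.n (.n (.c 4) (.c 2)) (.n (.c 11) (.n (.c 7) .z))))))))))))))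
  (.node (.node (.node (.node (.node (.leaf (.n (.n .z (.n (.n (.n .z (.n .z (.n (.c 4) (.c 1)))) (.n (.n .z (.c 1)) (.n (.c 8) (.n .z (.c 11))))) (.n (.n (.n (.c 8) (.c 2)) (.n (.c 10) (.n (.c 4) (.c 9)))) (.n (.n (.c 2) (.c 6)) (.n (.c 8) (.n (.c 10) (.c 8))))))) (.n (.n (.n (.n (.n (.c 1) (.c 8)) (.n (.c 5) (.c 10))) (.n (.n (.c 2) (.c 6)) (.n (.c 6) (.n (.c 12) (.c 12))))) (.n (.n (.n (.c 2) (.c 11)) (.n (.c 6) (.n (.c 8) (.c 10)))) (.n (.n (.c 8) (.c 2)) (.n (.c 3) (.n .z (.c 6)))))) (.n (.n (.n (.n (.c 6) (.c 9)) (.n .z (.n (.c 3) (.c 6)))) (.n (.n (.c 3) (.c 1)) (.n (.c 11) (.n (.c 8) (.c 8))))) (.n (.n (.n (.c 10) (.c 10)) (.n (.c 11) (.n (.c 8) (.c 6)))) (.n (.n (.c 3) (.c 11)) (.n (.c 1) (.n (.c 10) (.c 5)))))))))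
  (.leaf (.n (.n .z (.n (.n (.n .z (.n .z (.n (.c 5) (.c 8)))) (.n (.n (.c 3) (.c 2)) (.n (.c 7) (.n (.c 8) .z)))) (.n (.n (.n (.c 11) (.c 5)) (.n (.c 6) (.n (.c 7) (.c 10)))) (.n (.n (.c 8) (.c 2)) (.n (.c 10) (.n (.c 8) (.c 4))))))) (.n (.n (.n (.n (.n (.c 6) (.c 3)) (.n (.c 12) (.c 3))) (.n (.n (.c 8) (.c 6)) (.n (.c 4) (.n (.c 5) (.c 4))))) (.n (.n (.n (.c 12) (.c 2)) (.n (.c 6) (.n .z (.c 12)))) (.n (.n (.c 7) (.c 12)) (.n (.c 7) (.n (.c 9) (.c 2)))))) (.n (.n (.n (.n .z (.c 12)) (.n (.c 7) (.n (.c 5) (.c 1)))) (.n (.n (.c 8) (.c 1)) (.n (.c 2) (.n (.c 4) (.c 10))))) (.n (.n (.n (.c 8) (.c 10)) (.n (.c 3) (.n (.c 4) (.c 8)))) (.n (.n (.c 8) (.c 3)) (.n (.c 5) (.n (.c 11) (.c 3))))))))))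
  (.node (.leaf (.n (.n .z (.n (.n .z (.n (.n (.c 1) .z) .z)) .z)) .z))
  (.leaf (.n (.n .z (.n (.n (.n .z (.n .z (.n (.c 12) (.c 4)))) (.n (.n (.c 1) (.c 9)) (.n (.c 3) (.n (.c 12) (.c 2))))) (.n (.n (.n (.c 4) (.c 6)) (.n (.c 5) (.n (.c 8) (.c 10)))) (.n (.n (.c 10) (.c 1)) (.n (.c 6) (.n (.c 11) (.c 5))))))) (.n (.n (.n (.n (.n (.c 7) (.c 2)) (.n (.c 3) (.c 10))) (.n (.n (.c 2) (.c 2)) (.n (.c 6) (.n (.c 9) (.c 7))))) (.n (.n (.n (.c 8) (.c 10)) (.n (.c 5) (.n (.c 7) .z))) (.n (.n (.c 8) (.c 8)) (.n (.c 9) (.n (.c 1) (.c 5)))))) (.n (.n (.n (.n .z (.c 5)) (.n (.c 11) (.n (.c 12) (.c 2)))) (.n (.n (.c 7) (.c 1)) (.n (.c 8) (.n (.c 9) (.c 6))))) (.n (.n (.n (.c 10) (.c 4)) (.n (.c 11) (.n (.c 10) (.c 10)))) (.n (.n (.c 7) (.c 6)) (.n (.c 4) (.n (.c 7) (.c 2)))))))))))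
  (.node (.node (.leaf (.n (.n .z (.n (.n (.n .z (.n .z (.n (.c 5) (.c 5)))) (.n (.n (.c 6) (.c 6)) (.n (.c 4) (.n (.c 5) (.c 8))))) (.n (.n (.n (.c 2) (.c 9)) (.n (.c 7) (.n (.c 8) (.c 2)))) (.n (.n (.c 2) .z) (.n (.c 5) (.n (.c 6) .z)))))) (.n (.n (.n (.n (.n (.c 12) (.c 9)) (.n (.c 11) (.c 6))) (.n (.n (.c 12) (.c 5)) (.n (.c 8) (.n (.c 10) (.c 10))))) (.n (.n (.n (.c 4) (.c 1)) (.n (.c 1) (.n (.c 9) (.c 7)))) (.n (.n (.c 12) (.c 4)) (.n (.c 1) (.n (.c 8) (.c 3)))))) (.n (.n (.n (.n (.c 9) (.c 7)) (.n (.c 2) (.n (.c 6) (.c 5)))) (.n (.n (.c 7) (.c 4)) (.n (.c 10) (.n (.c 8) (.c 12))))) (.n (.n (.n (.c 12) (.c 4)) (.n (.c 5) (.n (.c 1) .z))) (.n (.n (.c 10) (.c 4)) (.n (.c 5) (.n (.c 12) (.c 9)))))))))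
  (.leaf (.n (.n .z (.n (.n (.n .z (.n .z (.n (.c 2) (.c 3)))) (.n (.n (.c 7) (.c 11)) (.n (.c 10) (.n (.c 2) (.c 11))))) (.n (.n (.n (.c 10) (.c 10)) (.n (.c 7) (.n (.c 4) (.c 8)))) (.n (.n (.c 10) (.c 9)) (.n (.c 5) (.n .z (.c 7))))))) (.n (.n (.n (.n (.n (.c 1) (.c 12)) (.n (.c 10) (.c 9))) (.n (.n (.c 2) (.c 2)) (.n (.c 12) (.n (.c 2) (.c 5))))) (.n (.n (.n (.c 5) (.c 6)) (.n (.c 1) (.n (.c 12) .z))) (.n (.n (.c 10) (.c 5)) (.n (.c 3) (.n (.c 10) (.c 3)))))) (.n (.n (.n (.n (.c 6) (.c 3)) (.n (.c 3) (.n (.c 1) (.c 11)))) (.n (.n (.c 2) (.c 11)) (.n (.c 1) (.n (.c 8) (.c 8))))) (.n (.n (.n (.c 3) (.c 5)) (.n (.c 5) (.n .z (.c 2)))) (.n (.n (.c 2) (.c 9)) (.n (.c 8) (.n (.c 10) (.c 8))))))))))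
  (.node (.leaf (.n (.n .z (.n (.n (.n .z (.n .z (.n (.c 6) (.c 7)))) (.n (.n (.c 3) (.c 11)) (.n (.c 11) (.n (.c 10) (.c 6))))) (.n (.n (.n .z (.c 1)) (.n (.c 2) (.n (.c 4) (.c 3)))) (.n (.n (.c 4) .z) (.n (.c 10) (.n (.c 2) (.c 7))))))) (.n (.n (.n (.n (.n (.c 11) (.c 6)) (.n (.c 7) (.c 3))) (.n (.n (.c 4) (.c 10)) (.n (.c 8) (.n (.c 10) (.c 1))))) (.n (.n (.n (.c 10) (.c 12)) (.n (.c 2) (.n (.c 11) .z))) (.n (.n (.c 9) (.c 10)) (.n (.c 5) (.n (.c 7) (.c 6)))))) (.n (.n (.n (.n (.c 6) (.c 6)) (.n (.c 6) (.n (.c 2) (.c 9)))) (.n (.n (.c 4) (.c 9)) (.n (.c 12) (.n (.c 11) (.c 12))))) (.n (.n (.n (.c 6) (.c 10)) (.n (.c 10) (.n .z (.c 4)))) (.n (.n (.c 2) (.c 5)) (.n (.c 12) (.n (.c 2) (.c 9)))))))))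
  (.node (.leaf (.n (.n .z (.n (.n .z (.n (.n .z (.c 1)) .z)) .z)) .z))
  (.leaf (.n (.n .z (.n (.n (.n .z (.n .z (.n (.c 2) (.c 4)))) (.n (.n (.c 1) (.c 3)) (.n (.c 2) (.n (.c 8) (.c 1))))) (.n (.n (.n (.c 12) (.c 12)) (.n (.c 3) (.n .z (.c 11)))) (.n (.n (.c 8) (.c 4)) (.n (.c 2) (.n (.c 6) .z)))))) (.n (.n (.n (.n (.n (.c 4) (.c 8)) (.n (.c 4) (.c 8))) (.n (.n (.c 6) (.c 8)) (.n (.c 4) (.n (.c 1) .z)))) (.n (.n (.n (.c 2) (.c 5)) (.n (.c 2) (.n (.c 10) .z))) (.n (.n (.c 7) (.c 2)) (.n (.c 9) (.n (.c 4) (.c 9)))))) (.n (.n (.n (.n .z (.c 9)) (.n (.c 9) (.n (.c 3) (.c 7)))) (.n (.n (.c 6) (.c 7)) (.n (.c 7) (.n (.c 1) (.c 12))))) (.n (.n (.n (.c 9) (.c 2)) (.n (.c 2) (.n .z (.c 6)))) (.n (.n .z (.c 1)) (.n (.c 12) (.n (.c 2) (.c 3)))))))))))))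
  (.node (.node (.node (.leaf (.n (.n .z (.n (.n (.n .z (.n .z (.n (.c 6) (.c 7)))) (.n (.n (.c 7) (.c 9)) (.n (.c 5) (.n (.c 8) (.c 4))))) (.n (.n (.n (.c 3) (.c 10)) (.n (.c 10) (.n (.c 9) .z))) (.n (.n (.c 2) (.c 7)) (.n (.c 4) (.n (.c 3) (.c 4))))))) (.n (.n (.n (.n (.n (.c 9) (.c 7)) (.n .z (.c 11))) (.n (.n (.c 12) (.c 1)) (.n (.c 2) (.n (.c 3) (.c 5))))) (.n (.n (.n (.c 4) (.c 1)) (.n (.c 7) (.n (.c 7) (.c 6)))) (.n (.n (.c 11) (.c 1)) (.n (.c 4) (.n (.c 6) (.c 7)))))) (.n (.n (.n (.n (.c 8) (.c 11)) (.n (.c 7) (.n (.c 8) (.c 11)))) (.n (.n (.c 6) (.c 8)) (.n (.c 6) (.n (.c 10) (.c 3))))) (.n (.n (.n (.c 1) (.c 4)) (.n (.c 8) (.n (.c 8) (.c 3)))) (.n (.n (.c 6) (.c 10)) (.n (.c 9) (.n (.c 9) (.c 5)))))))))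
  (.leaf (.n (.n .z (.n (.n (.n .z (.n .z (.n (.c 2) (.c 12)))) (.n (.n (.c 6) (.c 9)) (.n (.c 2) (.n (.c 1) .z)))) (.n (.n (.n (.c 11) (.c 3)) (.n (.c 6) (.n (.c 2) (.c 7)))) (.n (.n (.c 11) .z) (.n (.c 7) (.n (.c 11) (.c 10))))))) (.n (.n (.n (.n (.n (.c 9) (.c 10)) (.n (.c 9) (.c 11))) (.n (.n (.c 11) (.c 8)) (.n (.c 4) (.n (.c 4) (.c 11))))) (.n (.n (.n (.c 6) (.c 5)) (.n (.c 12) (.n (.c 6) (.c 10)))) (.n (.n (.c 12) (.c 6)) (.n (.c 10) (.n (.c 4) (.c 7)))))) (.n (.n (.n (.n (.c 12) (.c 1)) (.n (.c 8) (.n (.c 9) (.c 3)))) (.n (.n (.c 11) (.c 4)) (.n .z (.n (.c 9) (.c 6))))) (.n (.n (.n (.c 5) (.c 5)) (.n (.c 12) (.n (.c 4) (.c 9)))) (.n (.n (.c 5) (.c 11)) (.n (.c 10) (.n (.c 10) (.c 8))))))))))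
  (.node (.leaf (.n (.n .z (.n (.n .z (.n .z (.n (.c 1) .z))) .z)) .z))
  (.node (.leaf (.n (.n .z (.n (.n (.n .z (.n .z (.n (.c 10) (.c 1)))) (.n (.n (.c 2) .z) (.n (.c 2) (.n (.c 1) .z)))) (.n (.n (.n (.c 8) (.c 10)) (.n (.c 10) (.n (.c 2) (.c 10)))) (.n (.n (.c 1) (.c 1)) (.n (.c 8) (.n (.c 7) (.c 10))))))) (.n (.n (.n (.n (.n (.c 1) (.c 4)) (.n (.c 6) (.c 7))) (.n (.n (.c 11) (.c 9)) (.n (.c 3) (.n (.c 1) .z)))) (.n (.n (.n (.c 12) (.c 1)) (.n (.c 1) (.n (.c 12) (.c 1)))) (.n (.n (.c 3) (.c 12)) (.n (.c 6) (.n (.c 3) (.c 5)))))) (.n (.n (.n (.n (.c 6) (.c 5)) (.n (.c 11) (.n (.c 5) (.c 4)))) (.n (.n (.c 2) (.c 10)) (.n (.c 2) (.n (.c 8) (.c 11))))) (.n (.n (.n (.c 10) (.c 11)) (.n (.c 1) (.n (.c 12) (.c 9)))) (.n (.n (.c 7) (.c 4)) (.n (.c 11) (.n (.c 2) (.c 2)))))))))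
  (.leaf (.n (.n .z (.n (.n (.n .z (.n .z (.n (.c 1) (.c 1)))) (.n (.n .z (.c 1)) (.n (.c 4) (.n (.c 5) .z)))) (.n (.n (.n (.c 2) (.c 3)) (.n (.c 10) (.n (.c 9) (.c 3)))) (.n (.n (.c 7) (.c 3)) (.n (.c 3) (.n (.c 12) (.c 9))))))) (.n (.n (.n (.n (.n (.c 9) (.c 3)) (.n (.c 3) (.c 9))) (.n (.n (.c 4) (.c 1)) (.n (.c 8) (.n (.c 12) (.c 4))))) (.n (.n (.n (.c 10) (.c 7)) (.n (.c 11) (.n (.c 3) (.c 3)))) (.n (.n (.c 11) (.c 12)) (.n (.c 12) (.n (.c 1) (.c 11)))))) (.n (.n (.n (.n .z (.c 2)) (.n (.c 12) (.n (.c 5) (.c 7)))) (.n (.n (.c 9) (.c 5)) (.n (.c 9) (.n (.c 9) (.c 6))))) (.n (.n (.n (.c 9) (.c 7)) (.n (.c 7) (.n (.c 12) (.c 10)))) (.n (.n (.c 9) (.c 5)) (.n (.c 2) (.n .z (.c 12))))))))))))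
  (.node (.node (.leaf (.n (.n .z (.n (.n .z (.n .z (.n .z (.n (.c 1) .z)))) .z)) .z))
  (.leaf (.n (.n .z (.n (.n (.n .z (.n .z (.n (.c 12) (.c 6)))) (.n (.n (.c 7) .z) (.n (.c 7) (.n (.c 1) (.c 10))))) (.n (.n (.n (.c 1) (.c 2)) (.n (.c 11) (.n (.c 10) (.c 12)))) (.n (.n (.c 8) (.c 12)) (.n (.c 2) (.n (.c 1) (.c 8))))))) (.n (.n (.n (.n .z (.n (.c 9) (.c 1))) (.n (.n (.c 4) (.c 10)) (.n (.c 12) (.n (.c 10) (.c 2))))) (.n (.n (.n (.c 7) (.c 2)) (.n (.c 5) (.n (.c 9) (.c 2)))) (.n (.n (.c 11) (.c 6)) (.n (.c 8) (.n (.c 7) (.c 5)))))) (.n (.n (.n (.n (.c 9) (.c 3)) (.n (.c 12) (.n (.c 4) (.c 6)))) (.n (.n (.c 8) (.c 2)) (.n (.c 1) (.n (.c 10) (.c 2))))) (.n (.n (.n (.c 7) (.c 4)) (.n (.c 9) (.n (.c 4) (.c 1)))) (.n (.n (.c 8) .z) (.n (.c 10) (.n (.c 12) (.c 2))))))))))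
  (.node (.leaf (.n (.n .z (.n (.n .z (.n .z (.n .z (.n .z (.c 1))))) .z)) .z))
  (.node (.leaf (.n (.n .z (.n (.n (.n .z (.n .z (.n (.c 12) (.c 7)))) (.n (.n (.c 12) (.c 5)) (.n (.c 6) (.n (.c 2) (.c 2))))) (.n (.n (.n .z (.c 10)) (.n (.c 3) (.n (.c 3) .z))) (.n (.n (.c 9) (.c 4)) (.n (.c 3) (.n (.c 11) (.c 3))))))) (.n (.n (.n (.n (.n (.c 9) (.c 2)) (.n (.c 8) (.c 5))) (.n (.n .z (.c 7)) (.n (.c 3) (.n (.c 9) (.c 8))))) (.n (.n (.n (.c 2) (.c 11)) (.n (.c 9) (.n .z (.c 7)))) (.n (.n (.c 10) (.c 1)) (.n (.c 5) (.n (.c 11) (.c 6)))))) (.n (.n (.n (.n .z (.c 9)) (.n (.c 1) (.n (.c 8) (.c 3)))) (.n (.n (.c 6) (.c 5)) (.n (.c 2) (.n (.c 9) (.c 1))))) (.n (.n (.n (.c 2) (.c 1)) (.n (.c 12) (.n (.c 12) (.c 1)))) (.n (.n (.c 7) (.c 9)) (.n (.c 11) (.n (.c 9) .z))))))))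
  (.leaf (.n (.n .z (.n (.n (.n .z (.n .z (.n (.c 6) (.c 6)))) (.n (.n (.c 9) (.c 6)) (.n (.c 4) (.n (.c 12) (.c 11))))) (.n (.n (.n (.c 10) (.c 5)) (.n (.c 6) (.n (.c 4) (.c 12)))) (.n (.n (.c 11) (.c 10)) (.n (.c 9) .z))))) (.n (.n (.n .z (.n (.n (.c 5) .z) (.n (.c 6) (.n (.c 6) (.c 1))))) (.n (.n (.n (.c 4) (.c 11)) (.n (.c 12) (.n .z (.c 3)))) (.n .z (.n .z (.n .z (.c 5)))))) (.n (.n (.n .z (.n .z (.n .z (.c 12)))) (.n (.n .z (.c 5)) (.n (.c 6) (.n (.c 6) (.c 1))))) (.n (.n (.n (.c 4) (.c 11)) (.n (.c 12) (.n (.c 3) .z))) .z))))))))))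
  (.node (.node (.node (.node (.leaf (.n (.n .z (.n (.n (.n .z (.n .z (.n (.c 3) .z))) (.n (.n (.c 12) (.c 2)) (.n (.c 10) (.n (.c 5) (.c 12))))) (.n (.n (.n (.c 6) .z) (.n (.c 1) (.n .z (.c 2)))) (.n (.n (.c 5) .z) (.n (.c 11) (.n (.c 7) .z)))))) (.n (.n (.n (.n (.n (.c 9) (.c 5)) (.n (.c 9) (.c 5))) (.n (.n (.c 7) (.c 5)) (.n (.c 9) (.n (.c 4) (.c 12))))) (.n (.n (.n (.c 11) (.c 8)) (.n (.c 10) (.n (.c 3) .z))) (.n (.n (.c 6) (.c 11)) (.n (.c 4) (.n (.c 9) (.c 4)))))) (.n (.n (.n (.n (.c 12) (.c 4)) (.n (.c 4) (.n (.c 10) (.c 5)))) (.n (.n (.c 7) (.c 6)) (.n (.c 6) (.n (.c 3) (.c 1))))) (.n (.n (.n (.c 4) (.c 11)) (.n (.c 11) (.n .z (.c 7)))) (.n (.n .z (.c 12)) (.n (.c 1) (.n (.c 11) (.c 10)))))))))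
  (.leaf (.n (.n .z (.n (.n (.n .z (.n .z (.n .z (.c 12)))) .z) (.n (.n (.n .z (.c 12)) (.n .z (.n (.c 12) .z))) (.n (.n .z (.c 12)) .z)))) (.n .z (.n (.n (.n (.n .z (.c 12)) (.n .z (.n .z (.c 12)))) .z) (.n (.n .z (.n (.c 12) .z)) .z))))))
  (.node (.leaf (.n (.n .z (.n (.n (.n .z (.n .z (.n (.c 4) (.c 6)))) (.n (.n (.c 8) (.c 11)) (.n (.c 9) (.n .z (.c 1))))) (.n (.n (.n (.c 2) (.c 12)) (.n (.c 1) (.n (.c 12) (.c 6)))) (.n (.n (.c 11) .z) (.n (.c 6) (.n (.c 12) (.c 7))))))) (.n (.n (.n (.n (.n (.c 5) (.c 7)) (.n (.c 2) (.c 12))) (.n (.n (.c 3) (.c 2)) (.n (.c 10) (.n (.c 6) (.c 1))))) (.n (.n (.n (.c 6) (.c 1)) (.n (.c 6) (.n (.c 7) (.c 3)))) (.n (.n (.c 4) (.c 5)) (.n (.c 1) (.n .z (.c 10)))))) (.n (.n (.n (.n (.c 2) (.c 3)) (.n (.c 12) (.n (.c 1) (.c 1)))) (.n (.n (.c 1)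 (.c 7)) (.n (.c 3) (.n (.c 9) (.c 4))))) (.n (.n (.n .z (.c 5)) (.n (.c 12) (.n (.c 11) (.c 2)))) (.n (.n (.c 1) (.c 8)) (.n (.c 9) (.n (.c 12) (.c 6)))))))))
  (.node (.leaf (.n (.n .z (.n (.n (.n .z (.n .z (.n (.c 3) (.c 10)))) (.n (.n (.c 8) (.c 2)) (.n (.c 12) (.n (.c 2) (.c 8))))) (.n (.n (.n (.c 3) (.c 12)) (.n (.c 10) (.n (.c 9) (.c 7)))) (.n (.n (.c 9) (.c 2)) (.n (.c 3) (.n (.c 11) (.c 5))))))) (.n (.n (.n (.n (.n (.c 5) (.c 4)) (.n (.c 4) .z)) (.n (.n (.c 8) (.c 8)) (.n (.c 4) (.n .z (.c 4))))) (.n (.n (.n (.c 3) (.c 9)) (.n (.c 3) (.n (.c 8) (.c 12)))) (.n (.n (.c 10) .z) (.n (.c 11) (.n (.c 6) .z))))) (.n (.n (.n (.n (.c 6) (.c 2)) (.n (.c 10) (.n (.c 12) (.c 12)))) (.n (.n (.c 12) (.c 10)) (.n (.c 9) (.n (.c 6) (.c 4))))) (.n (.n (.n (.c 3) (.c 4)) (.n .z (.n (.c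 8) (.c 3)))) (.n (.n (.c 7) (.c 7)) (.n (.c 6) (.n (.c 8) (.c 11)))))))))
  (.leaf (.n (.n .z (.n .z (.n (.n (.n .z (.c 1)) .z) .z))) .z)))))
  (.node (.node (.leaf (.n (.n .z (.n (.n (.n .z (.n .z (.n (.c 7) (.c 3)))) (.n (.n (.c 11) (.c 11)) (.n .z (.n (.c 4) (.c 5))))) (.n (.n (.n (.c 11) (.c 3)) (.n (.c 6) (.n .z (.c 2)))) (.n (.n (.c 5) (.c 3)) (.n (.c 9) (.n (.c 12) (.c 6))))))) (.n (.n (.n (.n (.n (.c 9) (.c 10)) (.n .z (.c 12))) (.n (.n (.c 7) (.c 9)) (.n (.c 8) (.n (.c 10) (.c 1))))) (.n (.n (.n (.c 12) (.c 3)) (.n (.c 5) (.n (.c 12) (.c 5)))) (.n (.n (.c 9) (.c 12)) (.n (.c 9) (.n (.c 3) (.c 5)))))) (.n (.n (.n (.n (.c 3) .z) (.n (.c 7) (.n (.c 5) (.c 6)))) (.n (.n (.c 2) (.c 10)) (.n (.c 10) (.n (.c 4) (.c 9))))) (.n (.n (.n (.c 9) (.c 4)) (.n (.c 6) (.n (.c 8) (.c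 7)))) (.n (.n (.c 3) (.c 4)) (.n (.c 6) (.n .z (.c 2)))))))))
  (.leaf (.n (.n .z (.n (.n (.n .z (.n .z (.n (.c 6) (.c 6)))) (.n (.n (.c 7) (.c 6)) (.n (.c 7) (.n (.c 8) (.c 5))))) (.n (.n (.n (.c 9) (.c 4)) (.n (.c 5) (.n (.c 3) (.c 11)))) (.n (.n (.c 11) (.c 11)) (.n (.c 8) (.n (.c 7) .z)))))) (.n (.n (.n (.n (.n (.c 1) (.c 4)) (.n (.c 2) (.c 7))) (.n (.n .z (.c 8)) (.n (.c 5) (.n (.c 2) (.c 3))))) (.n (.n (.n (.c 9) (.c 12)) (.n (.c 10) (.n (.c 4) (.c 6)))) (.n (.n (.c 1) (.c 9)) (.n (.c 12) (.n (.c 5) (.c 10)))))) (.n (.n (.n (.n (.c 4) (.c 6)) (.n (.c 11) (.n (.c 7) (.c 8)))) (.n (.n (.c 6) (.c 8)) (.n (.c 3) (.n (.c 4) (.c 1))))) (.n (.n (.n (.c 1) (.c 9)) (.n (.c 6) (.n (.c 12) .z))) (.n (.n (.c 3) (.c 9)) (.n (.c 8) (.n (.c 1) (.c 4))))))))))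
  (.node (.leaf (.n (.n .z (.n (.n (.n .z (.n .z (.n (.c 8) (.c 7)))) (.n (.n (.c 12) (.c 5)) (.n (.c 12) (.n (.c 10) (.c 8))))) (.n (.n (.n (.c 12) (.c 9)) (.n (.c 1) (.n (.c 6) (.c 4)))) (.n (.n (.c 10) (.c 12)) (.n (.c 5) (.n (.c 11) (.c 6))))))) (.n (.n (.n (.n (.n (.c 2) (.c 7)) (.n (.c 6) (.c 10))) (.n (.n .z (.c 3)) (.n (.c 1) (.n (.c 6) (.c 5))))) (.n (.n (.n (.c 1) (.c 2)) (.n (.c 4) (.n (.c 2) (.c 5)))) (.n (.n (.c 4) (.c 3)) (.n (.c 8) (.n (.c 6) (.c 4)))))) (.n (.n (.n (.n (.c 7) (.c 7)) (.n (.c 7) (.n (.c 11) (.c 4)))) (.n (.n (.c 9) (.c 8)) (.n (.c 10) (.n (.c 5) (.c 7))))) (.n (.n (.n (.c 5) (.c 4)) (.n (.c 9) (.n (.c 5) (.c 9)))) (.n (.n (.c 11) (.c 8)) (.n (.c 1) (.n (.c 11) (.c 4)))))))))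
  (.node (.leaf (.n (.n .z (.n .z (.n (.n .z (.n (.c 1) .z)) .z))) .z))
  (.leaf (.n (.n .z (.n (.n (.n .z (.n .z (.n (.c 9) (.c 7)))) (.n (.n (.c 12) (.c 8)) (.n (.c 10) (.n (.c 5) (.c 12))))) (.n (.n (.n (.c 12) (.c 1)) (.n (.c 8) (.n (.c 12) (.c 2)))) (.n (.n (.c 5) (.c 7)) (.n (.c 11) (.n (.c 7) .z)))))) (.n (.n (.n (.n (.n (.c 9) (.c 5)) (.n (.c 9) (.c 5))) (.n (.n (.c 7) (.c 5)) (.n (.c 9) (.n (.c 10) (.c 12))))) (.n (.n (.n (.c 11) (.c 8)) (.n (.c 10) (.n (.c 3) .z))) (.n (.n (.c 6) (.c 11)) (.n (.c 4) (.n (.c 9) (.c 4)))))) (.n (.n (.n (.n .z (.c 4)) (.n (.c 4) (.n (.c 10) (.c 6)))) (.n (.n (.c 7) (.c 6)) (.n (.c 6) (.n (.c 10) .z)))) (.n (.n (.n (.c 4) (.c 11)) (.n (.c 10) (.n .z (.c 7)))) (.n (.n .z (.c 12)) (.n (.c 1) (.n (.c 11) (.c 10)))))))))))))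
  (.node (.node (.node (.leaf (.n (.n .z (.n (.n (.n .z (.n .z (.n (.c 6) (.c 5)))) (.n (.n (.c 10) (.c 9)) (.n (.c 12) (.n (.c 6) (.c 11))))) (.n (.n (.n (.c 5) (.c 10)) (.n (.c 8) (.n (.c 8) (.c 1)))) (.n (.n .z (.c 1)) (.n .z (.n (.c 10) (.c 9))))))) (.n (.n (.n (.n (.n (.c 4) (.c 6)) (.n .z (.c 2))) (.n (.n (.c 9) (.c 12)) (.n (.c 5) (.n (.c 2) (.c 7))))) (.n (.n (.n (.c 4) (.c 1)) (.n (.c 2) (.n (.c 6) (.c 4)))) (.n (.n (.c 2) (.c 12)) (.n (.c 9) (.n (.c 7) .z))))) (.n (.n (.n (.n (.c 5) (.c 2)) (.n (.c 6) (.n (.c 5) (.c 2)))) (.n (.n (.c 7) .z) (.n (.c 1) (.n (.c 8) (.c 9))))) (.n (.n (.n (.c 7) (.c 11)) (.n (.c 1) (.n (.c 2) (.c 10)))) (.n (.n (.c 7) (.c 3)) (.n (.c 4) (.n (.c 4) (.c 8)))))))))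
  (.leaf (.n (.n .z (.n (.n (.n .z (.n .z (.n (.c 1) (.c 4)))) (.n (.n (.c 9) (.c 7)) (.n (.c 10) (.n (.c 6) (.c 1))))) (.n (.n (.n (.c 3) (.c 7)) (.n (.c 10) (.n (.c 10) .z))) (.n (.n (.c 3) (.c 1)) (.n (.c 8) (.n (.c 2) (.c 3))))))) (.n (.n (.n (.n (.n (.c 4) (.c 3)) (.n (.c 4) (.c 2))) (.n (.n (.c 6) (.c 5)) (.n (.c 6) (.n (.c 12) (.c 8))))) (.n (.n (.n (.c 5) (.c 8)) (.n (.c 9) (.n (.c 7) (.c 8)))) (.n (.n (.c 1) (.c 7)) (.n (.c 3) (.n (.c 9) (.c 3)))))) (.n (.n (.n (.n (.c 1) (.c 12)) (.n (.c 5) (.n (.c 4) (.c 10)))) (.n (.n (.c 2) .z) (.n (.c 10) (.n (.c 7) .z)))) (.n (.n (.n (.c 6) (.c 8)) (.n (.c 9) (.n (.c 1) (.c 4)))) (.n (.n (.c 8) (.c 2)) (.n (.c 3) (.n (.c 3) (.c 5))))))))))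
  (.node (.leaf (.n (.n .z (.n .z (.n (.n .z (.n .z (.n (.c 1) .z))) .z))) .z))
  (.node (.leaf (.n (.n .z (.n (.n (.n .z (.n .z (.n (.c 12) (.c 12)))) (.n (.n (.c 6) (.c 7)) (.n (.c 11) (.n (.c 3) (.c 3))))) (.n (.n (.n (.c 5) (.c 1)) (.n (.c 11) (.n (.c 6) (.c 5)))) (.n (.n (.c 9) (.c 4)) (.n (.c 3) (.n (.c 1) (.c 4))))))) (.n (.n (.n (.n (.n (.c 4) (.c 10)) (.n (.c 10) (.c 4))) (.n (.n (.c 8) (.c 12)) (.n (.c 9) (.n (.c 9) (.c 1))))) (.n (.n (.n (.c 10) (.c 9)) (.n (.c 5) (.n (.c 10) (.c 11)))) (.n (.n (.c 2) (.c 1)) (.n (.c 1) (.n (.c 12) (.c 6)))))) (.n (.n (.n (.n .z (.c 11)) (.n (.c 1) (.n (.c 8) (.c 6)))) (.n (.n (.c 4) (.c 7)) (.n (.c 8) (.n (.c 12) (.c 12))))) (.n (.n (.n (.c 11) (.c 9)) (.n (.c 9) (.n (.c 2) (.c 3)))) (.n (.n (.c 4) (.c 8)) (.n (.c 11) (.n .z (.c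 1)))))))))
  (.leaf (.n (.n .z (.n (.n (.n .z (.n .z (.n (.c 1) (.c 5)))) (.n (.n (.c 8) (.c 6)) (.n (.c 1) (.n (.c 9) (.c 11))))) (.n (.n (.n (.c 9) (.c 8)) (.n (.c 9) (.n (.c 12) (.c 9)))) (.n (.n (.c 12) (.c 12)) (.n (.c 11) (.n (.c 3) (.c 3))))))) (.n (.n (.n (.n (.n (.c 6) (.c 11)) (.n (.c 6) (.c 3))) (.n (.n (.c 6) (.c 8)) (.n (.c 3) (.n (.c 3) (.c 1))))) (.n (.n (.n (.c 10) (.c 6)) (.n (.c 6) (.n (.c 2) (.c 7)))) (.n (.n (.c 3) (.c 12)) (.n (.c 1) (.n (.c 6) (.c 10)))))) (.n (.n (.n (.n (.c 9) (.c 11)) (.n (.c 1) (.n (.c 5) (.c 6)))) (.n (.n (.c 1) (.c 5)) (.n (.c 3) (.n (.c 4) (.c 2))))) (.n (.n (.n (.c 8) (.c 1)) (.n (.c 4) (.n (.c 12) (.c 3)))) (.n (.n (.c 1) (.c 7)) (.n (.c 6) (.n (.c 5) .z)))))))))))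
  (.node (.node (.leaf (.n (.n .z (.n (.n (.n .z (.n .z (.n (.c 2) (.c 10)))) (.n (.n (.c 12) (.c 9)) (.n (.c 1) (.n (.c 12) (.c 6))))) (.n (.n (.n (.c 3) (.c 2)) (.n (.c 5) (.n .z (.c 8)))) (.n (.n (.c 2) (.c 12)) (.n (.c 2) (.n (.c 9) (.c 9))))))) (.n (.n (.n (.n (.n (.c 4) (.c 1)) (.n .z (.c 12))) (.n (.n (.c 9) (.c 9)) (.n (.c 1) (.n (.c 6) (.c 2))))) (.n (.n (.n .z (.c 10)) (.n (.c 7) (.n (.c 7) .z))) (.n (.n (.c 7) .z) (.n (.c 1) (.n (.c 2) (.c 5)))))) (.n (.n (.n (.n (.c 12) (.c 5)) (.n (.c 12) .z)) (.n (.n (.c 4) (.c 1)) (.n .z (.n (.c 5) (.c 11))))) (.n (.n (.n .z (.c 4)) (.n (.c 10) (.n (.c 3) (.c 1)))) (.n (.n (.c 9) (.c 11)) (.n .z (.n (.c 11) (.c 11)))))))))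
  (.leaf (.n (.n .z (.n (.n (.n .z (.n .z (.n (.c 6) (.c 1)))) (.n (.n (.c 10) (.c 1)) (.n (.c 2) (.n (.c 4) (.c 6))))) (.n (.n (.n (.c 12) (.c 3)) (.n (.c 12) (.n (.c 6) (.c 5)))) (.n (.n (.c 7) (.c 11)) (.n .z (.n .z (.c 8))))))) (.n (.n (.n (.n (.n (.c 10) (.c 12)) (.n (.c 10) (.c 3))) (.n (.n (.c 7) (.c 5)) (.n (.c 11) (.n (.c 12) .z)))) (.n (.n (.n (.c 5) (.c 12)) (.n (.c 12) (.n (.c 2) (.c 10)))) (.n (.n (.c 7) (.c 5)) (.n (.c 12) (.n (.c 7) (.c 3)))))) (.n (.n (.n (.n (.c 12) (.c 2)) (.n (.c 12) (.n (.c 1) (.c 12)))) (.n (.n (.c 10) (.c 8)) (.n (.c 3) (.n (.c 2) (.c 10))))) (.n (.n (.n (.c 1) (.c 3)) (.n (.c 8) (.n (.c 1) (.c 3)))) (.n (.n (.c 9) (.c 10)) (.n (.c 2) (.n (.c 6) (.c 5))))))))))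
  (.node (.leaf (.n (.n .z (.n (.n (.n .z (.n .z (.n (.c 10) (.c 12)))) (.n (.n (.c 2) (.c 1)) (.n (.c 10) (.n (.c 10) (.c 2))))) (.n (.n (.n (.c 5) (.c 7)) (.n (.c 2) (.n (.c 7) (.c 2)))) (.n (.n (.c 11) (.c 4)) (.n (.c 7) (.n (.c 10) (.c 8))))))) (.n (.n (.n (.n (.n .z (.c 4)) (.n (.c 12) (.c 10))) (.n (.n (.c 4) (.c 4)) (.n (.c 10) (.n (.c 3) (.c 4))))) (.n (.n (.n .z (.c 7)) (.n (.c 10) (.n (.c 2) (.c 3)))) (.n (.n (.c 12) .z) (.n (.c 6) (.n (.c 4) (.c 3)))))) (.n (.n (.n (.n (.c 4) .z) (.n (.c 9) (.n .z (.c 1)))) (.n (.n (.c 3) (.c 6)) (.n (.c 1) (.n (.c 12) (.c 2))))) (.n (.n (.n (.c 12) (.c 5)) (.n (.c 4) (.n (.c 5) .z))) (.n (.n (.c 9) (.c 3)) (.n (.c 8) (.n (.c 9) (.c 1)))))))))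
  (.node (.leaf (.n (.n .z (.n (.n (.n .z (.n .z (.n (.c 3) (.c 11)))) (.n (.n (.c 12) (.c 1)) (.n (.c 5) (.n (.c 5) (.c 1))))) (.n (.n (.n .z (.c 5)) (.n (.c 5) (.n (.c 5) .z))) (.n (.n .z (.c 9)) (.n (.c 6) (.n (.c 8) (.c 4))))))) (.n (.n (.n (.n (.n (.c 12) (.c 10)) (.n (.c 7) (.c 2))) (.n (.n (.c 1) (.c 7)) (.n (.c 8) (.n (.c 9) (.c 5))))) (.n (.n (.n (.c 4) (.c 12)) (.n (.c 5) (.n (.c 2) (.c 1)))) (.n (.n (.c 10) (.c 4)) (.n .z (.n (.c 10) (.c 5)))))) (.n (.n (.n (.n (.c 5) (.c 8)) (.n .z (.n (.c 6) (.c 3)))) (.n (.n (.c 1) (.c 3)) (.n (.c 11) (.n (.c 9) (.c 7))))) (.n (.n (.n (.c 12) (.c 6)) (.n .z (.n (.c 9) (.c 1)))) (.n (.n (.c 11) (.c 5)) (.n (.c 12) (.n (.c 6) (.c 3)))))))))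
  (.leaf (.n (.n .z (.n (.n (.n .z (.n .z (.n (.c 6) (.c 7)))) (.n (.n (.c 2) (.c 4)) (.n (.c 2) (.n (.c 11) (.c 2))))) (.n (.n (.n (.c 4) (.c 4)) (.n (.c 11) (.n (.c 10) (.c 12)))) (.n (.n .z (.c 11)) (.n (.c 9) (.n (.c 10) .z)))))) (.n (.n (.n (.n (.n (.c 6) (.c 9)) (.n (.c 7) (.c 8))) (.n (.n (.c 10) .z) (.n (.c 10) (.n (.c 5) (.c 5))))) (.n (.n (.n (.c 10) (.c 8)) (.n (.c 10) (.n (.c 9) (.c 5)))) (.n (.n (.c 9) (.c 10)) (.n (.c 1) (.n (.c 1) (.c 1)))))) (.n (.n (.n (.n (.c 4) (.c 9)) (.n (.c 10) (.n (.c 2) (.c 8)))) (.n (.n (.c 1) (.c 4)) (.n (.c 4) (.n .z (.c 5))))) (.n (.n (.n .z (.c 6)) (.n (.c 1) (.n (.c 11) (.c 2)))) (.n (.n (.c 5) (.c 1)) (.n (.c 4) (.n (.c 2) (.c 7))))))))))))))))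

/-- the rows of a generator -/
def rowsOf : ℕ → RT CT
  | 0 => rows0
  | 1 => rows1
  | 2 => rows2
  | 3 => rows3
  | 4 => rows4
  | 5 => rows5
  | 6 => rows6
  | 7 => rows7
  | 8 => rows8
  | _ => rows0

end CfsgLib.Spor.Fi22GL
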