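import Cfsg.Agent.Lib.Spor.Fi22GL.Data
import Cfsg.Agent.Lib.KnownB.Fi22Mult.Pres

/-! Products along words of the nine generators, packed and as matrices. -/

set_option autoImplicit false
set_option maxRecDepth 100000

namespace CfsgLib.Spor.Fi22GL

open CfsgLib.KnownB.Fi22Mult

/-- the shape, with indices below 78 -/
def idT : RT (Fin 78) := natT.map fun k => ⟨k % 78, Nat.mod_lt _ (by decide)⟩

/-- a row of a generator -/
def rowG (g : ℕ) (i : Fin 78) : CT := (rowsOf g).flat.getD i .z

/-- the indicator of a position -/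
def ind (i : Fin 78) (j : ℕ) : ℕ := bif Nat.beq i.val j then 1 else 0

/-- the packed identity -/
def idRows : RT ℕ := idT.map fun i => pack 78 (ind i)

/-- left multiplication by a generator -/
def mulL (g : ℕ) (P : RT ℕ) : RT ℕ := (rowsOf g).map fun C => red msk (dotN C P)

/-- the packed product along a word -/
def prodP : List ℕ → RT ℕ
  | [] => idRows
  | g :: w => mulL g (prodP w)

/-- comparison of trees -/
def beqT : RT ℕ → RT ℕ → Bool
  | .leaf x, .leaf y => Nat.beq x y
  | .node a b, .node c d => beqT a c && beqT b d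
  | _, _ => false

theorem beqT_sound : ∀ {s t : RT ℕ}, beqT s t = true → s = t
  | .leaf x, .leaf y, h => by rw [Nat.eq_of_beq_eq_true h]
  | .node a b, .node c d, h => by
    simp only [beqT, Bool.and_eq_true] at h
    rw [beqT_sound h.1, beqT_sound h.2]
  | .leaf _, .node _ _, h => by simp [beqT] at h
  | .node _ _, .leaf _, h => by simp [beqT] at h

theorem beqT_refl : ∀ t : RT ℕ, beqT t t = true
  | .leaf x => by simp [beqT]
  | .node a b => by simp [beqT, beqT_refl a, beqT_refl b]

theorem pack_congr : ∀ (n : ℕ) {f g : ℕ → ℕ}, (∀ j < n, f j = g j) → pack n f = pack n g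
  | 0, _, _, _ => rfl
  | n + 1, f, g, h => by
    rw [pack, pack, h 0 (Nat.succ_pos n), pack_congr n fun j hj => h (j + 1) (by omega)]

/-- two words have the same packed product -/
def sameW (u w : List ℕ) : Bool := beqT (prodP u) (prodP w)

/-- all rows of a generator are light enough for a lane -/
def wtOK : Bool := (List.range 9).all fun g => (rowsOf g).flat.all fun C => Nat.ble C.wt 936

theorem wtOK_true : wtOK = true := by decide +kernel

theorem msk_eq : msk = mask 78 := by decide +kernel

theorem rowsOf_eq : ∀ g < 9, rowsOf g = idT.map (rowG g) := by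
  intro g hg
  interval_cases g <;> rfl

theorem mem_idT (i : Fin 78) : i ∈ idT.flat := by
  have h : ((List.finRange 78).all fun i => idT.flat.any fun j => Nat.beq j.val i.val) = true := by
    decide +kernel
  simp only [List.all_eq_true, List.any_eq_true] at h
  obtain ⟨j, hj, e⟩ := h i (List.mem_finRange i)
  rwa [← Fin.ext (Nat.eq_of_beq_eq_true e)]

theorem wt_le (g : ℕ) (hg : g < 9) (i : Fin 78) : (rowG g i).wt ≤ 936 := by
  have h := wtOK_true
  simp only [wtOK, List.all_eq_true, List.mem_range] at h
  rw [rowG, List.getD_eq_getElem?_getD]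
  cases e : (rowsOf g).flat[(i : ℕ)]? with
  | none => simp [CT.wt]
  | some C => exact Nat.le_of_ble_eq_true (h g hg C (List.mem_of_getElem? e))

/-- a generator as a matrix -/
def gM (g : ℕ) : Matrix (Fin 78) (Fin 78) (ZMod 13) :=
  fun i j => dot (rowG g i) (idT.map fun k => if k = j then (1 : ZMod 13) else 0)

/-- the product of matrices along a word -/
def valM (w : List ℕ) : Matrix (Fin 78) (Fin 78) (ZMod 13) := (w.map gM).prod

theorem prodP_spec : ∀ w : List ℕ, (∀ g ∈ w, g < 9) → ∃ v : Fin 78 → ℕ → ℕ,
    (∀ i j, v i j ≤ 12) ∧ prodP w = idT.map (fun i => pack 78 (v i)) ∧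
      ∀ i j : Fin 78, ((v i j : ℕ) : ZMod 13) = valM w i j := by
  intro w
  induction w with
  | nil =>
    refine fun _ => ⟨ind, fun i j => ?_, rfl, fun i j => ?_⟩
    · unfold ind; cases Nat.beq i.val j <;> simp
    · rw [valM, List.map_nil, List.prod_nil, Matrix.one_apply]
      by_cases h : i = j
      · subst h; rw [if_pos rfl, show ind i i = 1 by simp [ind]]; rfl
      · rw [if_neg h, show ind i j = 0 by
          unfold ind
          cases e : Nat.beq i.val j
          · rfl
          · exact absurd (Fin.ext (Nat.eq_of_beq_eq_true e)) h]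
        rfl
  | cons g w ih =>
    intro hw
    obtain ⟨v, hv, hP, hM⟩ := ih fun x hx => hw x (List.mem_cons_of_mem _ hx)
    have hg := hw g List.mem_cons_self
    let d : Fin 78 → ℕ → ℕ := fun i j => dot (rowG g i) (idT.map fun k => v k j)
    have hd : ∀ i j, d i j ≤ 11232 := fun i j =>
      (dot_le (fun k => v k j) 12 (fun k => hv k j) (rowG g i) idT).trans
        ((Nat.mul_le_mul_right 12 (wt_le g hg i)).trans (by norm_num))
    refine ⟨fun i j => d i j % 13, fun i j => Nat.le_of_lt_succ (Nat.mod_lt _ (by norm_num)), ?_,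
      fun i j => ?_⟩
    · rw [prodP, mulL, rowsOf_eq g hg, RT.map_map, hP]
      refine RT.map_congr idT fun i => ?_
      show red msk (dotN (rowG g i) _) = _
      rw [dotN_map, msk_eq, red_pack _ _ (hd i)]
    · rw [ZMod.natCast_mod, valM, List.map_cons, List.prod_cons, ← valM, Matrix.mul_apply]
      show ((dot (rowG g i) (idT.map fun k => v k j) : ℕ) : ZMod 13) = _
      rw [← dot_cast, RT.map_map, dot_map]
      exact Finset.sum_congr rfl fun k _ => by rw [show ((fun x : ℕ => (x : ZMod 13)) ∘ fun k => v k j) k = _ from hM k j]; rfl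

theorem sameW_sound {u w : List ℕ} (hu : ∀ g ∈ u, g < 9) (hw : ∀ g ∈ w, g < 9)
    (h : sameW u w = true) : valM u = valM w := by
  obtain ⟨a, ha, hA, hMa⟩ := prodP_spec u hu
  obtain ⟨b, hb, hB, hMb⟩ := prodP_spec w hw
  have e := beqT_sound h
  rw [hA, hB] at e
  ext i j
  rw [← hMa, ← hMb]
  have h1 := pack_inj 78 (fun j => by have := ha i j; omega) (fun j => by have := hb i j; omega)
    (RT.eq_of_map_eq e i (mem_idT i)) j j.2
  rw [h1]

end CfsgLib.Spor.Fi22GL
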