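import Mathlib

/-! Matrices over the field of thirteen elements, a row being packed into one number in lanes of 32 bits,
and left multiplication by a matrix with a tree of sparse coefficient rows. -/

set_option autoImplicit false

namespace CfsgLib.Spor.Fi22GL

/-- a binary tree with values at the leaves -/
inductive RT (α : Type) where
  | leaf : α → RT α
  | node : RT α → RT α → RT α

/-- a row of coefficients, zero branches pruned -/
inductive CT where
  | z : CT
  | c : ℕ → CT
  | n : CT → CT → CT

/-- apply a function to the leaves -/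
def RT.map {α β : Type} (f : α → β) : RT α → RT β
  | .leaf x => .leaf (f x)
  | .node l r => .node (l.map f) (r.map f)

/-- the leaves -/
def RT.flat {α : Type} : RT α → List α
  | .leaf x => [x]
  | .node l r => l.flat ++ r.flat

/-- combination of leaves with the given coefficients -/
def dot {R : Type} [Zero R] [Add R] [Mul R] [NatCast R] : CT → RT R → R
  | .z, _ => 0
  | .c a, .leaf x => (a : R) * x
  | .c _, .node _ _ => 0
  | .n _ _, .leaf _ => 0
  | .n a b, .node l r => dot a l + dot b r

/-- combination of packed rows -/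
def dotN : CT → RT ℕ → ℕ
  | .z, _ => 0
  | .c a, .leaf x => Nat.mul a x
  | .c _, .node _ _ => 0
  | .n _ _, .leaf _ => 0
  | .n a b, .node l r => Nat.add (dotN a l) (dotN b r)

/-- sum of the coefficients -/
def CT.wt : CT → ℕ
  | .z => 0
  | .c a => a
  | .n a b => a.wt + b.wt

theorem RT.map_map {α β γ : Type} (f : α → β) (g : β → γ) : ∀ t : RT α, (t.map f).map g = t.map (g ∘ f)
  | .leaf _ => rfl
  | .node l r => by rw [RT.map, RT.map, RT.map, map_map f g l, map_map f g r]

theorem RT.eq_of_map_eq {α β : Type} {f g : α → β} : ∀ {t : RT α}, t.map f = t.map g →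
    ∀ x ∈ t.flat, f x = g x
  | .leaf y, h, x, hx => by
    rw [RT.flat, List.mem_singleton] at hx
    subst hx
    injection h
  | .node l r, h, x, hx => by
    rw [RT.map, RT.map] at h
    injection h with h1 h2
    rw [RT.flat, List.mem_append] at hx
    rcases hx with hx | hx
    exacts [eq_of_map_eq h1 x hx, eq_of_map_eq h2 x hx]

theorem RT.map_congr {α β : Type} {f g : α → β} : ∀ (t : RT α), (∀ x, f x = g x) → t.map f = t.map g
  | t, h => by rw [funext h]

theorem dot_map {R : Type} [CommSemiring R] {ι : Type} [Fintype ι] [DecidableEq ι] (f : ι → R) :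
    ∀ (C : CT) (t : RT ι),
      dot C (t.map f) = ∑ j, dot C (t.map fun k => if k = j then (1 : R) else 0) * f j := by
  intro C
  induction C with
  | z => intro t; simp [dot]
  | c a =>
    intro t
    cases t with
    | leaf x => simp [RT.map, dot, mul_ite, ite_mul]
    | node l r => simp [RT.map, dot]
  | n a b iha ihb =>
    intro t
    cases t with
    | leaf x => simp [RT.map, dot]
    | node l r =>
      simp only [RT.map, dot]
      rw [iha l, ihb r, ← Finset.sum_add_distrib]
      exact Finset.sum_congr rfl fun j _ => (add_mul _ _ _).symm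

theorem dot_cast {R : Type} [CommSemiring R] : ∀ (C : CT) (t : RT ℕ),
    (dot C (t.map fun x : ℕ => (x : R)) : R) = ((dot C t : ℕ) : R) := by
  intro C
  induction C with
  | z => intro t; simp [dot]
  | c a => intro t; cases t <;> simp [RT.map, dot]
  | n a b iha ihb =>
    intro t
    cases t with
    | leaf x => simp [RT.map, dot]
    | node l r => simp only [RT.map, dot]; rw [iha l, ihb r, Nat.cast_add]

theorem dot_le {ι : Type} (f : ι → ℕ) (M : ℕ) (hf : ∀ x, f x ≤ M) : ∀ (C : CT) (t : RT ι),
    dot C (t.map f) ≤ C.wt * M := by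
  intro C
  induction C with
  | z => intro t; simp [dot]
  | c a =>
    intro t
    cases t with
    | leaf x => simp only [RT.map, dot, CT.wt, Nat.cast_id]; exact Nat.mul_le_mul_left _ (hf x)
    | node l r => simp [RT.map, dot]
  | n a b iha ihb =>
    intro t
    cases t with
    | leaf x => simp [RT.map, dot]
    | node l r =>
      simp only [RT.map, dot, CT.wt]
      rw [Nat.add_mul]
      exact Nat.add_le_add (iha l) (ihb r)

/-- lanes of 32 bits -/
def pack : ℕ → (ℕ → ℕ) → ℕ
  | 0, _ => 0
  | n + 1, f => f 0 + 2 ^ 32 * pack n fun j => f (j + 1)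

theorem pack_add : ∀ (n : ℕ) (f g : ℕ → ℕ), pack n f + pack n g = pack n fun j => f j + g j
  | 0, _, _ => rfl
  | n + 1, f, g => by rw [pack, pack, pack, ← pack_add n]; ring

theorem pack_mul : ∀ (n : ℕ) (f : ℕ → ℕ) (a : ℕ), a * pack n f = pack n fun j => a * f j
  | 0, _, _ => by simp [pack]
  | n + 1, f, a => by rw [pack, pack, ← pack_mul n]; ring

theorem pack_zero : ∀ n : ℕ, pack n (fun _ => 0) = 0
  | 0 => rfl
  | n + 1 => by simp [pack, pack_zero n]

theorem pack_inj : ∀ (n : ℕ) {f g : ℕ → ℕ}, (∀ j, f j < 2 ^ 32) → (∀ j, g j < 2 ^ 32) →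
    pack n f = pack n g → ∀ j < n, f j = g j
  | 0, _, _, _, _, _, j, hj => absurd hj (Nat.not_lt_zero j)
  | n + 1, f, g, hf, hg, h, j, hj => by
    have h' : f 0 + 2 ^ 32 * pack n (fun j => f (j + 1)) =
        g 0 + 2 ^ 32 * pack n (fun j => g (j + 1)) := h
    have := hf 0
    have := hg 0
    cases j with
    | zero => omega
    | succ j =>
      exact pack_inj n (f := fun j => f (j + 1)) (g := fun j => g (j + 1)) (fun j => hf _) (fun j => hg _) (by omega) j (by omega)

theorem dotN_map {ι : Type} (n : ℕ) (v : ι → ℕ → ℕ) : ∀ (C : CT) (t : RT ι),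
    dotN C (t.map fun i => pack n (v i)) = pack n fun j => dot C (t.map fun i => v i j) := by
  intro C
  induction C with
  | z => intro t; simp [dotN, dot, pack_zero]
  | c a =>
    intro t
    cases t with
    | leaf x => simp [RT.map, dotN, dot, pack_mul]
    | node l r => simp [RT.map, dotN, dot, pack_zero]
  | n a b iha ihb =>
    intro t
    cases t with
    | leaf x => simp [RT.map, dotN, dot, pack_zero]
    | node l r =>
      simp only [RT.map, dotN, dot, Nat.add_eq]
      rw [iha l, ihb r, pack_add]

/-- a mask of twelve bits in every lane -/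
def mask (n : ℕ) : ℕ := pack n fun _ => 4095

/-- reduce every lane modulo thirteen -/
def red (msk X : ℕ) : ℕ :=
  Nat.sub X (Nat.mul 13 (Nat.land (Nat.shiftRight (Nat.mul X 80660) 20) msk))

theorem lanes_quot : ∀ (n : ℕ) (f : ℕ → ℕ), (∀ j, f j ≤ 11232) →
    ((pack n f * 80660) >>> 20) &&& mask n = pack n fun j => f j / 13
  | 0, _, _ => by simp [pack, mask]
  | n + 1, f, hf => by
    have ih := lanes_quot n (fun j => f (j + 1)) fun j => hf _
    rw [mask, pack, pack, pack]
    rw [mask] at ih
    rw [Nat.shiftRight_eq_div_pow] at ih ⊢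
    generalize pack n (fun j => f (j + 1)) = P at ih ⊢
    generalize pack n (fun j => f (j + 1) / 13) = Q at ih ⊢
    generalize pack n (fun _ => (4095 : ℕ)) = M at ih ⊢
    have h0 := hf 0
    generalize f 0 = x at h0 ⊢
    have e : (x + 2 ^ 32 * P) * 80660 / 2 ^ 20 = x / 13 + 2 ^ 12 * (P * 80660) := by
      rw [show (x + 2 ^ 32 * P) * 80660 = x * 80660 + 2 ^ 20 * (2 ^ 12 * (P * 80660)) by ring,
        Nat.add_mul_div_left _ _ (by positivity)]
      congr 1
      omega
    rw [e]
    generalize hA : x / 13 + 2 ^ 12 * (P * 80660) = A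
    rw [← Nat.div_add_mod (A &&& (4095 + 2 ^ 32 * M)) (2 ^ 32), Nat.and_div_two_pow, Nat.and_mod_two_pow,
      show (4095 + 2 ^ 32 * M) / 2 ^ 32 = M by omega,
      show (4095 + 2 ^ 32 * M) % 2 ^ 32 = 2 ^ 12 - 1 by omega, Nat.and_two_pow_sub_one_eq_mod,
      show A / 2 ^ 32 = P * 80660 / 2 ^ 20 by omega, ih,
      show A % 2 ^ 32 % 2 ^ 12 = x / 13 by omega]
    ring

theorem red_pack (n : ℕ) (f : ℕ → ℕ) (hf : ∀ j, f j ≤ 11232) :
    red (mask n) (pack n f) = pack n fun j => f j % 13 := by
  show pack n f - 13 * (((pack n f * 80660) >>> 20) &&& mask n) = _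
  rw [lanes_quot n f hf, pack_mul]
  have h := pack_add n (fun j => f j % 13) fun j => 13 * (f j / 13)
  rw [show (fun j => f j % 13 + 13 * (f j / 13)) = f from funext fun j => Nat.mod_add_div _ _] at h
  omega

end CfsgLib.Spor.Fi22GL
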