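import Cfsg.Agent.Lib.Spor.Fi22GL.Check
import Cfsg.Agent.Lib.Spor.Fi22.Simple

/-! The representation of `Fi₂₂` of degree 78 over the field of thirteen elements. -/

set_option autoImplicit false
set_option maxRecDepth 100000

namespace CfsgLib.Spor.Fi22GL

open Cfsg.Spor CfsgLib.KnownB.Fi22Mult

theorem sameW_of (i j : ℕ) (hi : i < 9) (hj : j < 9) :
    sameW [i, i] [] = true ∧ (i < j →
      (bif edgeB i j then sameW [i, j, i] [j, i, j] else sameW [i, j] [j, i]) = true) := by
  have h := coxOK_true
  simp only [coxOK, List.all_eq_true, List.mem_range, Bool.and_eq_true, Bool.or_eq_true] at h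
  refine ⟨(h i hi).1, fun hij => ?_⟩
  rcases (h i hi).2 j hj with h' | h'
  · exact absurd (Nat.le_of_ble_eq_true h') (by omega)
  · exact h'

theorem gM_sq (i : ℕ) (hi : i < 9) : gM i * gM i = 1 := by
  have h := sameW_sound (by simp [hi]) (by simp) (sameW_of i i hi hi).1
  simpa [valM] using h

/-- a generator as an invertible matrix -/
def gU (x : Fi22.Gen) : GL (Fin 78) (ZMod 13) :=
  ⟨gM (posG x), gM (posG x), gM_sq _ (posG_lt x), gM_sq _ (posG_lt x)⟩

/-- a numbered generator -/
def gN (i : ℕ) : GL (Fin 78) (ZMod 13) := gU (ndG i)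

theorem coe_val : ∀ w : List ℕ, (∀ i ∈ w, i < 9) →
    ((val gN w : GL (Fin 78) (ZMod 13)) : Matrix (Fin 78) (Fin 78) (ZMod 13)) = valM w := by
  intro w
  induction w with
  | nil => intro _; rfl
  | cons i w ih =>
    intro hw
    rw [val_cons, Units.val_mul, ih fun j hj => hw j (List.mem_cons_of_mem _ hj), valM, valM,
      List.map_cons, List.prod_cons]
    show gM (posG (ndG i)) * _ = _
    rw [posG_ndG i (hw i List.mem_cons_self)]

theorem val_eq {u w : List ℕ} (hu : ∀ i ∈ u, i < 9) (hw : ∀ i ∈ w, i < 9) (h : sameW u w = true) :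
    val gN u = val gN w :=
  Units.ext (by rw [coe_val u hu, coe_val w hw, sameW_sound hu hw h])

theorem gN_sq (i : ℕ) : gN i * gN i = 1 := Units.ext (gM_sq _ (posG_lt _))

theorem gN_cox (i j : ℕ) (hi : i < 9) (hj : j < 9) :
    (edgeB i j = true → i < j → (gN i * gN j) ^ 3 = 1 ∧ (gN j * gN i) ^ 3 = 1) ∧
      (edgeB i j = false → i < j → (gN i * gN j) ^ 2 = 1 ∧ (gN j * gN i) ^ 2 = 1) := by
  constructor <;> intro h hij <;> have e := (sameW_of i j hi hj).2 hij <;> rw [h] at e
  · have e' : gN i * gN j * gN i = gN j * gN i * gN j := by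
      have := val_eq (by simp [hi, hj]) (by simp [hi, hj]) e
      simpa [val, mul_assoc] using this
    have key : ∀ a b : GL (Fin 78) (ZMod 13), a * a = 1 → b * b = 1 → a * b * a = b * a * b →
        (a * b) ^ 3 = 1 := by
      intro a b ha hb hab
      calc (a * b) ^ 3 = (a * b * a) * (b * a * b) := by
            simp only [pow_succ, pow_zero, one_mul, mul_assoc]
        _ = (a * b * a) * (a * b * a) := by rw [← hab]
        _ = a * b * (a * a) * b * a := by simp only [mul_assoc]
        _ = 1 := by rw [ha, mul_one, mul_assoc a, hb, mul_one, ha]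
    exact ⟨key _ _ (gN_sq i) (gN_sq j) e', key _ _ (gN_sq j) (gN_sq i) e'.symm⟩
  · have e' : gN i * gN j = gN j * gN i := by
      have := val_eq (by simp [hi, hj]) (by simp [hi, hj]) e
      simpa [val] using this
    have key : ∀ a b : GL (Fin 78) (ZMod 13), a * a = 1 → b * b = 1 → a * b = b * a →
        (a * b) ^ 2 = 1 := by
      intro a b ha hb hab
      calc (a * b) ^ 2 = a * b * (b * a) := by rw [pow_two]; nth_rw 2 [hab]
        _ = 1 := by rw [mul_assoc, ← mul_assoc b, hb, one_mul, ha]
    exact ⟨key _ _ (gN_sq i) (gN_sq j) e', key _ _ (gN_sq j) (gN_sq i) e'.symm⟩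

theorem edgeB_symm (i j : ℕ) : edgeB i j = edgeB j i := by
  rw [edgeB, edgeB]
  simp only [Bool.or_comm]

theorem gU_cox (x y : Fi22.Gen) : (gU x * gU y) ^ coxLabel Fi22.edges x y = 1 := by
  have hN : ∀ z, gN (posG z) = gU z := fun z => congrArg gU (ndG_posG z)
  rcases label_cases x y with ⟨rfl, hl⟩ | ⟨he, hl⟩ | ⟨he, hne, hl⟩
  · rw [hl, pow_one, ← hN, gN_sq]
  · rw [hl, ← hN x, ← hN y]
    rcases lt_trichotomy (posG x) (posG y) with h | h | h
    · exact ((gN_cox _ _ (posG_lt x) (posG_lt y)).1 he h).1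
    · rw [h, gN_sq, one_pow]
    · exact ((gN_cox _ _ (posG_lt y) (posG_lt x)).1 (by rw [edgeB_symm]; exact he) h).2
  · rw [hl, ← hN x, ← hN y]
    rcases lt_trichotomy (posG x) (posG y) with h | h | h
    · exact ((gN_cox _ _ (posG_lt x) (posG_lt y)).2 he h).1
    · rw [h, gN_sq, one_pow]
    · exact ((gN_cox _ _ (posG_lt y) (posG_lt x)).2 (by rw [edgeB_symm]; exact he) h).2

attribute [local irreducible] gM

/-- the representation -/
def toGL : Fi22 →* GL (Fin 78) (ZMod 13) :=
  PresentedGroup.toGroup (f := gU) (by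
    rintro r (⟨x, -, y, -, rfl⟩ | hr)
    · simp only [map_pow, map_mul, FreeGroup.lift_apply_of]
      exact gU_cox x y
    · rw [Set.mem_ofPred_eq, extra_eq] at hr
      have key : ∀ (w : List ℕ) (n : ℕ), (∀ i ∈ repW n w, i < 9) → sameW (repW n w) [] = true →
          FreeGroup.lift gU ((w.map fun i => FreeGroup.of (ndG i)).prod ^ n) = 1 := by
        intro w n hw h
        have e : FreeGroup.lift gU (w.map fun i => FreeGroup.of (ndG i)).prod = val gN w := by
          rw [map_list_prod, List.map_map, val]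
          exact congrArg List.prod (List.map_congr_left fun i _ => FreeGroup.lift_apply_of)
        rw [map_pow, e, ← val_repW, val_eq hw (by simp) h, val_nil]
      rcases List.mem_cons.1 hr with rfl | hr
      · exact key _ _ (by decide) spider_mat
      rcases List.mem_cons.1 hr with rfl | hr
      · exact key _ _ (by decide) sevenA_mat
      · rw [List.mem_singleton.1 hr]
        exact key _ _ (by decide) sevenB_mat)

theorem toGL_gen (x : Fi22.Gen) : toGL (PresentedGroup.of x) = gU x := PresentedGroup.toGroup.of _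

theorem toGL_ne_one : toGL (PresentedGroup.of Fi22.Gen.a) ≠ 1 := by
  intro h
  rw [toGL_gen] at h
  have e : valM [0] = valM [] := by
    have e0 := congrArg Units.val h
    simpa [valM, gU, posG] using e0
  obtain ⟨a, ha, hA, hMa⟩ := prodP_spec [0] (by simp)
  obtain ⟨b, hb, hB, hMb⟩ := prodP_spec [] (by simp)
  have hne := gen0_ne
  have : sameW [0] [] = true := by
    rw [sameW, hA, hB]
    have hab : ∀ (i j : Fin 78), a i j = b i j := fun i j => by
      have := congrFun (congrFun e i) j
      rw [← hMa, ← hMb, ZMod.natCast_eq_natCast_iff'] at this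
      have := ha i j
      have := hb i j
      omega
    rw [RT.map_congr idT fun i => pack_congr 78 fun j hj => hab i ⟨j, hj⟩]
    exact beqT_refl _
  rw [this] at hne
  exact Bool.false_ne_true hne.symm

theorem toGL_injective : Function.Injective toGL := by
  have hs := CfsgLib.Spor.Fi22.isFi22.1
  rcases hs.eq_bot_or_eq_top_of_normal toGL.ker inferInstance with h | h
  · exact (MonoidHom.ker_eq_bot_iff _).1 h
  · exact absurd (MonoidHom.mem_ker.1 (h ▸ Subgroup.mem_top _)) toGL_ne_one

end CfsgLib.Spor.Fi22GL
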